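import Cfsg.Agent.Lib.Small.UMinIndex.Main
import Cfsg.Agent.Lib.Classical.UnitaryOrders

/-!
Transfer to the projective groups and the subgroups attaining the bounds.
-/

set_option autoImplicit false
set_option linter.unusedSectionVars false
set_option linter.style.haveILetI false

namespace Cfsg.Agent.Small.UMinIndex

open Matrix Cfsg.Agent.Small.Unitary Cfsg.Agent.Small.UCover

/-- The passage to the central quotient. -/
theorem psu_of_su {F : Type*} [Field F] [Fintype F] {n q B : ℕ}
    (hb : ∀ H : Subgroup (Cfsg.SU n F q), H ≠ ⊤ → B ≤ H.index)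
    (ha : ∃ H : Subgroup (Cfsg.SU n F q), Subgroup.center (Cfsg.SU n F q) ≤ H ∧ H.index = B) :
    (∀ H : Subgroup (Cfsg.PSU n F q), H ≠ ⊤ → B ≤ H.index) ∧ ∃ H : Subgroup (Cfsg.PSU n F q), H.index = B := by
  have hsurj := QuotientGroup.mk'_surjective (Subgroup.center (Cfsg.SU n F q))
  refine ⟨fun H hH => ?_, ?_⟩
  · rw [← Subgroup.index_comap_of_surjective H hsurj]
    refine hb _ fun h => hH ?_
    rw [← Subgroup.map_comap_eq_self_of_surjective hsurj H, h, Subgroup.map_top_of_surjective _ hsurj]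
  · obtain ⟨H, hle, hi⟩ := ha
    refine ⟨H.map (QuotientGroup.mk' _), ?_⟩
    rw [Subgroup.index_map_eq _ hsurj (by rw [QuotientGroup.ker_mk']; exact hle), hi]

variable {F : Type*} [Field F] [Fintype F] [StarRing F] {n q : ℕ}

theorem center_fix (hstar : ∀ x : F, star x = x ^ q) (hF : Fintype.card F = q ^ 2) (hn : 3 ≤ n)
    {g : Cfsg.SU n F q} (hg : g ∈ Subgroup.center (Cfsg.SU n F q)) {v : Fin n → F} (hv0 : v ≠ 0) :
    g ∈ lineFix q hv0 := by
  classical
  obtain ⟨p, k, s, hp, hchar, hqp, hk, hs⟩ := Classical.exists_usigma hF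
  obtain ⟨c, hc⟩ := Classical.UCount.scalar_of_commute hs (by omega) (M := g.1.1) fun x =>
    congrArg (fun y : ↥(Cfsg.SU n F q) => y.1.1) (Subgroup.mem_center_iff.mp hg x)
  exact ⟨c, by rw [act, hc, Matrix.smul_mulVec, Matrix.one_mulVec]⟩

/-- The stabiliser of an isotropic point attains the bound. -/
theorem attain_iso (hstar : ∀ x : F, star x = x ^ q) (hF : Fintype.card F = q ^ 2) (hn : 3 ≤ n) :
    ∃ H : Subgroup (Cfsg.SU n F q), Subgroup.center (Cfsg.SU n F q) ≤ H ∧ H.index = pts q n := by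
  obtain ⟨e, f, P⟩ := exists_pair hstar hF (i := (⟨0, by omega⟩ : Fin n)) (j := ⟨1, by omega⟩) (by simp [Fin.ext_iff])
  exact ⟨par1 q P, fun g hg => center_fix hstar hF hn hg (Pair.ne_zero P), index_par hstar hF P hn⟩

/-- The stabiliser of an anisotropic point over the field of four elements. -/
theorem attain_two {hstar : ∀ x : F, star x = x ^ 2} (hF : Fintype.card F = 2 ^ 2) (hn : 3 ≤ n) :
    ∃ H : Subgroup (Cfsg.SU n F 2), Subgroup.center (Cfsg.SU n F 2) ≤ H ∧ H.index = nip 2 n := by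
  classical
  set w : Fin n → F := Pi.single (⟨0, by omega⟩ : Fin n) 1 with hw
  have hww : herm w w = 1 := by rw [hw, herm_single_left]; simp
  have hw0 : w ≠ 0 := fun h => zero_ne_one ((herm_zero_left w).symm.trans (h ▸ hww))
  refine ⟨lineFix 2 hw0, fun g hg => center_fix hstar hF hn hg hw0, ?_⟩
  have hone : ∀ c : F, star c = c → c ≠ 0 → c = 1 := by
    intro c hc hc0
    have := norm_two (hstar := hstar) hF hc0
    rw [hc] at this
    have h3 := cube_eq_one (hstar := hstar) hF hc0
    calc c = c * (c * c) := by rw [this, mul_one]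
      _ = 1 := by rw [← h3]; ring
  let Ψ : (Cfsg.SU n F 2 ⧸ lineFix 2 hw0) × {c : F // c ≠ 0} → {v : {v : Fin n → F // Supp Finset.univ v} // ¬ herm v.1 v.1 = 0} :=
    fun s => ⟨⟨s.2.1 • act s.1.out w, fun k hk => absurd (Finset.mem_univ k) hk⟩, by
      show ¬ herm (s.2.1 • act s.1.out w) (s.2.1 • act s.1.out w) = 0
      rw [herm_smul_left, herm_smul_right, herm_act hstar, hww, mul_one, norm_two (hstar := hstar) hF s.2.2]
      exact one_ne_zero⟩
  have hb : Function.Bijective Ψ := by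
    refine ⟨fun ⟨x, c, hc⟩ ⟨y, d, hd⟩ h => ?_, fun ⟨⟨v, _⟩, hv0⟩ => ?_⟩
    · have h1 : c • act x.out w = d • act y.out w := congrArg (fun z => z.1.1) h
      have hxy : x = y := by
        rw [← QuotientGroup.out_eq' x, ← QuotientGroup.out_eq' y, QuotientGroup.eq]
        refine ⟨c / d, ?_⟩
        have h2 := congrArg (act x.out⁻¹) h1
        rw [act_smul, act_smul, act_inv_act, ← act_mul] at h2
        rw [div_eq_inv_mul, ← smul_smul, h2, smul_smul, inv_mul_cancel₀ hd, one_smul]
      subst hxy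
      have h2 : c • w = d • w := act_injective x.out (by rw [act_smul, act_smul]; exact h1)
      obtain rfl : c = d := smul_left_injective F hw0 h2
      rfl
    · have hvv : herm v v = 1 := hone _ (star_herm _ _) hv0
      obtain ⟨g, hg⟩ := exists_move hstar hF (on_one hww) (on_one hvv) (show 1 < n by omega)
      have hgw : act g w = v := hg 0
      obtain ⟨p, hp⟩ := QuotientGroup.mk_out_eq_mul (lineFix 2 hw0) g
      obtain ⟨d, hd⟩ := p.2
      have hd0 : d ≠ 0 := fun h => hw0 (act_injective p.1 (by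
        rw [hd, h, zero_smul]; exact (Matrix.mulVec_zero _).symm))
      refine ⟨⟨QuotientGroup.mk g, d⁻¹, inv_ne_zero hd0⟩, Subtype.ext (Subtype.ext ?_)⟩
      show d⁻¹ • act (QuotientGroup.mk g : Cfsg.SU n F 2 ⧸ lineFix 2 hw0).out w = v
      rw [hp, act_mul, hd, act_smul, hgw, smul_smul, inv_mul_cancel₀ hd0, one_smul]
  have h1 := Nat.card_congr (Equiv.ofBijective Ψ hb)
  obtain ⟨hs1, hs2⟩ := card_supp hstar hF (Finset.univ : Finset (Fin n))
  rw [Finset.card_univ, Fintype.card_fin] at hs1 hs2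
  rw [← Nat.card_congr (Equiv.sumCompl fun v : {v : Fin n → F // Supp Finset.univ v} => herm v.1 v.1 = 0),
    Nat.card_sum,
    Nat.card_congr (Equiv.subtypeSubtypeEquivSubtypeInter (fun v : Fin n → F => Supp Finset.univ v) (fun v => herm v v = 0)),
    hs2] at hs1
  have h2 : Nat.card {c : F // c ≠ 0} = 3 := by
    rw [Nat.card_eq_fintype_card, Fintype.card_subtype_compl, Fintype.card_subtype_eq, hF]; norm_num
  rw [Nat.card_prod, h2] at h1
  have ht := pts_total 2 (by omega) n
  rw [Subgroup.index]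
  rw [show (2 : ℕ) ^ 2 - 1 = 3 from rfl] at hs1
  norm_num at ht
  have h3 : (2 ^ (2 * n) : ℤ) = ((2 ^ (2 * n) : ℕ) : ℤ) := by push_cast; ring
  rw [h3] at ht
  omega

end Cfsg.Agent.Small.UMinIndex
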