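import Cfsg.Agent.Lib.Small.UMinIndex.ThreeC
import Cfsg.Agent.Lib.Small.UMinIndex.Proj

/-!
The minimal index of proper subgroups of the three-dimensional projective unitary groups.
-/

set_option autoImplicit false
set_option linter.unusedSectionVars false
set_option linter.style.haveILetI false

namespace Cfsg.Agent.Small.UMinIndex.Three

open Matrix Cfsg.Agent.Small Cfsg.Agent.Small.Unitary Cfsg.Agent.Small.UCover

variable {F : Type*} [Field F] [Fintype F] [StarRing F] {q : ℕ}

/-- Proper subgroups over the centre have index above the number of points. -/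
theorem bound_three (hstar : ∀ x : F, star x = x ^ q) (hF : Fintype.card F = q ^ 2) (hq3 : 3 ≤ q) (hq5 : q ≠ 5)
    {H : Subgroup (Cfsg.SU 3 F q)} (hZ : Subgroup.center (Cfsg.SU 3 F q) ≤ H) (hne : H ≠ ⊤) :
    q ^ 3 + 1 ≤ H.index := by
  by_contra hlt
  obtain ⟨e, f, P⟩ := exists_pair hstar hF (i := (0 : Fin 3)) (j := 1) (by decide)
  have hH : Hyp q H := ⟨hZ, hne, by omega⟩
  by_cases hall : ∀ g, ¬ NoRoot hstar e (cj g H)
  · exact caseC (hstar := hstar) hF P hq3 hH hall
  push Not at hall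
  obtain ⟨g, hg⟩ := hall
  obtain ⟨w, hw, hww⟩ := exists_w0 P
  by_cases hA : lineScal hstar P (cj g H) w = ⊥
  · exact caseA (hstar := hstar) hF P hq3 hq5 (hH.cj g) hg hw hww hA
  · obtain ⟨α, hα, hα0⟩ : ∃ α ∈ lineScal hstar P (cj g H) w, α ≠ 0 := by
      by_contra! hno
      exact hA ((AddSubgroup.eq_bot_iff_forall _).2 hno)
    exact caseB (hstar := hstar) hF P hq3 hq5 (hH.cj g) hg hw hww hα hα0

theorem psu_three (hstar : ∀ x : F, star x = x ^ q) (hF : Fintype.card F = q ^ 2) (hq3 : 3 ≤ q) (hq5 : q ≠ 5) :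
    (∀ H : Subgroup (Cfsg.PSU 3 F q), H ≠ ⊤ → q ^ 3 + 1 ≤ H.index) ∧
      ∃ H : Subgroup (Cfsg.PSU 3 F q), H.index = q ^ 3 + 1 := by
  have hsurj := QuotientGroup.mk'_surjective (Subgroup.center (Cfsg.SU 3 F q))
  refine ⟨fun H hH => ?_, ?_⟩
  · rw [← Subgroup.index_comap_of_surjective H hsurj]
    refine bound_three hstar hF hq3 hq5 (fun z hz => ?_) fun h => hH ?_
    · rw [Subgroup.mem_comap, QuotientGroup.mk'_apply, (QuotientGroup.eq_one_iff z).2 hz]
      exact one_mem H
    · rw [← Subgroup.map_comap_eq_self_of_surjective hsurj H, h, Subgroup.map_top_of_surjective _ hsurj]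
  · obtain ⟨H, hle, hi⟩ := attain_iso hstar hF (le_refl 3)
    refine ⟨H.map (QuotientGroup.mk' _), ?_⟩
    rw [Subgroup.index_map_eq _ hsurj (by rw [QuotientGroup.ker_mk']; exact hle), hi, pts_three]

end Cfsg.Agent.Small.UMinIndex.Three
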