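import Mathlib

/-!
The numbers of isotropic and of anisotropic points of unitary spaces, and their inequalities.
-/

set_option autoImplicit false

namespace Cfsg.Agent.Small.UMinIndex

/-- The number of isotropic points of an `n`-dimensional space. -/
def pts (q : ℕ) : ℕ → ℕ
  | 0 => 0
  | 1 => 0
  | n + 2 => 1 + q ^ 2 * pts q n + q ^ (2 * n + 1)

/-- The number of anisotropic points of an `n`-dimensional space. -/
def nip (q : ℕ) : ℕ → ℕ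
  | 0 => 0
  | 1 => 1
  | n + 2 => q ^ 2 * nip q n + (q - 1) * q ^ (2 * n + 1)

theorem pts_total (q : ℕ) (hq : 1 ≤ q) : ∀ n : ℕ,
    (((q : ℤ) ^ 2 - 1) * (pts q n + nip q n)) = (q : ℤ) ^ (2 * n) - 1
  | 0 => by simp [pts, nip]
  | 1 => by simp [pts, nip]
  | n + 2 => by
    have ih := pts_total q hq n
    rw [pts, nip]
    push_cast [Nat.cast_sub hq]
    rw [show 2 * (n + 2) = 2 * n + 4 by ring, pow_add (q : ℤ) (2 * n) 4, pow_succ]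
    linear_combination (q : ℤ) ^ 2 * ih

/-- The closed form of the number of isotropic vectors. -/
theorem pts_closed (q : ℕ) : ∀ n : ℕ,
    ((q : ℤ) ^ 2 - 1) * pts q n * q = ((q : ℤ) ^ n - (-1) ^ n) * ((q : ℤ) ^ n + (-1) ^ n * q)
  | 0 => by simp [pts]
  | 1 => by simp [pts]
  | n + 2 => by
    have ih := pts_closed q n
    have h1 : ((-1 : ℤ) ^ n) * (-1) ^ n = 1 := by rw [← mul_pow]; simp
    rw [pts]
    push_cast
    rw [pow_add (q : ℤ) n 2, pow_add (-1 : ℤ) n 2, show 2 * n + 1 = n + n + 1 by ring, pow_succ (q : ℤ) (n + n), pow_add (q : ℤ) n n]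
    linear_combination (q : ℤ) ^ 2 * ih + ((1 : ℤ) - (q : ℤ) ^ 2) * (q : ℤ) * h1

theorem iso_eq (q n : ℕ) (hq : 1 ≤ q) :
    (if Even n then (q ^ n - 1) * (q ^ (n - 1) + 1) else (q ^ n + 1) * (q ^ (n - 1) - 1)) =
      (q ^ 2 - 1) * pts q n := by
  rcases n with _ | m
  · simp [pts]
  have h2 : 1 ≤ q ^ 2 := Nat.one_le_pow _ _ hq
  have hm : 1 ≤ q ^ m := Nat.one_le_pow _ _ hq
  have hm1 : 1 ≤ q ^ (m + 1) := Nat.one_le_pow _ _ hq
  have hc := pts_closed q (m + 1)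
  apply Nat.cast_injective (R := ℤ)
  refine mul_right_cancel₀ (Nat.cast_ne_zero.2 (show q ≠ 0 by omega) : (q : ℤ) ≠ 0) ?_
  rw [Nat.add_sub_cancel]
  split_ifs with he
  · push_cast [Nat.cast_sub hm1, Nat.cast_sub h2]
    rw [he.neg_one_pow] at hc
    rw [hc]; ring
  · push_cast [Nat.cast_sub hm, Nat.cast_sub h2]
    rw [(Nat.not_even_iff_odd.1 he).neg_one_pow] at hc
    rw [hc]; ring

/-- The closed forms appearing in the statements. -/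
theorem bound_odd {q n : ℕ} (hq : 2 ≤ q) (hn : Odd n) :
    (q ^ n + 1) * (q ^ (n - 1) - 1) / (q ^ 2 - 1) = pts q n := by
  have h := iso_eq q n (by omega)
  rw [if_neg (Nat.not_even_iff_odd.2 hn)] at h
  rw [h, Nat.mul_div_cancel_left]
  have : 2 ^ 2 ≤ q ^ 2 := Nat.pow_le_pow_left hq 2
  omega

theorem bound_even {q n : ℕ} (hq : 2 ≤ q) (hn : Even n) :
    (q ^ n - 1) * (q ^ (n - 1) + 1) / (q ^ 2 - 1) = pts q n := by
  have h := iso_eq q n (by omega)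
  rw [if_pos hn] at h
  rw [h, Nat.mul_div_cancel_left]
  have : 2 ^ 2 ≤ q ^ 2 := Nat.pow_le_pow_left hq 2
  omega

theorem pts_lower (q : ℕ) : ∀ {n : ℕ}, 2 ≤ n → q ^ (2 * n - 3) ≤ pts q n
  | 0, h => by omega
  | 1, h => by omega
  | n + 2, _ => by
    rw [pts, show 2 * (n + 2) - 3 = 2 * n + 1 by omega]
    omega

theorem nip_lower (q : ℕ) : ∀ {n : ℕ}, 2 ≤ n → (q - 1) * q ^ (2 * n - 3) ≤ nip q n
  | 0, h => by omega
  | 1, h => by omega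
  | n + 2, _ => by
    rw [nip, show 2 * (n + 2) - 3 = 2 * n + 1 by omega]
    omega

/-- An upper bound for the number of isotropic vectors. -/
theorem pts_upper {q : ℕ} (hq : 2 ≤ q) {n : ℕ} (hn : 1 ≤ n) :
    (q ^ 2 - 1) * pts q n ≤ q ^ (2 * n - 1) + q ^ n := by
  rw [← iso_eq q n (by omega), show 2 * n - 1 = n + (n - 1) by omega, pow_add]
  have hp : q ^ (n - 1) ≤ q ^ n := Nat.pow_le_pow_right (by omega) (by omega)
  split_ifs with he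
  · calc (q ^ n - 1) * (q ^ (n - 1) + 1) ≤ q ^ n * (q ^ (n - 1) + 1) := Nat.mul_le_mul_right _ (Nat.sub_le _ _)
      _ = _ := by rw [mul_add, mul_one]
  · calc (q ^ n + 1) * (q ^ (n - 1) - 1) ≤ (q ^ n + 1) * q ^ (n - 1) := Nat.mul_le_mul_left _ (Nat.sub_le _ _)
      _ = q ^ n * q ^ (n - 1) + q ^ (n - 1) := by rw [add_mul, one_mul]
      _ ≤ _ := by omega

theorem pts_le_two {q : ℕ} (hq : 2 ≤ q) : ∀ n : ℕ, q ^ 3 * pts q n ≤ 2 * q ^ (2 * n)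
  | 0 => by simp [pts]
  | 1 => by simp [pts]
  | n + 2 => by
    have ih := pts_le_two hq n
    rw [pts, show 2 * (n + 2) = 2 * n + 4 by ring, pow_succ q (2 * n), pow_add q (2 * n) 4]
    have h1 : q ^ 3 * (q ^ 2 * pts q n) ≤ q ^ 2 * (2 * q ^ (2 * n)) := by
      calc q ^ 3 * (q ^ 2 * pts q n) = q ^ 2 * (q ^ 3 * pts q n) := by ring
        _ ≤ _ := Nat.mul_le_mul_left _ ih
    have hA : 1 ≤ q ^ (2 * n) := Nat.one_le_pow _ _ (by omega)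
    have h2 : q ^ 3 + 2 * q ^ 2 * q ^ (2 * n) ≤ q ^ 4 * q ^ (2 * n) := by
      have e1 : 2 * q ^ 3 ≤ q ^ 4 := by rw [pow_succ q 3, mul_comm 2]; exact Nat.mul_le_mul_left _ hq
      have e2 : 2 * q ^ 2 ≤ q ^ 3 := by rw [pow_succ q 2, mul_comm 2]; exact Nat.mul_le_mul_left _ hq
      calc q ^ 3 + 2 * q ^ 2 * q ^ (2 * n) ≤ q ^ 3 * q ^ (2 * n) + q ^ 3 * q ^ (2 * n) :=
            Nat.add_le_add (Nat.le_mul_of_pos_right _ hA) (Nat.mul_le_mul_right _ e2)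
        _ ≤ q ^ 4 * q ^ (2 * n) := by rw [← two_mul, ← mul_assoc]; exact Nat.mul_le_mul_right _ e1
    nlinarith

/-- Two regular orbits exceed the number of points. -/
theorem pts_le_twice {q n : ℕ} (hq : 2 ≤ q) (hn : 2 ≤ n) : pts q n ≤ 2 * q ^ (2 * n - 3) := by
  have h := pts_le_two hq n
  rw [show 2 * n = 2 * n - 3 + 3 by omega, pow_add] at h
  refine Nat.le_of_mul_le_mul_left ?_ (pow_pos (show 0 < q by omega) 3)
  calc q ^ 3 * pts q n ≤ 2 * (q ^ (2 * n - 3) * q ^ 3) := h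
    _ = _ := by ring

/-! ### The inequalities for the covering arguments -/

theorem pow_top_le {q m : ℕ} (hm : 2 ≤ m) : q ^ (2 * m + 1) ≤ q ^ 2 * q ^ 2 * pts q m := by
  calc q ^ (2 * m + 1) = q ^ 2 * q ^ 2 * q ^ (2 * m - 3) := by
        rw [← pow_add, ← pow_add]; congr 1; omega
    _ ≤ _ := Nat.mul_le_mul_left _ (pts_lower q hm)

theorem pts_pos {q m : ℕ} (hq : 2 ≤ q) (hm : 2 ≤ m) : 1 ≤ pts q m :=
  le_trans (Nat.one_le_pow _ _ (by omega)) (pts_lower q hm)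

theorem cover_aux {Q' P : ℕ} (hQ : 3 ≤ Q') (hP : 1 ≤ P) :
    (Q' + 1) * P + (Q' + 1) * (Q' + 1) * P + 1 ≤ 2 * (Q' * P * (Q' + 1)) := by
  have h1 : 3 * Q' * P ≤ Q' * Q' * P := Nat.mul_le_mul_right _ (Nat.mul_le_mul_right _ hQ)
  have h2 : 3 * P ≤ Q' * P := Nat.mul_le_mul_right _ hQ
  linarith

theorem aniso_key {x y : ℤ} (hx : 1 ≤ x) (hy : 3 ≤ y) :
    (x ^ 2 * y ^ 9 + x * y ^ 5) * (x ^ 2 * y ^ 6) ≤
      2 * (x ^ 2 * y ^ 6 - x ^ 2 * y ^ 5 - x * y ^ 3 - 1) * (x ^ 2 * y ^ 7) * (y ^ 2 - 1) := by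
  obtain ⟨u, hu0, rfl⟩ : ∃ u : ℤ, 0 ≤ u ∧ x = u + 1 := ⟨x - 1, by linarith, by ring⟩
  obtain ⟨v, hv0, rfl⟩ : ∃ v : ℤ, 0 ≤ v ∧ y = v + 3 := ⟨y - 3, by linarith, by ring⟩
  rw [← sub_nonneg]
  ring_nf
  positivity

/-- For a small group of parameters. -/
theorem small_bound {q m : ℕ} (hq : 2 ≤ q) (hm : 2 ≤ m) :
    pts q (m + 2) ≤ (q ^ 2 - 1) * pts q m * q ^ 3 := by
  have h2 := pow_top_le (q := q) hm
  have hP1 := pts_pos hq hm
  obtain ⟨P, hP⟩ : ∃ P, P = pts q m := ⟨_, rfl⟩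
  rw [pts, ← hP]
  rw [← hP] at h2 hP1
  have h4 := Nat.pow_le_pow_left hq 2
  obtain ⟨Q', hQ'⟩ : ∃ Q', q ^ 2 = Q' + 1 := ⟨q ^ 2 - 1, by omega⟩
  have h3 : 2 * (Q' + 1) ≤ q ^ 3 := by rw [← hQ', pow_succ q 2, mul_comm 2]; exact Nat.mul_le_mul_left _ hq
  have h5 : Q' * P * (2 * (Q' + 1)) ≤ Q' * P * q ^ 3 := Nat.mul_le_mul_left _ h3
  rw [hQ'] at h2 h4
  rw [hQ', Nat.add_sub_cancel]
  have h6 := cover_aux (show 3 ≤ Q' by omega) hP1
  linarith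

/-- For parameters with an alternating form. -/
theorem alternating_bound {q m : ℕ} (hq : 2 ≤ q) (hm : 4 ≤ m) :
    pts q (m + 2) ≤ 2 * ((q ^ 2 - 1) * pts q m) * q ^ (m - 2) := by
  have h2 := pow_top_le (q := q) (show 2 ≤ m by omega)
  have hP1 := pts_pos hq (show 2 ≤ m by omega)
  obtain ⟨P, hP⟩ : ∃ P, P = pts q m := ⟨_, rfl⟩
  rw [pts, ← hP]
  rw [← hP] at h2 hP1
  refine le_trans ?_ (Nat.mul_le_mul_left _ (Nat.pow_le_pow_right (show 0 < q by omega) (show 2 ≤ m - 2 by omega)))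
  have h4 := Nat.pow_le_pow_left hq 2
  obtain ⟨Q', hQ'⟩ : ∃ Q', q ^ 2 = Q' + 1 := ⟨q ^ 2 - 1, by omega⟩
  rw [hQ'] at h2 h4
  rw [hQ', Nat.add_sub_cancel]
  have h6 := cover_aux (show 3 ≤ Q' by omega) hP1
  linarith

/-- For parameters with an anisotropic member. -/
theorem anisotropic_bound {q m : ℕ} (hq : 3 ≤ q) (hm : 3 ≤ m) {a : ℕ} (ha : a ≤ q ^ m) :
    pts q (m + 2) * (a * (a - 1)) ≤ 2 * ((q ^ 2 - 1) * nip q m) * q ^ (2 * m + 1) := by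
  have ht := pts_total q (by omega) m
  have hu := pts_upper (q := q) (by omega) (show 1 ≤ m + 2 by omega)
  have hu' := pts_upper (q := q) (by omega) (show 1 ≤ m by omega)
  obtain ⟨j, rfl⟩ : ∃ j, m = j + 3 := ⟨m - 3, by omega⟩
  have hz : a * (a - 1) + q ^ (j + 3) ≤ q ^ (j + 3) * q ^ (j + 3) := by
    rcases Nat.eq_zero_or_pos a with rfl | ha0
    · simpa using Nat.le_mul_of_pos_right (q ^ (j + 3)) (pow_pos (show 0 < q by omega) _)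
    · have : a * (a - 1) ≤ q ^ (j + 3) * (q ^ (j + 3) - 1) := Nat.mul_le_mul ha (by omega)
      have h1 : 1 ≤ q ^ (j + 3) := Nat.one_le_pow _ _ (by omega)
      obtain ⟨b, hb⟩ : ∃ b, q ^ (j + 3) = b + 1 := ⟨_, (Nat.sub_add_cancel h1).symm⟩
      rw [hb, Nat.add_sub_cancel] at this
      rw [hb]; linarith
  have hQ : 1 ≤ q ^ 2 := Nat.one_le_pow _ _ (by omega)
  have hu2 : ((q : ℤ) ^ 2 - 1) * pts q (j + 3 + 2) ≤ (q : ℤ) ^ (2 * j + 9) + (q : ℤ) ^ (j + 5) := by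
    have : 2 * (j + 3 + 2) - 1 = 2 * j + 9 := by omega
    rw [this] at hu
    have := (Int.ofNat_le.2 hu)
    push_cast [Nat.cast_sub hQ] at this
    exact this
  have hu2' : ((q : ℤ) ^ 2 - 1) * pts q (j + 3) ≤ (q : ℤ) ^ (2 * j + 5) + (q : ℤ) ^ (j + 3) := by
    have : 2 * (j + 3) - 1 = 2 * j + 5 := by omega
    rw [this] at hu'
    have := (Int.ofNat_le.2 hu')
    push_cast [Nat.cast_sub hQ] at this
    exact this
  have hz2 : ((a * (a - 1) : ℕ) : ℤ) ≤ (q : ℤ) ^ (j + 3) * (q : ℤ) ^ (j + 3) := by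
    have := Int.ofNat_le.2 hz
    push_cast at this ⊢
    have : (0 : ℤ) ≤ (q : ℤ) ^ (j + 3) := by positivity
    linarith
  refine Int.ofNat_le.1 ?_
  have hz0 : (0 : ℤ) ≤ ((a * (a - 1) : ℕ) : ℤ) := Int.natCast_nonneg _
  obtain ⟨z, hz'⟩ : ∃ z : ℤ, z = ((a * (a - 1) : ℕ) : ℤ) := ⟨_, rfl⟩
  rw [← hz'] at hz2 hz0
  push_cast [Nat.cast_sub hQ]
  rw [show ((a : ℤ) * ((a - 1 : ℕ) : ℤ)) = z by rw [hz']; push_cast; ring]
  obtain ⟨x, hx⟩ : ∃ x : ℤ, x = (q : ℤ) ^ j := ⟨_, rfl⟩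
  have hx1 : 1 ≤ x := hx ▸ one_le_pow₀ (by exact_mod_cast (show 1 ≤ q by omega))
  have e : ∀ b c : ℕ, (q : ℤ) ^ (b * j + c) = x ^ b * (q : ℤ) ^ c := fun b c => by
    rw [pow_add, hx, ← pow_mul, mul_comm b j]
  rw [e 2 9, show j + 5 = 1 * j + 5 by ring, e 1 5] at hu2
  rw [e 2 5, show j + 3 = 1 * j + 3 by ring, e 1 3] at hu2'
  rw [show j + 3 = 1 * j + 3 by ring, e 1 3] at hz2
  rw [show 2 * (j + 3) = 2 * j + 6 by ring, e 2 6] at ht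
  rw [show 2 * (j + 3) + 1 = 2 * j + 7 by ring, e 2 7]
  simp only [pow_one, one_mul] at hu2 hu2' hz2
  have hq3 : (3 : ℤ) ≤ q := by exact_mod_cast hq
  obtain ⟨y, hy⟩ : ∃ y : ℤ, y = (q : ℤ) := ⟨_, rfl⟩
  rw [← hy] at hu2 hu2' hz2 ht hq3 ⊢
  have hI : ((y ^ 2 - 1) * (pts q (j + 3 + 2) : ℤ)) * z ≤ (x ^ 2 * y ^ 9 + x * y ^ 5) * (x ^ 2 * y ^ 6) := by
    refine mul_le_mul hu2 (le_trans hz2 (le_of_eq (by ring))) hz0 (by positivity)
  have hN : x ^ 2 * y ^ 6 - x ^ 2 * y ^ 5 - x * y ^ 3 - 1 ≤ (y ^ 2 - 1) * (nip q (j + 3) : ℤ) := by linarith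
  have hy2 : (0 : ℤ) ≤ y ^ 2 - 1 := by nlinarith
  have key := aniso_key hx1 hq3
  have hfin : (pts q (j + 3 + 2) : ℤ) * z * (y ^ 2 - 1) ≤
      2 * ((y ^ 2 - 1) * (nip q (j + 3) : ℤ)) * (x ^ 2 * y ^ 7) * (y ^ 2 - 1) := by
    calc (pts q (j + 3 + 2) : ℤ) * z * (y ^ 2 - 1) = ((y ^ 2 - 1) * (pts q (j + 3 + 2) : ℤ)) * z := by ring
      _ ≤ _ := hI.trans key
      _ ≤ _ := by
          refine mul_le_mul_of_nonneg_right (mul_le_mul_of_nonneg_right ?_ (by positivity)) hy2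
          linarith
  exact le_of_mul_le_mul_right hfin (by nlinarith)

/-- The isotropic points lifted to the whole space are fewer than the vectors. -/
theorem lift_le {q : ℕ} (hq : 2 ≤ q) (m : ℕ) : q ^ 2 * pts q m ≤ q ^ (2 * m) := by
  have h := pts_le_two hq m
  refine Nat.le_of_mul_le_mul_left ?_ (show 0 < q by omega)
  calc q * (q ^ 2 * pts q m) = q ^ 3 * pts q m := by ring
    _ ≤ 2 * q ^ (2 * m) := h
    _ ≤ _ := Nat.mul_le_mul_right _ hq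

theorem nip_dominant {q m : ℕ} (hq : 3 ≤ q) (hm : 2 ≤ m) : q ^ 2 * pts q m ≤ (q ^ 2 - 1) * nip q m := by
  have h1 := pts_upper (q := q) (by omega) (show 1 ≤ m by omega)
  have ht := pts_total q (by omega) m
  have hQ : 1 ≤ q ^ 2 := Nat.one_le_pow _ _ (by omega)
  refine Int.ofNat_le.1 ?_
  have h2 := Int.ofNat_le.2 h1
  push_cast [Nat.cast_sub hQ] at h2 ⊢
  obtain ⟨y, hy⟩ : ∃ y : ℤ, y = (q : ℤ) := ⟨_, rfl⟩
  obtain ⟨x, hx⟩ : ∃ x : ℤ, x = (q : ℤ) ^ (m - 1) := ⟨_, rfl⟩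
  have e1 : (q : ℤ) ^ (2 * m - 1) = x ^ 2 * y := by rw [hx, hy, ← pow_mul, ← pow_succ]; congr 1; omega
  have e2 : (q : ℤ) ^ m = x * y := by rw [hx, hy, ← pow_succ]; congr 1; omega
  have e3 : (q : ℤ) ^ (2 * m) = x ^ 2 * y ^ 2 := by rw [hx, hy, ← pow_mul, ← pow_add]; congr 1; omega
  rw [e1, e2, ← hy] at h2
  rw [e3, ← hy] at ht
  rw [← hy]
  have hy3 : 3 ≤ y := hy ▸ (by exact_mod_cast hq)
  have hx3 : y ≤ x := by
    rw [hx, hy]
    calc (q : ℤ) = (q : ℤ) ^ 1 := (pow_one _).symm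
      _ ≤ _ := pow_le_pow_right₀ (by exact_mod_cast (show 1 ≤ q by omega)) (by omega)
  refine le_of_mul_le_mul_left ?_ (show (0 : ℤ) < y ^ 2 - 1 by nlinarith)
  have key : (2 * y ^ 2 - 1) * (x ^ 2 * y + x * y) ≤ (y ^ 2 - 1) * (x ^ 2 * y ^ 2 - 1) := by
    obtain ⟨v, hv0, rfl⟩ : ∃ v : ℤ, 0 ≤ v ∧ y = v + 3 := ⟨y - 3, by linarith, by ring⟩
    obtain ⟨u, hu0, rfl⟩ : ∃ u : ℤ, 0 ≤ u ∧ x = u + (v + 3) := ⟨x - (v + 3), by linarith, by ring⟩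
    rw [← sub_nonneg]
    ring_nf
    positivity
  nlinarith [mul_le_mul_of_nonneg_left h2 (show (0 : ℤ) ≤ 2 * y ^ 2 - 1 by nlinarith)]

theorem nip_two : ∀ n : ℕ, (Odd n → pts 2 n + 1 ≤ nip 2 n) ∧
    (Even n → nip 2 n ≤ pts 2 n ∧ 3 * nip 2 n * 2 = 2 ^ n * (2 ^ n - 1))
  | 0 => by simp [pts, nip]
  | 1 => by simp [pts, nip]
  | n + 2 => by
    obtain ⟨h1, h2⟩ := nip_two n
    rw [pts, nip]
    refine ⟨fun h => ?_, fun h => ?_⟩
    · have := h1 (by simpa [parity_simps] using h)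
      norm_num
      omega
    · obtain ⟨a, b⟩ := h2 (by simpa [parity_simps] using h)
      refine ⟨by norm_num; omega, ?_⟩
      obtain ⟨c, hc⟩ : ∃ c, 2 ^ n = c + 1 := ⟨2 ^ n - 1, by have := Nat.one_le_two_pow (n := n); omega⟩
      rw [hc, Nat.add_sub_cancel] at b
      rw [pow_add 2 n 2, show 2 * n + 1 = n + n + 1 by ring, pow_succ 2 (n + n), pow_add 2 n n, hc,
        show (c + 1) * 2 ^ 2 - 1 = 4 * c + 3 by omega]
      linear_combination 4 * b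

theorem bound_two {n : ℕ} (hn : Even n) (hn1 : 1 ≤ n) : 2 ^ (n - 1) * (2 ^ n - 1) / 3 = nip 2 n := by
  obtain ⟨-, h⟩ := (nip_two n).2 hn
  rw [show 2 ^ n * (2 ^ n - 1) = 2 ^ (n - 1) * (2 ^ n - 1) * 2 by
    rw [mul_right_comm (2 ^ (n - 1)), ← pow_succ, Nat.sub_add_cancel hn1]] at h
  rw [← Nat.eq_of_mul_eq_mul_right (by norm_num) h, Nat.mul_div_cancel_left _ (by norm_num)]

end Cfsg.Agent.Small.UMinIndex
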