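import Cfsg.Agent.Lib.Small.UMinIndex.Orbits

/-!
Orbits of the stabiliser of an isotropic point on the cosets of a subgroup.
-/

set_option autoImplicit false
set_option linter.unusedSectionVars false
set_option linter.style.haveILetI false

namespace Cfsg.Agent.Small.UMinIndex

open Matrix Cfsg.Agent.Small.Unitary Cfsg.Agent.Small.UCover

section Group

variable {G : Type*} [Group G]

/-- The conjugate subgroup. -/
def cj (g : G) (H : Subgroup G) : Subgroup G := H.map (MulAut.conj g).toMonoidHom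

theorem mem_cj {g x : G} {H : Subgroup G} : x ∈ cj g H ↔ g⁻¹ * x * g ∈ H := by
  constructor
  · rintro ⟨y, hy, rfl⟩
    simpa [MulAut.conj_apply, mul_assoc] using hy
  · intro h
    exact ⟨_, h, by simp [MulAut.conj_apply, mul_assoc]⟩

theorem cj_cj (g h : G) (H : Subgroup G) : cj g (cj h H) = cj (g * h) H := by
  ext x
  rw [mem_cj, mem_cj, mem_cj, _root_.mul_inv_rev]
  simp [mul_assoc]

theorem cj_one (H : Subgroup G) : cj 1 H = H := by
  ext x
  simp [mem_cj]

theorem cj_index (g : G) (H : Subgroup G) : (cj g H).index = H.index :=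
  Subgroup.index_map_equiv H (MulAut.conj g)

theorem cj_ne_top {g : G} {H : Subgroup G} (hH : H ≠ ⊤) : cj g H ≠ ⊤ := fun h => hH (eq_top_iff.2 fun x _ => by
  have := mem_cj.1 (h ▸ Subgroup.mem_top (g * x * g⁻¹) : g * x * g⁻¹ ∈ cj g H)
  simpa [mul_assoc] using this)

theorem relIndex_eq_card (H P : Subgroup G) : H.relIndex P = Nat.card (P ⧸ H.subgroupOf P) := rfl

variable [Finite G]

/-- A subgroup has at most as many cosets in another one as in the whole group. -/
theorem orbit_le (H P : Subgroup G) (g : G) : (cj g H).relIndex P ≤ H.index := by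
  rw [relIndex_eq_card, Subgroup.index]
  refine Nat.card_le_card_of_injective (fun x => QuotientGroup.mk (x.out.1 * g)) fun x y h => ?_
  rw [← QuotientGroup.out_eq' x, ← QuotientGroup.out_eq' y, QuotientGroup.eq, Subgroup.mem_subgroupOf, mem_cj]
  simpa [QuotientGroup.eq, _root_.mul_inv_rev, mul_assoc] using h

/-- Two orbits. -/
theorem two_orbits (H P : Subgroup G) {g g' : G} (h : ∀ p ∈ P, g'⁻¹ * p * g ∉ H) :
    (cj g H).relIndex P + (cj g' H).relIndex P ≤ H.index := by
  rw [relIndex_eq_card, relIndex_eq_card, ← Nat.card_sum, Subgroup.index]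
  refine Nat.card_le_card_of_injective (Sum.elim (fun x => QuotientGroup.mk (x.out.1 * g))
    (fun x => QuotientGroup.mk (x.out.1 * g'))) ?_
  rintro (x | x) (y | y) e <;> simp only [Sum.elim_inl, Sum.elim_inr, QuotientGroup.eq, _root_.mul_inv_rev] at e
  · refine congrArg Sum.inl ?_
    rw [← QuotientGroup.out_eq' x, ← QuotientGroup.out_eq' y, QuotientGroup.eq, Subgroup.mem_subgroupOf, mem_cj]
    simpa [mul_assoc] using e
  · exact absurd (by simpa [mul_assoc] using inv_mem e) (h _ (mul_mem (inv_mem y.out.2) x.out.2))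
  · exact absurd (by simpa [mul_assoc] using e) (h _ (mul_mem (inv_mem x.out.2) y.out.2))
  · refine congrArg Sum.inr ?_
    rw [← QuotientGroup.out_eq' x, ← QuotientGroup.out_eq' y, QuotientGroup.eq, Subgroup.mem_subgroupOf, mem_cj]
    simpa [mul_assoc] using e

theorem index_mul_relIndex (H P : Subgroup G) : H.index * P.relIndex H = P.index * H.relIndex P := by
  rw [mul_comm H.index, mul_comm P.index, ← Subgroup.inf_relIndex_left H P, ← Subgroup.inf_relIndex_right H P,
    Subgroup.relIndex_mul_index inf_le_left, Subgroup.relIndex_mul_index inf_le_right]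

/-- A subgroup meeting a smaller one trivially either has many cosets or covers. -/
theorem regular_cases (H P R : Subgroup G) (hRP : R ≤ P) (hR : ∀ x ∈ R, x ∈ H → x = 1)
    (hN : ∀ p ∈ P, ∀ x ∈ R, p * x * p⁻¹ ∈ R) :
    2 * Nat.card R ≤ H.relIndex P ∨ (H.relIndex P = Nat.card R ∧ ∀ p ∈ P, ∃ x ∈ R, p * x ∈ H) := by
  classical
  rw [relIndex_eq_card]
  have hinj : Function.Injective fun x : R => (QuotientGroup.mk (⟨x.1, hRP x.2⟩ : P) : P ⧸ H.subgroupOf P) := by
    intro x y h
    simp only [QuotientGroup.eq, Subgroup.mem_subgroupOf] at h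
    exact Subtype.ext (inv_mul_eq_one.1 (hR _ (mul_mem (inv_mem x.2) y.2) h))
  by_cases hs : ∀ p ∈ P, ∃ x ∈ R, p * x ∈ H
  · refine Or.inr ⟨(Nat.card_congr (Equiv.ofBijective _ ⟨hinj, fun c => ?_⟩)).symm, hs⟩
    obtain ⟨p, rfl⟩ := QuotientGroup.mk_surjective c
    obtain ⟨x, hx, hpx⟩ := hs p.1⁻¹ (inv_mem p.2)
    refine ⟨⟨x, hx⟩, (QuotientGroup.eq.2 ?_).symm⟩
    rw [Subgroup.mem_subgroupOf]
    exact hpx
  · push Not at hs
    obtain ⟨p, hp, hpR⟩ := hs
    left
    rw [two_mul, ← Nat.card_sum]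
    refine Nat.card_le_card_of_injective (Sum.elim (fun x : R => (QuotientGroup.mk (⟨x.1, hRP x.2⟩ : P) : P ⧸ H.subgroupOf P))
      (fun x : R => QuotientGroup.mk (⟨x.1 * p⁻¹, mul_mem (hRP x.2) (inv_mem hp)⟩ : P))) ?_
    have hmix : ∀ x y : R, ((QuotientGroup.mk (⟨x.1 * p⁻¹, mul_mem (hRP x.2) (inv_mem hp)⟩ : P) : P ⧸ H.subgroupOf P)) ≠
        QuotientGroup.mk (⟨y.1, hRP y.2⟩ : P) := by
      intro x y h
      simp only [QuotientGroup.eq, Subgroup.mem_subgroupOf] at h
      exact hpR _ (mul_mem (inv_mem x.2) y.2) (by simpa [mul_assoc] using h)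
    rintro (x | x) (y | y) e <;> simp only [Sum.elim_inl, Sum.elim_inr] at e
    · exact congrArg Sum.inl (hinj e)
    · exact absurd e.symm (hmix y x)
    · exact absurd e (hmix x y)
    · simp only [QuotientGroup.eq, Subgroup.mem_subgroupOf] at e
      have h1 : p * (x.1⁻¹ * y.1) * p⁻¹ ∈ H := by simpa [mul_assoc] using e
      refine congrArg Sum.inr (Subtype.ext (inv_mul_eq_one.1 ?_))
      have h2 := hR _ (hN p hp _ (mul_mem (inv_mem x.2) y.2)) h1
      rwa [conj_eq_one_iff] at h2

end Group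

variable {F : Type*} [Field F] [Fintype F] [StarRing F] {n q : ℕ}

section Finite

variable (hstar : ∀ x : F, star x = x ^ q) (hF : Fintype.card F = q ^ 2)
include hstar hF

theorem exists_move_point {i j : Fin n} {e f : Fin n → F} (P : Pair i j e f) (hn : 3 ≤ n) {v : Fin n → F}
    (hv0 : v ≠ 0) (hv : herm v v = 0) : ∃ g : Cfsg.SU n F q, act g e = v := by
  classical
  have htop : HasTrans hstar (⊤ : Subgroup (Cfsg.SU n F q)) := fun _ _ _ _ => trivial
  have hne : ((Finset.univ : Finset (Fin n)) \ {i, j}).Nonempty := by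
    rw [← Finset.card_pos, Finset.card_sdiff_of_subset (Finset.subset_univ _), Finset.card_univ, Fintype.card_fin,
      Finset.card_pair P.ne]
    omega
  obtain ⟨k, hk⟩ := hne
  obtain ⟨x, -, -, hx⟩ := moves_to_e hF htop P (Finset.mem_univ _) (Finset.mem_univ _) hk hv0 hv
    (fun m hm => absurd (Finset.mem_univ m) hm)
  exact ⟨x⁻¹, by rw [← hx, act_inv_act]⟩

/-- The number of isotropic points. -/
theorem index_par {i j : Fin n} {e f : Fin n → F} (P : Pair i j e f) (hn : 3 ≤ n) :
    (par1 q P).index = pts q n := by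
  classical
  have hq := Hermitian.q_two_le hF
  have he0 := Pair.ne_zero P
  let Ψ : (Cfsg.SU n F q ⧸ par1 q P) × {c : F // c ≠ 0} → {v : {v : Fin n → F // Supp Finset.univ v ∧ herm v v = 0} // ¬ v.1 = 0} :=
    fun s => ⟨⟨s.2.1 • act s.1.out e, fun k hk => absurd (Finset.mem_univ k) hk, by
      rw [herm_smul_left, herm_smul_right, herm_act hstar, P.ee]; ring⟩, by
      intro h
      rcases smul_eq_zero.1 h with h | h
      · exact s.2.2 h
      · exact he0 (act_injective s.1.out (h.trans (Matrix.mulVec_zero _).symm))⟩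
  have hb : Function.Bijective Ψ := by
    refine ⟨fun ⟨x, c, hc⟩ ⟨y, d, hd⟩ h => ?_, fun ⟨⟨v, _, hv⟩, hv0⟩ => ?_⟩
    · have h1 : c • act x.out e = d • act y.out e := congrArg (fun z => z.1.1) h
      have hxy : x = y := by
        rw [← QuotientGroup.out_eq' x, ← QuotientGroup.out_eq' y, QuotientGroup.eq]
        refine ⟨c / d, ?_⟩
        have h2 := congrArg (act x.out⁻¹) h1
        rw [act_smul, act_smul, act_inv_act, ← act_mul] at h2
        rw [div_eq_inv_mul, ← smul_smul, h2, smul_smul, inv_mul_cancel₀ hd, one_smul]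
      subst hxy
      have h2 : c • e = d • e := act_injective x.out (by rw [act_smul, act_smul]; exact h1)
      obtain rfl : c = d := smul_left_injective F he0 h2
      rfl
    · obtain ⟨g, hg⟩ := exists_move_point hstar hF P hn hv0 hv
      obtain ⟨p, hp⟩ := QuotientGroup.mk_out_eq_mul (par1 q P) g
      obtain ⟨d, hd⟩ := p.2
      have hd0 : d ≠ 0 := fun h => he0 (act_injective p.1 (by
        rw [hd, h, zero_smul]; exact (Matrix.mulVec_zero _).symm))
      refine ⟨⟨QuotientGroup.mk g, d⁻¹, inv_ne_zero hd0⟩, Subtype.ext (Subtype.ext ?_)⟩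
      show d⁻¹ • act (QuotientGroup.mk g : Cfsg.SU n F q ⧸ par1 q P).out e = v
      rw [hp, act_mul, hd, act_smul, hg, smul_smul, inv_mul_cancel₀ hd0, one_smul]
  have h1 := Nat.card_congr (Equiv.ofBijective Ψ hb)
  have h3 := (card_supp hstar hF (Finset.univ : Finset (Fin n))).2
  rw [Finset.card_univ, Fintype.card_fin,
    ← Nat.card_congr (Equiv.sumCompl fun v : {v : Fin n → F // Supp Finset.univ v ∧ herm v v = 0} => v.1 = 0),
    Nat.card_sum, show Nat.card {v : {v : Fin n → F // Supp Finset.univ v ∧ herm v v = 0} // v.1 = 0} = 1 from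
      Nat.card_eq_one_iff_unique.2 ⟨⟨fun a b => Subtype.ext (Subtype.ext (a.2.trans b.2.symm))⟩,
        ⟨⟨⟨0, fun _ _ => rfl, herm_zero_left _⟩, rfl⟩⟩⟩] at h3
  have h2 : Nat.card {c : F // c ≠ 0} = q ^ 2 - 1 := by
    rw [Nat.card_eq_fintype_card, Fintype.card_subtype_compl, Fintype.card_subtype_eq, hF]
  rw [Nat.card_prod, h2] at h1
  have h4 : 0 < q ^ 2 - 1 := by have := Nat.pow_le_pow_left hq 2; omega
  refine Nat.eq_of_mul_eq_mul_left h4 ?_
  rw [Subgroup.index, mul_comm, h1]
  omega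

theorem rad_conj_mem {i j : Fin n} {e f : Fin n → F} (P : Pair i j e f) {g : Cfsg.SU n F q} (hg : g ∈ par1 q P)
    {x : Cfsg.SU n F q} (hx : x ∈ rad hstar P) : g * x * g⁻¹ ∈ rad hstar P := by
  obtain ⟨z, a, hz, h, rfl⟩ := hx
  obtain ⟨a', h', e'⟩ := conj_rad hstar P hg hz h
  exact ⟨_, a', rho_mem P g z, h', e'⟩

end Finite

end Cfsg.Agent.Small.UMinIndex

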