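import Mathlib

/-!
Coverings of a set by the translates of a part under a group acting on a domain.
-/

set_option autoImplicit false

namespace Cfsg.Agent.Small.UMinIndex

variable {G : Type*} [Group G] [Finite G] {α : Type*} {act : G → α → α}
  {P St : Subgroup G} {D T O : Set α}

/-- The multiplicativity of an action on a domain. -/
def ActsOn (act : G → α → α) (P : Subgroup G) (D : Set α) : Prop :=
  (∀ g ∈ P, ∀ x ∈ D, act g x ∈ D) ∧ ∀ g ∈ P, ∀ h ∈ P, ∀ x ∈ D, act (g * h) x = act g (act h x)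

theorem exists_rep (hm : ActsOn act P D) (hle : St ≤ P) (hTD : T ⊆ D) (hT : ∀ s ∈ St, ∀ x ∈ T, act s x ∈ T)
    {g : G} (hg : g ∈ P) {x : α} (hx : x ∈ T) :
    ∃ r ∈ T, act g x = act ((QuotientGroup.mk ⟨g, hg⟩ : P ⧸ St.subgroupOf P).out : P) r := by
  obtain ⟨k, hk⟩ := QuotientGroup.mk_out_eq_mul (St.subgroupOf P) ⟨g, hg⟩
  have hks : ((k : P) : G) ∈ St := k.2
  refine ⟨act (((k : P) : G))⁻¹ x, hT _ (inv_mem hks) _ hx, ?_⟩
  rw [hk, Subgroup.coe_mul, ← hm.2 _ (mul_mem hg (hle hks)) _ (inv_mem (hle hks)) _ (hTD hx),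
    mul_inv_cancel_right]

/-- A set reached from `T` is covered by `[P : St]` translates. -/
theorem card_le_cover [Finite α] (hm : ActsOn act P D) (hle : St ≤ P) (hTD : T ⊆ D)
    (hT : ∀ s ∈ St, ∀ x ∈ T, act s x ∈ T) (hO : ∀ y ∈ O, ∃ g ∈ P, ∃ x ∈ T, act g x = y) :
    Nat.card O ≤ St.relIndex P * Nat.card T := by
  have : ∀ y : O, ∃ p : (P ⧸ St.subgroupOf P) × T, act (p.1.out : P) p.2.1 = y.1 := fun y => by
    obtain ⟨g, hg, x, hx, he⟩ := hO y.1 y.2
    obtain ⟨r, hr, hgr⟩ := exists_rep hm hle hTD hT hg hx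
    exact ⟨(_, ⟨r, hr⟩), hgr.symm.trans he⟩
  choose φ hφ using this
  have hinj : Function.Injective φ := fun a b e => Subtype.ext (by rw [← hφ a, e, hφ b])
  have := Nat.card_le_card_of_injective φ hinj
  rwa [Nat.card_prod] at this

/-- A set reached from `T` in two ways is covered twice. -/
theorem card_le_cover_two [Finite α] (hm : ActsOn act P D) (hle : St ≤ P) (hTD : T ⊆ D)
    (hT : ∀ s ∈ St, ∀ x ∈ T, act s x ∈ T)
    (hO : ∀ y ∈ O, ∃ g ∈ P, ∃ g' ∈ P, g⁻¹ * g' ∉ St ∧ ∃ x ∈ T, ∃ x' ∈ T, act g x = y ∧ act g' x' = y) :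
    2 * Nat.card O ≤ St.relIndex P * Nat.card T := by
  have : ∀ y : O, ∃ φ : Bool → (P ⧸ St.subgroupOf P) × T,
      (∀ b, act ((φ b).1.out : P) (φ b).2.1 = y.1) ∧ (φ true).1 ≠ (φ false).1 := fun y => by
    obtain ⟨g, hg, g', hg', hne, x, hx, x', hx', he, he'⟩ := hO y.1 y.2
    obtain ⟨r, hr, hgr⟩ := exists_rep hm hle hTD hT hg hx
    obtain ⟨r', hr', hgr'⟩ := exists_rep hm hle hTD hT hg' hx'
    refine ⟨fun b => cond b (_, ⟨r, hr⟩) (_, ⟨r', hr'⟩),
      fun b => by cases b <;> [exact hgr'.symm.trans he'; exact hgr.symm.trans he], ?_⟩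
    intro h
    have h' := QuotientGroup.eq.1 h
    rw [Subgroup.mem_subgroupOf] at h'
    exact hne h'
  choose φ hφ hne using this
  have hinj : Function.Injective fun p : Bool × O => φ p.2 p.1 := by
    rintro ⟨b, y⟩ ⟨b', y'⟩ h
    obtain rfl : y = y' := Subtype.ext (by rw [← hφ y b, ← hφ y' b']; exact congrArg (fun p : (P ⧸ St.subgroupOf P) × T => act (p.1.out : P) p.2.1) h)
    cases b <;> cases b'
    exacts [rfl, absurd (congrArg Prod.fst h).symm (hne y), absurd (congrArg Prod.fst h) (hne y), rfl]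
  have := Nat.card_le_card_of_injective _ hinj
  rw [Nat.card_prod, Nat.card_prod, Nat.card_eq_fintype_card, Fintype.card_bool] at this
  exact this

end Cfsg.Agent.Small.UMinIndex
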