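import Cfsg.Agent.Lib.Small.UMinIndex.CoverTwo

/-!
A subgroup without root elements at a point, but with other elements in its radical, has many conjugates
under the stabiliser of the point.
-/

set_option autoImplicit false
set_option linter.unusedSectionVars false
set_option linter.style.haveILetI false

namespace Cfsg.Agent.Small.UMinIndex

open Matrix Module Cfsg.Agent.Small.Unitary Cfsg.Agent.Small.UCover

variable {F : Type*} [Field F] [Fintype F] [StarRing F] {n q : ℕ} {i j k l : Fin n}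
  {e f e1 f1 : Fin n → F}

theorem rho_smul (g : Cfsg.SU n F q) (c : F) (x : Fin n → F) : rho e f g (c • x) = c • rho e f g x := by
  rw [rho, rho, act_smul, projW_smul, smul_comm]

theorem rho_zero (g : Cfsg.SU n F q) : rho e f g (0 : Fin n → F) = 0 := by
  simpa using rho_smul (e := e) (f := f) g (0 : F) (0 : Fin n → F)

section

variable (hstar : ∀ x : F, star x = x ^ q) (hF : Fintype.card F = q ^ 2)
include hstar hF

theorem card_real : Nat.card {s : F // star s = s} = q := by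
  obtain ⟨θ, hθ0, hθ⟩ := exists_skew hstar hF
  rw [← card_skew hstar hF]
  refine Nat.card_congr
    { toFun := fun s => ⟨θ * s.1, by rw [star_mul', hθ, s.2, neg_mul]⟩
      invFun := fun u => ⟨θ⁻¹ * u.1, by rw [star_mul', star_inv₀, hθ, u.2, inv_neg, neg_mul_neg]⟩
      left_inv := fun s => Subtype.ext (by simp [hθ0])
      right_inv := fun u => Subtype.ext (by simp [hθ0]) }

variable (P : Pair i j e f)

theorem exists_move_pair_scalar (hn : 5 ≤ n) {x y x' y' : Fin n → F} (hx : x ∈ Wsub i j)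
    (hy : y ∈ Wsub i j) (hx' : x' ∈ Wsub i j) (hy' : y' ∈ Wsub i j) (hxx : herm x x = 0) (hyy : herm y y = 0)
    (hxx' : herm x' x' = 0) (hyy' : herm y' y' = 0) (hreal : star (herm x y) = herm x y)
    (hreal' : star (herm x' y') = herm x' y') (h0 : herm x y ≠ 0) (h0' : herm x' y' ≠ 0) :
    ∃ g ∈ par1 q P, rho e f g x = x' ∧ rho e f g y = y' := by
  obtain ⟨c, hc0, hc⟩ := Hermitian.exists_norm hstar hF (a := herm x' y' / herm x y) (div_ne_zero h0' h0)
    (by rw [star_div₀, hreal, hreal'])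
  have hcs : star c ≠ 0 := star_ne_zero.2 hc0
  obtain ⟨x2, hx2⟩ : ∃ x2, x2 = (star c)⁻¹ • x' := ⟨_, rfl⟩
  obtain ⟨y1, hy1⟩ : ∃ y1, y1 = (herm x y)⁻¹ • y := ⟨_, rfl⟩
  obtain ⟨y2, hy2⟩ : ∃ y2, y2 = ((star c)⁻¹ * (herm x y)⁻¹) • y' := ⟨_, rfl⟩
  have hxy1 : herm x y1 = 1 := by rw [hy1, herm_smul_right, inv_mul_cancel₀ h0]
  have hyy1 : herm y1 y1 = 0 := by rw [hy1, herm_smul_left, herm_smul_right, hyy]; ring
  have hy1W : y1 ∈ Wsub i j := hy1 ▸ Submodule.smul_mem _ _ hy
  have hx2W : x2 ∈ Wsub i j := hx2 ▸ Submodule.smul_mem _ _ hx'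
  have hy2W : y2 ∈ Wsub i j := hy2 ▸ Submodule.smul_mem _ _ hy'
  have hxx2 : herm x2 x2 = 0 := by rw [hx2, herm_smul_left, herm_smul_right, hxx']; ring
  have hyy2 : herm y2 y2 = 0 := by rw [hy2, herm_smul_left, herm_smul_right, hyy']; ring
  have hxy2 : herm x2 y2 = 1 := by
    rw [hx2, hy2, herm_smul_left, herm_smul_right, star_inv₀, star_star]
    field_simp
    rw [eq_div_iff h0] at hc
    linear_combination -hc
  have h1 := pairs_frame hstar hF P hx hy1W hxx hyy1 hxy1
  have h2 : Frame ![c • e, x2] ![(star c)⁻¹ • f, y2] (Fin.elim0 : Fin 0 → Fin n → F) := by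
    have hb := pairs_frame hstar hF P hx2W hy2W hxx2 hyy2 hxy2
    constructor
    · intro r s
      have := hb.aa r s
      fin_cases r <;> fin_cases s <;> simp [herm_smul_left, herm_smul_right] at this ⊢ <;> simp [this]
    · intro r s
      have := hb.bb r s
      fin_cases r <;> fin_cases s <;> simp [herm_smul_left, herm_smul_right] at this ⊢ <;> simp [this]
    · intro r s
      have := hb.ab r s
      fin_cases r <;> fin_cases s <;> simp [herm_smul_left, herm_smul_right, hcs] at this ⊢ <;> simp [this, hcs]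
    · intro r t; exact t.elim0
    · intro r t; exact t.elim0
    · intro r t; exact t.elim0
  obtain ⟨g, ha, hb, -⟩ := exists_move_frame hstar hF h1 h2 (by omega)
  have hge : act g e = c • e := ha 0
  have hs : sc e f g = c := by rw [sc, hge, herm_smul_right, P.fe, mul_one]
  have hgx : act g x = x2 := ha 1
  have hgy : act g y = herm x y • y2 := by
    have : act g y1 = y2 := hb 1
    rw [← this, hy1, act_smul, smul_smul, mul_inv_cancel₀ h0, one_smul]
  refine ⟨g, ⟨c, hge⟩, ?_, ?_⟩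
  · rw [rho, hs, hgx, projW_of_mem P hx2W, hx2, smul_smul, mul_inv_cancel₀ hcs, one_smul]
  · rw [rho, hs, hgy, projW_of_mem P (Submodule.smul_mem _ _ hy2W), hy2, smul_smul, smul_smul]
    have : star c * (herm x y * ((star c)⁻¹ * (herm x y)⁻¹)) = 1 := by field_simp
    rw [mul_assoc, this, one_smul]

end

/-! ### A second pair of coordinates -/

theorem mem_W_of_supp {x : Fin n → F} (hki : k ≠ i) (hkj : k ≠ j) (hli : l ≠ i) (hlj : l ≠ j)
    (h : Supp {k, l} x) : x ∈ Wsub i j := by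
  constructor <;> refine h _ ?_ <;> simp [hki.symm, hkj.symm, hli.symm, hlj.symm]

theorem four_mem {x : Fin n → F} (h : Supp (Finset.univ \ {i, j, k, l}) x) :
    x ∈ Wsub i j ∧ x ∈ Wsub k l := by
  refine ⟨⟨h i ?_, h j ?_⟩, h k ?_, h l ?_⟩ <;> simp

theorem card_four (hij : i ≠ j) (hkl : k ≠ l) (hki : k ≠ i) (hkj : k ≠ j) (hli : l ≠ i) (hlj : l ≠ j) :
    (Finset.univ \ {i, j, k, l} : Finset (Fin n)).card = n - 4 := by
  rw [Finset.card_sdiff, Finset.inter_univ, Finset.card_univ, Fintype.card_fin]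
  congr 1
  simp [hij, hkl, hki.symm, hkj.symm, hli.symm, hlj.symm]

section

variable (hstar : ∀ x : F, star x = x ^ q) (hF : Fintype.card F = q ^ 2) (P : Pair i j e f)
include hstar hF P

theorem exists_second (hn : 4 ≤ n) :
    ∃ (k l : Fin n) (e1 f1 : Fin n → F), k ≠ i ∧ k ≠ j ∧ l ≠ i ∧ l ≠ j ∧ Pair k l e1 f1 ∧
      e1 ∈ Wsub i j ∧ f1 ∈ Wsub i j := by
  have h : 1 < (Finset.univ \ {i, j} : Finset (Fin n)).card := by
    rw [Finset.card_sdiff, Finset.inter_univ, Finset.card_univ, Fintype.card_fin, Finset.card_pair P.ne]; omega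
  obtain ⟨k, hk, l, hl, hkl⟩ := Finset.one_lt_card.1 h
  simp only [Finset.mem_sdiff, Finset.mem_univ, Finset.mem_insert, Finset.mem_singleton, not_or, true_and] at hk hl
  obtain ⟨e1, f1, P1⟩ := exists_pair hstar hF hkl
  exact ⟨k, l, e1, f1, hk.1, hk.2, hl.1, hl.2, P1, mem_W_of_supp hk.1 hk.2 hl.1 hl.2 P1.supp_e,
    mem_W_of_supp hk.1 hk.2 hl.1 hl.2 P1.supp_f⟩

variable (H : Subgroup (Cfsg.SU n F q))

theorem finish {M : ℕ} (h0 : NoRoot hstar e H) (ha2 : 2 ≤ Nat.card (prm hstar P H))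
    (hM : M ≤ (prmStab hstar P H).relIndex (par1 q P) * (Nat.card (prm hstar P H) - 1))
    (hpts : pts q n * (Nat.card (prm hstar P H) * (Nat.card (prm hstar P H) - 1)) ≤
      M * (q ^ (2 * (n - 2)) * q)) :
    pts q n ≤ H.relIndex (par1 q P) := by
  have hb := bound_noRoot hstar hF P H h0
  obtain ⟨a, ha⟩ : ∃ a, a = Nat.card (prm hstar P H) := ⟨_, rfl⟩
  obtain ⟨K, hK⟩ : ∃ K, K = (prmStab hstar P H).relIndex (par1 q P) := ⟨_, rfl⟩
  obtain ⟨r, hr⟩ : ∃ r, r = H.relIndex (par1 q P) := ⟨_, rfl⟩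
  rw [← ha] at hb hM hpts ha2
  rw [← hK] at hb hM
  rw [← hr] at hb ⊢
  refine Nat.le_of_mul_le_mul_right ?_ (show 0 < a * (a - 1) from Nat.mul_pos (by omega) (by omega))
  refine hpts.trans ((Nat.mul_le_mul_right _ hM).trans ?_)
  calc K * (a - 1) * (q ^ (2 * (n - 2)) * q) = K * (q ^ (2 * (n - 2)) * q) * (a - 1) := by ring
    _ ≤ r * a * (a - 1) := Nat.mul_le_mul_right _ hb
    _ = _ := by ring

theorem herm_add_self {x y : Fin n → F} (hxx : herm x x = 0) (hyy : herm y y = 0)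
    (hs : herm x y = herm y x) : herm (x + y) (x + y) = 2 * herm x y := by
  rw [herm_add_left, herm_add_right, herm_add_right, hxx, hyy, ← hs]; ring

/-- The case of an anisotropic parameter. -/
theorem bound_aniso (hn : 5 ≤ n) (h0 : NoRoot hstar e H) {x : Fin n → F} (hx : x ∈ prm hstar P H)
    (hxx : herm x x ≠ 0) : pts q n ≤ H.relIndex (par1 q P) := by
  classical
  have h2 : (2 : F) ≠ 0 := fun h => hxx (prm_iso P h0 h hx)
  have hq2 := Hermitian.q_two_le hF
  have hq : 3 ≤ q := by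
    rcases Nat.lt_or_ge q 3 with h | h
    · exfalso
      obtain rfl : q = 2 := by omega
      obtain ⟨p, _⟩ := CharP.exists F
      haveI : Fact p.Prime := ⟨CharP.char_is_prime F p⟩
      obtain ⟨d, -, hd⟩ := FiniteField.card F p
      rw [hF] at hd
      have hp : p ∣ 2 ^ 2 := hd ▸ dvd_pow_self p d.pos.ne'
      have := (Nat.prime_dvd_prime_iff_eq Fact.out Nat.prime_two).1 ((Fact.out : p.Prime).dvd_of_dvd_pow hp)
      subst this
      exact h2 (by exact_mod_cast CharP.cast_eq_zero F 2)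
    · exact h
  have hx0 : x ≠ 0 := fun h => hxx (by rw [h, herm_zero_left])
  obtain ⟨a, ha⟩ : ∃ a, a = Nat.card (prm hstar P H) := ⟨_, rfl⟩
  have ha2 : 2 ≤ a := by
    rw [ha]
    refine (Nat.one_lt_iff_ne_zero_and_ne_one).2 ⟨Nat.card_pos.ne', fun h => hx0 ?_⟩
    haveI := (Nat.card_eq_one_iff_unique.1 h).1
    exact congrArg Subtype.val (Subsingleton.elim (⟨x, hx⟩ : prm hstar P H) 0)
  have hT : ∀ s ∈ prmStab hstar P H, ∀ y ∈ anPart (prm hstar P H), rho e f s y ∈ anPart (prm hstar P H) := by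
    intro s hs y hy
    refine ⟨hs.2.1 y hy.1, fun h => hy.2 ?_⟩
    rw [herm_rho_rho hstar P hs.1 (prm_le P H hy.1) (prm_le P H hy.1), mul_eq_zero, or_iff_right] at h
    · exact h
    · exact mul_ne_zero (star_ne_zero.2 (sc_ne_zero P hs.1)) (sc_ne_zero P hs.1)
  have hTc : Nat.card (anPart (prm hstar P H)) ≤ a - 1 := by
    have := card_split (prm hstar P H)
    omega
  have hD : anPart (prm hstar P H) ⊆ ((Wsub i j : Submodule F (Fin n → F)) : Set (Fin n → F)) :=
    fun y hy => prm_le P H hy.1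
  obtain ⟨m, rfl⟩ : ∃ m, n = m + 2 := ⟨n - 2, by omega⟩
  by_cases hline : ∀ y ∈ prm hstar P H, ∃ c : F, y = c • x
  · have haq : a ≤ q := by
      refine le_trans (le_of_eq ha) (le_trans ?_ (le_of_eq (card_real hstar hF)))
      have hc : ∀ y : prm hstar P H, ∃ c : {s : F // star s = s}, y.1 = c.1 • x := fun y => by
        obtain ⟨c, hc⟩ := hline y.1 y.2
        have h := prm_real P h0 hx y.2
        rw [hc, herm_smul_left, herm_smul_right] at h
        exact ⟨⟨c, (mul_right_cancel₀ hxx h).symm⟩, hc⟩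
      choose φ hφ using hc
      exact Nat.card_le_card_of_injective φ fun u v h => Subtype.ext (by rw [hφ u, h, hφ v])
    refine finish hstar hF P H h0 (ha ▸ ha2) (M := (q ^ 2 - 1) * nip q m) ?_ ?_
    · refine le_trans (le_of_eq (card_aniso_W hstar hF P).symm) ?_
      refine le_trans (card_le_cover (actsOn_rho hstar P) (prmStab_le P H) hD hT fun y hy => ?_)
        (Nat.mul_le_mul_left _ (ha ▸ hTc))
      obtain ⟨g, hg, hgx⟩ := exists_move_rho hstar hF P (by omega) (prm_le P H hx) hy.1 hxx hy.2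
      exact ⟨g, hg, x, ⟨hx, hxx⟩, hgx⟩
    · rw [← ha, Nat.add_sub_cancel]
      have h1 := pts_le_twice hq2 (show 2 ≤ m + 2 by omega)
      rw [show 2 * (m + 2) - 3 = 2 * m + 1 by omega, pow_succ] at h1
      have h3 := nip_lower q (show 2 ≤ m by omega)
      have h4 : a * (a - 1) * 2 ≤ (q ^ 2 - 1) * nip q m := by
        have e1 : a * (a - 1) ≤ q ^ 2 - 1 := by
          have : a * (a - 1) ≤ q * (q - 1) := Nat.mul_le_mul haq (by omega)
          have e2 : q * (q - 1) + q = q ^ 2 := by rw [← Nat.mul_succ, Nat.succ_eq_add_one, Nat.sub_add_cancel (by omega : 1 ≤ q)]; ring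
          omega
        have e3 : 2 ≤ nip q m := by
          refine le_trans ?_ h3
          have : 1 ≤ q ^ (2 * m - 3) := Nat.one_le_pow _ _ (by omega)
          nlinarith [show 2 ≤ q - 1 by omega]
        exact Nat.mul_le_mul e1 e3
      calc pts q (m + 2) * (a * (a - 1)) ≤ 2 * (q ^ (2 * m) * q) * (a * (a - 1)) := Nat.mul_le_mul_right _ h1
        _ = a * (a - 1) * 2 * (q ^ (2 * m) * q) := by ring
        _ ≤ _ := Nat.mul_le_mul_right _ h4
  · push Not at hline
    obtain ⟨y, hy, hind⟩ := hline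
    obtain ⟨u, huW, huu, hxu, huy⟩ := exists_iso_perp hstar hF P hn (prm_le P H hx) (prm_le P H hy) hxx hind
    obtain ⟨θ, hθ0, hθ⟩ := exists_skew hstar hF
    obtain ⟨he, hf⟩ := fix_trans hstar P huW huu hθ
    obtain ⟨hg, hact⟩ := of_fix hstar P he hf
    obtain ⟨τ, hτ⟩ : ∃ τ, τ = trans hstar u huu θ hθ := ⟨_, rfl⟩
    rw [← hτ] at hg hact
    have hgx : rho e f τ x = x := by
      rw [(hact x (prm_le P H hx)).2.1, hτ, act_trans, show herm u x = 0 by rw [← star_herm, hxu, star_zero]]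
      simp
    have hgS : τ ∉ prmStab hstar P H := by
      intro hs
      have h := hs.2.1 y hy
      rw [(hact y (prm_le P H hy)).2.1, hτ, act_trans] at h
      have h1 := sub_mem h hy
      rw [add_sub_cancel_left] at h1
      have h3 := prm_real P h0 hy h1
      rw [herm_smul_left, herm_smul_right, star_mul', hθ, star_herm] at h3
      have : (2 : F) * (θ * (herm u y * herm y u)) = 0 := by linear_combination h3
      simp only [mul_eq_zero, h2, hθ0, huy, false_or] at this
      exact huy (by rw [← star_herm, this, star_zero])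
    refine finish hstar hF P H h0 (ha ▸ ha2) (M := 2 * ((q ^ 2 - 1) * nip q m)) ?_ ?_
    · refine le_trans (le_of_eq (congrArg (2 * ·) (card_aniso_W hstar hF P).symm)) ?_
      refine le_trans (card_le_cover_two (actsOn_rho hstar P) (prmStab_le P H) hD hT fun z hz => ?_)
        (Nat.mul_le_mul_left _ (ha ▸ hTc))
      obtain ⟨g, hg', hgz⟩ := exists_move_rho hstar hF P (by omega) (prm_le P H hx) hz.1 hxx hz.2
      refine ⟨g, hg', g * τ, mul_mem hg' hg, by rwa [inv_mul_cancel_left], x, ⟨hx, hxx⟩, x, ⟨hx, hxx⟩, hgz, ?_⟩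
      rw [rho_mul hstar P hg' hg (prm_le P H hx), hgx, hgz]
    · rw [← ha, Nat.add_sub_cancel, ← pow_succ]
      refine anisotropic_bound hq (by omega) ?_
      have := card_prm_le hstar hF P H h0
      rwa [Nat.add_sub_cancel, ← ha] at this

/-- The case of few parameters, all isotropic. -/
theorem bound_small (hn : 5 ≤ n) (h0 : NoRoot hstar e H) (hiso : ∀ x ∈ prm hstar P H, herm x x = 0)
    {x : Fin n → F} (hx : x ∈ prm hstar P H) (hx0 : x ≠ 0)
    (hsmall : Nat.card (prm hstar P H) ≤ q ^ (n - 3)) : pts q n ≤ H.relIndex (par1 q P) := by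
  classical
  obtain ⟨a, ha⟩ : ∃ a, a = Nat.card (prm hstar P H) := ⟨_, rfl⟩
  have hq := Hermitian.q_two_le hF
  obtain ⟨m, rfl⟩ : ∃ m, n = m + 2 := ⟨n - 2, by omega⟩
  have ha2 : 2 ≤ Nat.card (prm hstar P H) := by
    refine (Nat.one_lt_iff_ne_zero_and_ne_one).2 ⟨Nat.card_pos.ne', fun h => hx0 ?_⟩
    haveI := (Nat.card_eq_one_iff_unique.1 h).1
    exact congrArg Subtype.val (Subsingleton.elim (⟨x, hx⟩ : prm hstar P H) 0)
  refine finish hstar hF P H h0 ha2 (M := (q ^ 2 - 1) * pts q m) ?_ ?_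
  · refine le_trans (le_of_eq (card_iso_W hstar hF P).symm) ?_
    have hT : ∀ s ∈ prmStab hstar P H, ∀ y ∈ isoPart (prm hstar P H), rho e f s y ∈ isoPart (prm hstar P H) := by
      intro s hs y hy
      refine ⟨hs.2.1 y hy.1, fun h => hy.2.1 ?_, hiso _ (hs.2.1 y hy.1)⟩
      have h1 : rho e f (1 : Cfsg.SU (m + 2) F q) y = y := by
        rw [rho, sc, act_one, P.fe, star_one, one_smul, act_one, projW_of_mem P (prm_le P H hy.1)]
      rw [← h1, ← inv_mul_cancel s, rho_mul hstar P (inv_mem hs.1) hs.1 (prm_le P H hy.1), h, rho_zero]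
    refine le_trans (card_le_cover (actsOn_rho hstar P) (prmStab_le P H) (fun y hy => prm_le P H hy.1) hT
      fun y hy => ?_) (Nat.mul_le_mul_left _ (by have := card_split (prm hstar P H); omega))
    obtain ⟨g, hg, hgx, -⟩ := exists_move_iso hstar hF P hn (prm_le P H hx) hy.1 hx0 hy.2.1 (hiso x hx) hy.2.2
    exact ⟨g, hg, x, ⟨hx, hx0, hiso x hx⟩, hgx⟩
  · rw [← ha, Nat.add_sub_cancel]
    rw [← ha, show m + 2 - 3 = m - 1 by omega] at hsmall
    have h1 := small_bound hq (show 2 ≤ m by omega)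
    calc pts q (m + 2) * (a * (a - 1)) ≤ (q ^ 2 - 1) * pts q m * q ^ 3 * (q ^ (m - 1) * q ^ (m - 1)) :=
          Nat.mul_le_mul h1 (Nat.mul_le_mul hsmall (le_trans (Nat.sub_le _ _) hsmall))
      _ = (q ^ 2 - 1) * pts q m * (q ^ (2 * m) * q) := by
          rw [mul_assoc ((q ^ 2 - 1) * pts q m)]
          congr 1
          rw [← pow_add, ← pow_add, ← pow_succ]
          congr 1
          omega

/-- The case of an alternating form. -/
theorem bound_alternating (hn : 5 ≤ n) (h0 : NoRoot hstar e H) (hiso : ∀ x ∈ prm hstar P H, herm x x = 0)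
    {x y : Fin n → F} (hx : x ∈ prm hstar P H) (hy : y ∈ prm hstar P H) (hxy : herm x y ≠ 0)
    (hbig : q ^ (n - 3) < Nat.card (prm hstar P H)) : pts q n ≤ H.relIndex (par1 q P) := by
  classical
  obtain ⟨a, ha⟩ : ∃ a, a = Nat.card (prm hstar P H) := ⟨_, rfl⟩
  have hq := Hermitian.q_two_le hF
  have hreal : ∀ {u v : Fin n → F}, u ∈ prm hstar P H → v ∈ prm hstar P H → star (herm u v) = herm u v :=
    fun hu hv => by rw [star_herm]; exact (prm_real P h0 hu hv).symm
  obtain ⟨A, hA⟩ : ∃ A, A = prm hstar P H := ⟨_, rfl⟩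
  let φ : (Fin n → F) → (prm hstar P H →+ F) := fun u =>
    { toFun := fun v => herm u v.1
      map_zero' := herm_zero_right _
      map_add' := fun v w => herm_add_right _ _ _ }
  have hker : ∀ u ∈ prm hstar P H, a ≤ q * Nat.card {v : prm hstar P H // herm u v.1 = 0} := by
    intro u hu
    let ψ := φ u
    rw [ha, AddSubgroup.card_eq_card_quotient_mul_card_addSubgroup ψ.ker]
    refine Nat.mul_le_mul ?_ le_rfl
    refine le_trans (le_of_eq (Nat.card_congr (QuotientAddGroup.quotientKerEquivRange ψ).toEquiv))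
      (le_trans ?_ (le_of_eq (card_real hstar hF)))
    refine Nat.card_le_card_of_injective (fun c => ⟨c.1, ?_⟩) fun c d h => Subtype.ext (congrArg Subtype.val h :)
    obtain ⟨v, hv⟩ := c.2
    rw [← hv]
    exact hreal hu v.2
  rcases Nat.lt_or_ge n 6 with hn5 | hn6
  · exfalso
    obtain rfl : n = 5 := by omega
    obtain ⟨s, hs1, hs2⟩ : ∃ s : prm hstar P H, s.1 ≠ 0 ∧ herm x s.1 = 0 ∧ herm y s.1 = 0 := by
      by_contra! hc
      have hinj : Function.Injective fun v : prm hstar P H =>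
          ((⟨herm x v.1, hreal hx v.2⟩, ⟨herm y v.1, hreal hy v.2⟩) : {s : F // star s = s} × {s : F // star s = s}) := by
        intro u v h
        by_contra hne
        refine hc (u - v) (fun h0' => hne (sub_eq_zero.1 (Subtype.ext h0'))) ?_ ?_ <;>
          rw [AddSubgroup.coe_sub, herm_sub_right, sub_eq_zero]
        exacts [congrArg (fun p => p.1.1) h, congrArg (fun p => p.2.1) h]
      have := Nat.card_le_card_of_injective _ hinj
      rw [Nat.card_prod, card_real hstar hF, ← ha, ← pow_two] at this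
      rw [← ha] at hbig
      norm_num at hbig
      omega
    obtain ⟨y1, hy1⟩ : ∃ y1, y1 = (herm x y)⁻¹ • y := ⟨_, rfl⟩
    have hxy1 : herm x y1 = 1 := by rw [hy1, herm_smul_right, inv_mul_cancel₀ hxy]
    have hyy1 : herm y1 y1 = 0 := by rw [hy1, herm_smul_left, herm_smul_right, hiso y hy]; ring
    have hys : herm y1 s.1 = 0 := by rw [hy1, herm_smul_left, hs2.2, mul_zero]
    have hy1W : y1 ∈ Wsub i j := hy1 ▸ Submodule.smul_mem _ _ (prm_le P H hy)
    obtain ⟨t, ht⟩ := exists_trace hstar hF (r := (1 : F)) (star_one F)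
    obtain ⟨d, hd0, hd⟩ := Hermitian.exists_norm hstar hF (a := (-1 : F)) (by norm_num) (by simp)
    have hfr := pairs_frame hstar hF P (prm_le P H hx) hy1W (hiso x hx) hyy1 hxy1
    have hyx : herm y1 x = 1 := by rw [← star_herm, hxy1, star_one]
    have key : ∀ {a b : Fin 5 → F}, herm a a = 0 → herm b b = 0 → herm a b = 1 → herm b a = 1 →
        herm (t • a + b) (t • a + b) = 1 ∧ herm (d • (b - star t • a)) (d • (b - star t • a)) = 1 ∧
        herm (t • a + b) (d • (b - star t • a)) = 0 := by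
      intro a b haa hbb hab hba
      simp only [herm_add_left, herm_add_right, herm_sub_left, herm_sub_right, herm_smul_left, herm_smul_right,
        haa, hbb, hab, hba, star_star]
      exact ⟨by linear_combination ht, by linear_combination (-(star t + t)) * hd + ht, by ring⟩
    obtain ⟨a1, a2, a3⟩ := key P.ee P.ff P.ef P.fe
    obtain ⟨b1, b2, b3⟩ := key (hiso x hx) hyy1 hxy1 hyx
    have c : ∀ w ∈ Wsub i j, herm (t • e + f) w = 0 ∧ herm (d • (f - star t • e)) w = 0 := fun w hw => by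
      constructor <;> simp [herm_add_left, herm_sub_left, herm_smul_left, (P.herm_W hw).1, (P.herm_W hw).2]
    obtain ⟨c1, c3⟩ := c _ (add_mem (Submodule.smul_mem _ t (prm_le P H hx)) hy1W)
    obtain ⟨c2, c4⟩ := c _ (Submodule.smul_mem _ d (sub_mem hy1W (Submodule.smul_mem _ (star t) (prm_le P H hx))))
    obtain ⟨c5, c6⟩ := c _ (prm_le P H s.2)
    have sw : ∀ {a b : Fin 5 → F}, herm a b = 0 → herm b a = 0 := fun h => by rw [← star_herm, h, star_zero]
    have hON : ON ![t • e + f, d • (f - star t • e), t • x + y1, d • (y1 - star t • x)] := by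
      intro a b
      fin_cases a <;> fin_cases b <;> simp [a1, a2, a3, b1, b2, b3, c1, c2, c3, c4, sw a3, sw b3, sw c1, sw c2, sw c3, sw c4]
    have hb := isotropic_bound hON (Submodule.span F {s.1}) ?_ ?_
    · rw [finrank_span_singleton hs1] at hb
      omega
    · intro u hu v hv
      obtain ⟨α, rfl⟩ := Submodule.mem_span_singleton.1 hu
      obtain ⟨β, rfl⟩ := Submodule.mem_span_singleton.1 hv
      rw [herm_smul_left, herm_smul_right, hiso _ s.2]; ring
    · rw [Submodule.span_le, Set.singleton_subset_iff]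
      intro a
      fin_cases a
      · exact c5
      · exact c6
      · show herm (t • x + y1) s.1 = 0
        simp [herm_add_left, herm_smul_left, hs2.1, hys]
      · show herm (d • (y1 - star t • x)) s.1 = 0
        simp [herm_sub_left, herm_smul_left, hs2.1, hys]
  obtain ⟨m, rfl⟩ : ∃ m, n = m + 2 := ⟨n - 2, by omega⟩
  obtain ⟨k, l, e1, f1, hki, hkj, hli, hlj, P1, he1, hf1⟩ := exists_second hstar hF P (by omega)
  let I4 : Finset (Fin (m + 2)) := Finset.univ \ {i, j, k, l}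
  let T : Set ((Fin (m + 2) → F) × (Fin (m + 2) → F)) :=
    {p | p.1 ∈ prm hstar P H ∧ p.2 ∈ prm hstar P H ∧ p.1 ≠ 0 ∧ herm p.1 p.2 ≠ 0}
  let act2 : Cfsg.SU (m + 2) F q → (Fin (m + 2) → F) × (Fin (m + 2) → F) → (Fin (m + 2) → F) × (Fin (m + 2) → F) :=
    fun g p => (rho e f g p.1, rho e f g p.2)
  let D : Set ((Fin (m + 2) → F) × (Fin (m + 2) → F)) := {p | p.1 ∈ Wsub i j ∧ p.2 ∈ Wsub i j}
  have hm2 : ActsOn act2 (par1 q P) D :=
    ⟨fun g _ p _ => ⟨rho_mem P g _, rho_mem P g _⟩, fun g hg g' hg' p hp =>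
      Prod.ext (rho_mul hstar P hg hg' hp.1) (rho_mul hstar P hg hg' hp.2)⟩
  have hTs : ∀ s ∈ prmStab hstar P H, ∀ p ∈ T, act2 s p ∈ T := by
    intro s hs p hp
    have h1 : herm (rho e f s p.1) (rho e f s p.2) ≠ 0 := by
      rw [herm_rho_rho hstar P hs.1 (prm_le P H hp.1) (prm_le P H hp.2.1)]
      exact mul_ne_zero (mul_ne_zero (star_ne_zero.2 (sc_ne_zero P hs.1)) (sc_ne_zero P hs.1)) hp.2.2.2
    exact ⟨hs.2.1 _ hp.1, hs.2.1 _ hp.2.1, fun h => h1 (by show herm (rho e f s p.1) _ = 0; rw [show rho e f s p.1 = 0 from h, herm_zero_left]), h1⟩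
  have hTcard : Nat.card T * q ≤ (a - 1) * (a * (q - 1)) := by
    let ι : T → Σ u : {u : prm hstar P H // u.1 ≠ 0}, {v : prm hstar P H // ¬ herm u.1.1 v.1 = 0} :=
      fun p => ⟨⟨⟨p.1.1, p.2.1⟩, p.2.2.2.1⟩, ⟨⟨p.1.2, p.2.2.1⟩, p.2.2.2.2⟩⟩
    have hι : Function.Injective ι := fun p p' h => Subtype.ext
      (congrArg (fun z => ((z.1.1.1, z.2.1.1) : (Fin (m + 2) → F) × (Fin (m + 2) → F))) h)
    have h1 := Nat.card_le_card_of_injective ι hι
    haveI : Fintype {u : prm hstar P H // u.1 ≠ 0} := Fintype.ofFinite _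
    rw [Nat.card_sigma] at h1
    refine (Nat.mul_le_mul_right _ h1).trans ?_
    rw [Finset.sum_mul]
    refine (Finset.sum_le_card_nsmul _ _ (a * (q - 1)) fun u _ => ?_).trans ?_
    · have h2 := hker u.1.1 u.1.2
      have h3 : Nat.card {v : prm hstar P H // herm u.1.1 v.1 = 0} +
          Nat.card {v : prm hstar P H // ¬ herm u.1.1 v.1 = 0} = a := by
        rw [ha, ← Nat.card_sum, Nat.card_congr (Equiv.sumCompl _)]
      obtain ⟨q', rfl⟩ : ∃ q', q = q' + 1 := ⟨q - 1, by omega⟩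
      rw [Nat.add_sub_cancel]
      nlinarith
    · rw [smul_eq_mul, Finset.card_univ, ← Nat.card_eq_fintype_card]
      refine Nat.mul_le_mul_right _ (le_of_eq ?_)
      have h4 : Nat.card {u : prm hstar P H // u = 0} + Nat.card {u : prm hstar P H // ¬ u = 0} = a := by
        rw [ha, ← Nat.card_sum, Nat.card_congr (Equiv.sumCompl _)]
      rw [Nat.card_unique] at h4
      have h5 : Nat.card {u : prm hstar P H // u.1 ≠ 0} = Nat.card {u : prm hstar P H // ¬ u = 0} :=
        Nat.card_congr (Equiv.subtypeEquivRight fun u => not_congr (Subtype.ext_iff (a1 := u) (a2 := 0)).symm)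
      omega
  let Idx := {x' : Fin (m + 2) → F | x' ∈ Wsub i j ∧ x' ≠ 0 ∧ herm x' x' = 0} ×
    ({c : F // star c = c ∧ c ≠ 0} × ({z : Fin (m + 2) → F // Supp I4 z} × {u : F // star u = -u}))
  have hmv : ∀ x' : {x' : Fin (m + 2) → F | x' ∈ Wsub i j ∧ x' ≠ 0 ∧ herm x' x' = 0},
      ∃ g ∈ par1 q P, act g e1 = x'.1 ∧ ∀ w ∈ Wsub i j, act g w ∈ Wsub i j ∧ rho e f g w = act g w := by
    intro x'
    obtain ⟨y', hy', hyy', hxy'⟩ := exists_partner hstar hF P x'.2.1 x'.2.2.1 x'.2.2.2
    obtain ⟨g, hg, he, hf, hgx, -⟩ := exists_move_pair hstar hF P hn he1 hf1 x'.2.1 hy' P1.ee P1.ff P1.ef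
      x'.2.2.2 hyy' hxy'
    exact ⟨g, hg, hgx, fun w hw => ⟨((of_fix hstar P he hf).2 w hw).1, ((of_fix hstar P he hf).2 w hw).2.1⟩⟩
  choose gx hgx hgxe hgxW using hmv
  have hok : ∀ (z : {z : Fin (m + 2) → F // Supp I4 z}) (u : {u : F // star u = -u}),
      EOk e1 z.1 (u.1 + par e1 z.1) := fun z u => by
    have h := par_ok hF hstar P1 (four_mem z.2).2
    refine ⟨h.1, h.2.1, ?_⟩
    rw [star_add, u.2]
    linear_combination h.2.2
  let Ψ : Idx → (Fin (m + 2) → F) × (Fin (m + 2) → F) := fun s =>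
    (s.1.1, act (gx s.1) (s.2.1.1 • act (eich hstar e1 s.2.2.1.1 (s.2.2.2.1 + par e1 s.2.2.1.1)) f1))
  have hy1f : ∀ (z : {z : Fin (m + 2) → F // Supp I4 z}) (u : {u : F // star u = -u}),
      act (eich hstar e1 z.1 (u.1 + par e1 z.1)) f1 = f1 + z.1 + (u.1 + par e1 z.1) • e1 := fun z u => by
    rw [act_eich hstar (hok z u), P1.ef, (P1.W_herm (four_mem z.2).2).2]; simp
  have hyW : ∀ (z : {z : Fin (m + 2) → F // Supp I4 z}) (u : {u : F // star u = -u}),
      act (eich hstar e1 z.1 (u.1 + par e1 z.1)) f1 ∈ Wsub i j := fun z u => by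
    rw [hy1f]; exact add_mem (add_mem hf1 (four_mem z.2).1) (Submodule.smul_mem _ _ he1)
  have hΨ : Function.Injective Ψ := by
    rintro ⟨x1, c1, z1, u1⟩ ⟨x2, c2, z2, u2⟩ h
    obtain rfl : x1 = x2 := Subtype.ext (congrArg Prod.fst h)
    have h2 : c1.1 • act (eich hstar e1 z1.1 (u1.1 + par e1 z1.1)) f1 =
        c2.1 • act (eich hstar e1 z2.1 (u2.1 + par e1 z2.1)) f1 := act_injective _ (congrArg Prod.snd h)
    rw [hy1f, hy1f] at h2
    have he' : ∀ z : {z : Fin (m + 2) → F // Supp I4 z}, herm e1 z.1 = 0 ∧ herm f1 z.1 = 0 := fun z => P1.herm_W (four_mem z.2).2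
    have hc : c1 = c2 := by
      have := congrArg (herm e1) h2
      simp only [herm_smul_right, herm_add_right, P1.ef, P1.ee, (he' z1).1, (he' z2).1] at this
      exact Subtype.ext (by simpa using this)
    subst hc
    have h3 := smul_right_injective (Fin (m + 2) → F) c1.2.2 h2
    have hu : u1.1 + par e1 z1.1 = u2.1 + par e1 z2.1 := by
      have := congrArg (herm f1) h3
      simpa [herm_add_right, herm_smul_right, P1.ff, P1.fe, (he' z1).2, (he' z2).2] using this
    rw [hu] at h3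
    obtain rfl : z1 = z2 := Subtype.ext (add_left_cancel (add_right_cancel h3))
    obtain rfl : u1 = u2 := Subtype.ext (add_right_cancel hu)
    rfl
  have hO : ∀ p ∈ Set.range Ψ, ∃ g ∈ par1 q P, ∃ p' ∈ T, act2 g p' = p := by
    rintro _ ⟨⟨x', c, z, u⟩, rfl⟩
    have hE := act_eich_self hstar (hok z u)
    have hy'W := Submodule.smul_mem _ c.1 (hyW z u)
    have hgy := hgxW x' _ hy'W
    have hiso' : herm (c.1 • act (eich hstar e1 z.1 (u.1 + par e1 z.1)) f1)
        (c.1 • act (eich hstar e1 z.1 (u.1 + par e1 z.1)) f1) = 0 := by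
      rw [herm_smul_left, herm_smul_right, herm_act hstar, P1.ff]; ring
    have hh : herm x'.1 (act (gx x') (c.1 • act (eich hstar e1 z.1 (u.1 + par e1 z.1)) f1)) = c.1 := by
      have h1 : herm e1 (act (eich hstar e1 z.1 (u.1 + par e1 z.1)) f1) = 1 := by
        rw [hy1f, herm_add_right, herm_add_right, herm_smul_right, P1.ef, P1.ee, (P1.herm_W (four_mem z.2).2).1]; ring
      rw [← hgxe x', herm_act hstar, herm_smul_right, h1, mul_one]
    obtain ⟨g, hg, h1, h2⟩ := exists_move_pair_scalar hstar hF P hn (prm_le P H hx) (prm_le P H hy) x'.2.1 hgy.1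
      (hiso x hx) (hiso y hy) x'.2.2.2 (by rw [herm_act hstar]; exact hiso') (hreal hx hy)
      (by rw [hh]; exact c.2.1) hxy (by rw [hh]; exact c.2.2)
    exact ⟨g, hg, (x, y), ⟨hx, hy, fun h => hxy (by show herm x y = 0; rw [show x = 0 from h, herm_zero_left]), hxy⟩,
      Prod.ext h1 h2⟩
  have hcov := card_le_cover hm2 (prmStab_le P H) (fun p hp => ⟨prm_le P H hp.1, prm_le P H hp.2.1⟩) hTs hO
  rw [Nat.card_range_of_injective hΨ] at hcov
  have hIdx : Nat.card Idx = (q ^ 2 - 1) * pts q m * ((q - 1) * (q ^ (2 * (m - 2)) * q)) := by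
    simp only [Idx, Nat.card_prod]
    rw [card_iso_W hstar hF P, Nat.add_sub_cancel, card_skew hstar hF,
      (card_supp hstar hF I4).1, show I4.card = m - 2 by
        show (Finset.univ \ {i, j, k, l} : Finset (Fin (m + 2))).card = m - 2
        rw [card_four P.ne P1.ne hki hkj hli hlj]; omega]
    congr 2
    have h1 : Nat.card {c : F // star c = c} = Nat.card {c : {c : F // star c = c} // ¬ c.1 = 0} + 1 := by
      rw [← Nat.card_congr (Equiv.sumCompl fun c : {c : F // star c = c} => c.1 = 0), Nat.card_sum, add_comm]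
      congr 1
      exact Nat.card_eq_one_iff_unique.2 ⟨⟨fun a b => Subtype.ext (Subtype.ext (a.2.trans b.2.symm))⟩, ⟨⟨⟨0, star_zero F⟩, rfl⟩⟩⟩
    rw [card_real hstar hF, Nat.card_congr (Equiv.subtypeSubtypeEquivSubtypeInter (fun c : F => star c = c) (fun c => ¬ c = 0))] at h1
    change Nat.card {c : F // star c = c ∧ ¬ c = 0} = q - 1
    omega
  rw [hIdx] at hcov
  have hb := bound_noRoot hstar hF P H h0
  rw [← ha] at hb
  rw [Nat.add_sub_cancel] at hb
  have hprm := card_prm_le hstar hF P H h0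
  rw [← ha, Nat.add_sub_cancel] at hprm
  obtain ⟨K, hK⟩ : ∃ K, K = (prmStab hstar P H).relIndex (par1 q P) := ⟨_, rfl⟩
  obtain ⟨r, hr⟩ : ∃ r, r = H.relIndex (par1 q P) := ⟨_, rfl⟩
  rw [← hK] at hb hcov
  rw [← hr] at hb ⊢
  obtain ⟨P', hP'⟩ : ∃ P', P' = (q ^ 2 - 1) * pts q m := ⟨_, rfl⟩
  rw [← hP'] at hcov
  have ha2 : 2 ≤ a := by
    have := Nat.one_le_pow (m + 2 - 3) q (by omega)
    omega
  have h1 : P' * (q ^ (2 * (m - 2)) * q) * q ≤ K * ((a - 1) * a) := by
    refine Nat.le_of_mul_le_mul_right ?_ (show 0 < q - 1 by omega)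
    calc P' * (q ^ (2 * (m - 2)) * q) * q * (q - 1) = P' * ((q - 1) * (q ^ (2 * (m - 2)) * q)) * q := by ring
      _ ≤ K * Nat.card T * q := Nat.mul_le_mul_right _ hcov
      _ = K * (Nat.card T * q) := by ring
      _ ≤ K * ((a - 1) * (a * (q - 1))) := Nat.mul_le_mul_left _ hTcard
      _ = _ := by ring
  have hal := alternating_bound hq (show 4 ≤ m by omega)
  rw [← hP'] at hal
  refine Nat.le_of_mul_le_mul_right ?_ (show 0 < a * ((a - 1) * a) from Nat.mul_pos (by omega) (Nat.mul_pos (by omega) (by omega)))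
  have h2 : a * ((a - 1) * a) ≤ q ^ m * (q ^ m * q ^ m) :=
    Nat.mul_le_mul hprm (Nat.mul_le_mul (le_trans (Nat.sub_le _ _) hprm) hprm)
  calc pts q (m + 2) * (a * ((a - 1) * a)) ≤ 2 * P' * q ^ (m - 2) * (q ^ m * (q ^ m * q ^ m)) := Nat.mul_le_mul hal h2
    _ = 2 * (P' * q ^ (4 * m - 2)) := by
        rw [mul_assoc (2 * P'), mul_assoc 2]
        congr 2
        rw [← pow_add, ← pow_add, ← pow_add]
        congr 1
        omega
    _ ≤ q * (P' * q ^ (4 * m - 2)) := Nat.mul_le_mul_right _ hq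
    _ = P' * (q ^ (2 * (m - 2)) * q) * q * (q ^ (2 * m) * q) := by
        rw [show P' * (q ^ (2 * (m - 2)) * q) * q * (q ^ (2 * m) * q) =
          P' * (q ^ (2 * (m - 2)) * q * q * q ^ (2 * m)) * q by ring, mul_comm q]
        congr 2
        rw [← pow_succ, ← pow_succ, ← pow_add]
        congr 1
        omega
    _ ≤ K * ((a - 1) * a) * (q ^ (2 * m) * q) := Nat.mul_le_mul_right _ h1
    _ = K * (q ^ (2 * m) * q) * ((a - 1) * a) := by ring
    _ ≤ r * a * ((a - 1) * a) := Nat.mul_le_mul_right _ hb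
    _ = _ := by ring

end

end Cfsg.Agent.Small.UMinIndex
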