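import Cfsg.Agent.Lib.Small.UMinIndex.Setup
import Cfsg.Agent.Lib.Small.UMinIndex.Arith
import Cfsg.Agent.Lib.Lead.FormsCount

/-!
Vectors and elements of the complement of a pair: partners, moves and counts.
-/

set_option autoImplicit false
set_option linter.unusedSectionVars false
set_option linter.style.haveILetI false

namespace Cfsg.Agent.Small.UMinIndex

open Matrix Cfsg.Agent.Small.Unitary Cfsg.Agent.Small.UCover

variable {F : Type*} [Field F] [Fintype F] [StarRing F] {n q : ℕ} {i j : Fin n} {e f : Fin n → F}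

theorem mem_W_of_perp (P : Pair i j e f) {z : Fin n → F} (he : herm e z = 0) (hf : herm f z = 0) :
    z ∈ Wsub i j := P.zero z he hf

/-- An element fixing the pair acts on the complement. -/
theorem of_fix (hstar : ∀ x : F, star x = x ^ q) (P : Pair i j e f) {g : Cfsg.SU n F q} (he : act g e = e)
    (hf : act g f = f) :
    g ∈ par1 q P ∧ ∀ x ∈ Wsub i j, act g x ∈ Wsub i j ∧ rho e f g x = act g x ∧ tw e f g x = act g x := by
  refine ⟨⟨1, by rw [he, one_smul]⟩, fun x hx => ?_⟩
  have hm : act g x ∈ Wsub i j := mem_W_of_perp P (by conv_lhs => rw [← he, herm_act hstar, (P.herm_W hx).1])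
    (by conv_lhs => rw [← hf, herm_act hstar, (P.herm_W hx).2])
  have hs : sc e f g = 1 := by rw [sc, he, P.fe]
  refine ⟨hm, ?_, ?_⟩ <;> simp [rho, tw, hs, projW_of_mem P hm]

theorem fix_eich (hstar : ∀ x : F, star x = x ^ q) (P : Pair i j e f) {x z : Fin n → F} {a : F}
    (hx : x ∈ Wsub i j) (hz : z ∈ Wsub i j) (h : EOk x z a) :
    act (eich hstar x z a) e = e ∧ act (eich hstar x z a) f = f := by
  constructor <;> rw [act_eich hstar h]
  · rw [(P.W_herm hx).1, (P.W_herm hz).1]; simp
  · rw [(P.W_herm hx).2, (P.W_herm hz).2]; simp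

theorem fix_trans (hstar : ∀ x : F, star x = x ^ q) (P : Pair i j e f) {u : Fin n → F} (hu : u ∈ Wsub i j)
    (huu : herm u u = 0) {t : F} (ht : star t = -t) :
    act (trans hstar u huu t ht) e = e ∧ act (trans hstar u huu t ht) f = f := by
  constructor <;> rw [act_trans]
  · rw [(P.W_herm hu).1]; simp
  · rw [(P.W_herm hu).2]; simp

section Finite

variable (hstar : ∀ x : F, star x = x ^ q) (hF : Fintype.card F = q ^ 2)
include hstar hF

theorem exists_scale {x : Fin n → F} (hx : herm x x ≠ 0) : ∃ r : F, r ≠ 0 ∧ herm (r • x) (r • x) = 1 := by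
  obtain ⟨r, hr0, hr⟩ := Hermitian.exists_norm hstar hF (inv_ne_zero hx) (by rw [star_inv₀, star_herm])
  exact ⟨r, hr0, by rw [herm_smul_left, herm_smul_right, ← mul_assoc, hr, inv_mul_cancel₀ hx]⟩

/-- A partner of the second vector perpendicular to the first. -/
theorem exists_partner_two (P : Pair i j e f) {x y : Fin n → F} (hx : x ∈ Wsub i j) (hy : y ∈ Wsub i j)
    (hxy : herm x y = 0) (hyy : herm y y = 0) (hind : ∀ c : F, y ≠ c • x) (hx0 : x ≠ 0) :
    ∃ u ∈ Wsub i j, herm u u = 0 ∧ herm x u = 0 ∧ herm y u = 1 := by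
  obtain ⟨a, ha⟩ := exists_herm_eq_one hx0
  obtain ⟨w, hw1, hw2⟩ : ∃ w, herm x w = 0 ∧ herm y w ≠ 0 := by
    by_contra! hc
    refine hind (star (herm y a)) (funext fun k => ?_)
    have h := hc (Pi.single k 1 - herm x (Pi.single k 1) • a)
      (by rw [herm_sub_right, herm_smul_right, ha, mul_one, sub_self])
    rw [herm_sub_right, herm_smul_right, sub_eq_zero, herm_single_right, herm_single_right, mul_one, mul_one] at h
    have h' := congrArg star h
    rw [star_star, star_mul', star_star] at h'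
    rw [Pi.smul_apply, smul_eq_mul, h']
    ring
  obtain ⟨v, hv⟩ : ∃ v, v = (herm y w)⁻¹ • projW e f w := ⟨_, rfl⟩
  have hvW : v ∈ Wsub i j := hv ▸ Submodule.smul_mem _ _ (P.projW_mem w)
  have hpx : ∀ z ∈ Wsub i j, herm z (projW e f w) = herm z w := fun z hz => by
    rw [projW, herm_sub_right, herm_sub_right, herm_smul_right, herm_smul_right, (P.W_herm hz).1, (P.W_herm hz).2]
    ring
  have hxv : herm x v = 0 := by rw [hv, herm_smul_right, hpx x hx, hw1, mul_zero]
  have hyv : herm y v = 1 := by rw [hv, herm_smul_right, hpx y hy, inv_mul_cancel₀ hw2]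
  have hvy : herm v y = 1 := by rw [← star_herm, hyv, star_one]
  obtain ⟨t, ht⟩ := exists_trace hstar hF (r := -herm v v) (by rw [star_neg, star_herm])
  refine ⟨v + t • y, add_mem hvW (Submodule.smul_mem _ _ hy), ?_, ?_, ?_⟩
  · simp only [herm_add_left, herm_add_right, herm_smul_left, herm_smul_right, hyy, hyv, hvy]
    linear_combination ht
  · rw [herm_add_right, herm_smul_right, hxv, hxy]; ring
  · rw [herm_add_right, herm_smul_right, hyv, hyy]; ring

/-- A unit vector of the complement perpendicular to a hyperbolic pair in it. -/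
theorem exists_unit_W (P : Pair i j e f) (hn : 5 ≤ n) {x y : Fin n → F} (hx : x ∈ Wsub i j) (hy : y ∈ Wsub i j)
    (hxx : herm x x = 0) (hyy : herm y y = 0) (hxy : herm x y = 1) :
    ∃ z ∈ Wsub i j, herm z z = 1 ∧ herm x z = 0 ∧ herm y z = 0 := by
  obtain ⟨s, hs⟩ := exists_trace hstar hF (r := (1 : F)) (star_one F)
  obtain ⟨d, hd0, hd⟩ := Hermitian.exists_norm hstar hF (a := (-1 : F)) (by norm_num) (by simp)
  have hyx : herm y x = 1 := by rw [← star_herm, hxy, star_one]
  have key : ∀ {a b : Fin n → F}, herm a a = 0 → herm b b = 0 → herm a b = 1 → herm b a = 1 →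
      herm (s • a + b) (s • a + b) = 1 ∧ herm (d • (b - star s • a)) (d • (b - star s • a)) = 1 ∧
      herm (s • a + b) (d • (b - star s • a)) = 0 := by
    intro a b haa hbb hab hba
    simp only [herm_add_left, herm_add_right, herm_sub_left, herm_sub_right, herm_smul_left, herm_smul_right,
      haa, hbb, hab, hba, star_star]
    exact ⟨by linear_combination hs, by linear_combination (-(star s + s)) * hd + hs, by ring⟩
  obtain ⟨a1, a2, a3⟩ := key P.ee P.ff P.ef P.fe
  obtain ⟨b1, b2, b3⟩ := key hxx hyy hxy hyx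
  have hv : ON ![s • e + f, d • (f - star s • e), s • x + y, d • (y - star s • x)] := by
    have c : ∀ w ∈ Wsub i j, herm (s • e + f) w = 0 ∧ herm (d • (f - star s • e)) w = 0 := fun w hw => by
      constructor <;> simp [herm_add_left, herm_sub_left, herm_smul_left, (P.herm_W hw).1, (P.herm_W hw).2]
    obtain ⟨c1, c3⟩ := c _ (add_mem (Submodule.smul_mem _ s hx) hy)
    obtain ⟨c2, c4⟩ := c _ (Submodule.smul_mem _ d (sub_mem hy (Submodule.smul_mem _ (star s) hx)))
    have sw : ∀ {a b : Fin n → F}, herm a b = 0 → herm b a = 0 := fun h => by rw [← star_herm, h, star_zero]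
    intro a b
    fin_cases a <;> fin_cases b <;> simp [a1, a2, a3, b1, b2, b3, c1, c2, c3, c4, sw a3, sw b3, sw c1, sw c2, sw c3, sw c4]
  obtain ⟨z, hz1, hz⟩ := exists_unit_perp hstar hF hv (show 4 < n by omega)
  have split : ∀ {a b : Fin n → F}, herm (s • a + b) z = 0 → herm (d • (b - star s • a)) z = 0 →
      herm a z = 0 ∧ herm b z = 0 := by
    intro a b h1 h2
    rw [herm_smul_left, mul_eq_zero, or_iff_right (star_ne_zero.2 hd0), herm_sub_left, herm_smul_left, star_star] at h2
    rw [herm_add_left, herm_smul_left] at h1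
    have ha : herm a z = 0 := by linear_combination h1 - h2 - (herm a z) * hs
    rw [ha, mul_zero, zero_add] at h1
    exact ⟨ha, h1⟩
  obtain ⟨g1, g2⟩ := split (hz 0) (hz 1)
  obtain ⟨g3, g4⟩ := split (hz 2) (hz 3)
  exact ⟨z, mem_W_of_perp P g1 g2, hz1, g3, g4⟩

/-- An isotropic vector perpendicular to an anisotropic one and not to another vector. -/
theorem exists_iso_perp (P : Pair i j e f) (hn : 5 ≤ n) {x v : Fin n → F} (hx : x ∈ Wsub i j)
    (hv : v ∈ Wsub i j) (hxx : herm x x ≠ 0) (hind : ∀ c : F, v ≠ c • x) :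
    ∃ u ∈ Wsub i j, herm u u = 0 ∧ herm x u = 0 ∧ herm u v ≠ 0 := by
  obtain ⟨v', hv'⟩ : ∃ v', v' = v - (herm x v / herm x x) • x := ⟨_, rfl⟩
  have hvW : v' ∈ Wsub i j := hv' ▸ sub_mem hv (Submodule.smul_mem _ _ hx)
  have hxv : herm x v' = 0 := by rw [hv', herm_sub_right, herm_smul_right, div_mul_cancel₀ _ hxx, sub_self]
  have huv : ∀ u : Fin n → F, herm x u = 0 → herm u v = herm u v' := fun u h => by
    rw [hv', herm_sub_right, herm_smul_right, show herm u x = 0 by rw [← star_herm, h, star_zero], mul_zero, sub_zero]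
  have hv0 : v' ≠ 0 := fun h => hind (herm x v / herm x x) (sub_eq_zero.1 (hv' ▸ h))
  have hx0 : x ≠ 0 := fun h => hxx (by rw [h, herm_zero_left])
  by_cases hvv : herm v' v' = 0
  · obtain ⟨u, huW, huu, hxu, hvu⟩ := exists_partner_two hstar hF P hx hvW hxv hvv
      (fun c hc => by
        rw [hc, herm_smul_right, mul_eq_zero, or_iff_left hxx] at hxv
        rw [hxv, zero_smul] at hc
        exact hv0 hc) hx0
    exact ⟨u, huW, huu, hxu, by rw [huv u hxu, ← star_herm, hvu, star_one]; exact one_ne_zero⟩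
  · obtain ⟨s, hs⟩ := exists_trace hstar hF (r := (1 : F)) (star_one F)
    obtain ⟨d, hd0, hd⟩ := Hermitian.exists_norm hstar hF (a := (-1 : F)) (by norm_num) (by simp)
    obtain ⟨r, hr0, hr⟩ := exists_scale hstar hF hxx
    obtain ⟨r', hr0', hr'⟩ := exists_scale hstar hF hvv
    have a1 : herm (s • e + f) (s • e + f) = 1 := by
      simp only [herm_add_left, herm_add_right, herm_smul_left, herm_smul_right, P.ee, P.ff, P.ef, P.fe]
      linear_combination hs
    have a2 : herm (d • (f - star s • e)) (d • (f - star s • e)) = 1 := by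
      simp only [herm_sub_left, herm_sub_right, herm_smul_left, herm_smul_right, P.ee, P.ff, P.ef, P.fe, star_star]
      linear_combination (-(star s + s)) * hd + hs
    have a3 : herm (s • e + f) (d • (f - star s • e)) = 0 := by
      simp only [herm_add_left, herm_sub_right, herm_smul_left, herm_smul_right, P.ee, P.ff, P.ef, P.fe]
      ring
    have c : ∀ w ∈ Wsub i j, herm (s • e + f) w = 0 ∧ herm (d • (f - star s • e)) w = 0 := fun w hw => by
      constructor <;> simp [herm_add_left, herm_sub_left, herm_smul_left, (P.herm_W hw).1, (P.herm_W hw).2]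
    obtain ⟨c1, c3⟩ := c _ (Submodule.smul_mem _ r hx)
    obtain ⟨c2, c4⟩ := c _ (Submodule.smul_mem _ r' hvW)
    have b3 : herm (r • x) (r' • v') = 0 := by rw [herm_smul_left, herm_smul_right, hxv]; ring
    have sw : ∀ {a b : Fin n → F}, herm a b = 0 → herm b a = 0 := fun h => by rw [← star_herm, h, star_zero]
    have hON : ON ![s • e + f, d • (f - star s • e), r • x, r' • v'] := by
      intro a b
      fin_cases a <;> fin_cases b <;> simp [a1, a2, a3, hr, hr', b3, c1, c2, c3, c4, sw a3, sw b3, sw c1, sw c2, sw c3, sw c4]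
    obtain ⟨z, hz1, hz⟩ := exists_unit_perp hstar hF hON (show 4 < n by omega)
    have h2 := hz 1
    have h1 := hz 0
    simp [herm_add_left, herm_sub_left, herm_smul_left, hd0] at h1 h2
    have he : herm e z = 0 := by linear_combination h1 - h2 - (herm e z) * hs
    have hf : herm f z = 0 := by rw [he, mul_zero, zero_add] at h1; exact h1
    have hxz : herm x z = 0 := by simpa [herm_smul_left, hr0] using hz 2
    have hvz : herm v' z = 0 := by simpa [herm_smul_left, hr0'] using hz 3
    obtain ⟨c', hc0', hc'⟩ := Hermitian.exists_norm hstar hF (neg_ne_zero.2 hvv) (by rw [star_neg, star_herm])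
    refine ⟨v' + c' • z, add_mem hvW (Submodule.smul_mem _ _ (mem_W_of_perp P he hf)), ?_, ?_, ?_⟩
    · simp only [herm_add_left, herm_add_right, herm_smul_left, herm_smul_right, hz1, hvz, sw hvz]
      linear_combination hc'
    · rw [herm_add_right, herm_smul_right, hxv, hxz]; ring
    · have hxu : herm x (v' + c' • z) = 0 := by rw [herm_add_right, herm_smul_right, hxv, hxz]; ring
      rw [huv _ hxu, herm_add_left, herm_smul_left, sw hvz, mul_zero, add_zero]
      exact hvv

/-! ### Moves -/

theorem pairs_frame (P : Pair i j e f) {x y : Fin n → F} (hx : x ∈ Wsub i j) (hy : y ∈ Wsub i j)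
    (hxx : herm x x = 0) (hyy : herm y y = 0) (hxy : herm x y = 1) :
    Frame ![e, x] ![f, y] (Fin.elim0 : Fin 0 → Fin n → F) := by
  have hyx : herm y x = 1 := by rw [← star_herm, hxy, star_one]
  constructor
  · intro r s; fin_cases r <;> fin_cases s <;> simp [P.ee, hxx, (P.herm_W hx).1, (P.W_herm hx).1]
  · intro r s; fin_cases r <;> fin_cases s <;> simp [P.ff, hyy, (P.herm_W hy).2, (P.W_herm hy).2]
  · intro r s; fin_cases r <;> fin_cases s <;> simp [P.ef, hxy, (P.herm_W hy).1, (P.W_herm hx).2]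
  · intro r t; exact t.elim0
  · intro r t; exact t.elim0
  · intro r t; exact t.elim0

/-- Hyperbolic pairs of the complement are conjugate. -/
theorem exists_move_pair (P : Pair i j e f) (hn : 5 ≤ n) {x y x' y' : Fin n → F} (hx : x ∈ Wsub i j)
    (hy : y ∈ Wsub i j) (hx' : x' ∈ Wsub i j) (hy' : y' ∈ Wsub i j) (hxx : herm x x = 0) (hyy : herm y y = 0)
    (hxy : herm x y = 1) (hxx' : herm x' x' = 0) (hyy' : herm y' y' = 0) (hxy' : herm x' y' = 1) :
    ∃ g : Cfsg.SU n F q, g ∈ par1 q P ∧ act g e = e ∧ act g f = f ∧ act g x = x' ∧ act g y = y' := by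
  obtain ⟨g, ha, hb, -⟩ := exists_move_frame hstar hF (pairs_frame hstar hF P hx hy hxx hyy hxy)
    (pairs_frame hstar hF P hx' hy' hxx' hyy' hxy') (by omega)
  exact ⟨g, (of_fix hstar P (ha 0) (hb 0)).1, ha 0, hb 0, ha 1, hb 1⟩

theorem exists_move_iso (P : Pair i j e f) (hn : 5 ≤ n) {x x' : Fin n → F} (hx : x ∈ Wsub i j)
    (hx' : x' ∈ Wsub i j) (hx0 : x ≠ 0) (hx0' : x' ≠ 0) (hxx : herm x x = 0) (hxx' : herm x' x' = 0) :
    ∃ g ∈ par1 q P, rho e f g x = x' ∧ tw e f g x = x' := by
  obtain ⟨y, hy, hyy, hxy⟩ := exists_partner hstar hF P hx hx0 hxx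
  obtain ⟨y', hy', hyy', hxy'⟩ := exists_partner hstar hF P hx' hx0' hxx'
  obtain ⟨g, hg, he, hf, hgx, -⟩ := exists_move_pair hstar hF P hn hx hy hx' hy' hxx hyy hxy hxx' hyy' hxy'
  obtain ⟨-, h1, h2⟩ := (of_fix hstar P he hf).2 x hx
  exact ⟨g, hg, h1.trans hgx, h2.trans hgx⟩

/-- An element with a prescribed scalar moving one anisotropic vector to another. -/
theorem exists_move_scalar (P : Pair i j e f) (hn : 4 ≤ n) {x y : Fin n → F} (hx : x ∈ Wsub i j)
    (hy : y ∈ Wsub i j) (hxx : herm x x ≠ 0) (hxy : herm y y = herm x x) {c : F} (hc : c ≠ 0) :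
    ∃ g ∈ par1 q P, sc e f g = c ∧ act g x = y := by
  obtain ⟨r, hr0, hr⟩ := exists_scale hstar hF hxx
  have hcs : star c ≠ 0 := star_ne_zero.2 hc
  have h1 : Frame ![e] ![f] ![r • x] := by
    constructor
    · intro a b; fin_cases a; fin_cases b; exact P.ee
    · intro a b; fin_cases a; fin_cases b; exact P.ff
    · intro a b; fin_cases a; fin_cases b; simpa using P.ef
    · intro a b; fin_cases a; fin_cases b; exact (P.herm_W (Submodule.smul_mem _ r hx)).1
    · intro a b; fin_cases a; fin_cases b; exact (P.herm_W (Submodule.smul_mem _ r hx)).2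
    · exact on_one hr
  have h2 : Frame ![c • e] ![(star c)⁻¹ • f] ![r • y] := by
    constructor
    · intro a b; fin_cases a; fin_cases b; simp [herm_smul_left, herm_smul_right, P.ee]
    · intro a b; fin_cases a; fin_cases b; simp [herm_smul_left, herm_smul_right, P.ff]
    · intro a b; fin_cases a; fin_cases b
      simp [herm_smul_left, herm_smul_right, P.ef, hcs]
    · intro a b; fin_cases a; fin_cases b
      simp [herm_smul_left, herm_smul_right, (P.herm_W hy).1]
    · intro a b; fin_cases a; fin_cases b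
      simp [herm_smul_left, herm_smul_right, (P.herm_W hy).2]
    · exact on_one (by rw [← hr, herm_smul_left, herm_smul_left, herm_smul_right, herm_smul_right, hxy])
  obtain ⟨g, ha, hb, hcc⟩ := exists_move_frame hstar hF h1 h2 (by omega)
  have hge : act g e = c • e := ha 0
  refine ⟨g, ⟨c, hge⟩, by rw [sc, hge, herm_smul_right, P.fe, mul_one], ?_⟩
  have h := hcc 0
  simp only [Matrix.cons_val_zero, act_smul] at h
  exact smul_right_injective _ hr0 h

theorem exists_move_rho (P : Pair i j e f) (hn : 4 ≤ n) {x x' : Fin n → F} (hx : x ∈ Wsub i j)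
    (hx' : x' ∈ Wsub i j) (hxx : herm x x ≠ 0) (hxx' : herm x' x' ≠ 0) :
    ∃ g ∈ par1 q P, rho e f g x = x' := by
  obtain ⟨c, hc0, hc⟩ := Hermitian.exists_norm hstar hF (a := herm x' x' / herm x x) (div_ne_zero hxx' hxx)
    (by rw [star_div₀, star_herm, star_herm])
  have hcs : star c ≠ 0 := star_ne_zero.2 hc0
  obtain ⟨g, hg, hs, hgx⟩ := exists_move_scalar hstar hF P hn hx (Submodule.smul_mem _ (star c)⁻¹ hx') hxx
    (by
      rw [herm_smul_left, herm_smul_right, star_inv₀, star_star, ← mul_assoc, ← mul_inv, mul_comm c, hc]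
      field_simp) hc0
  exact ⟨g, hg, by rw [rho, hs, hgx, projW_of_mem P (Submodule.smul_mem _ _ hx'), smul_smul, mul_inv_cancel₀ hcs, one_smul]⟩

theorem exists_move_tw (P : Pair i j e f) (hn : 4 ≤ n) {x x' : Fin n → F} (hx : x ∈ Wsub i j)
    (hx' : x' ∈ Wsub i j) (hxx : herm x x ≠ 0) (hxx' : herm x' x' ≠ 0) :
    ∃ g ∈ par1 q P, tw e f g x = x' := by
  obtain ⟨c, hc0, hc⟩ := Hermitian.exists_norm hstar hF (a := herm x x / herm x' x') (div_ne_zero hxx hxx')
    (by rw [star_div₀, star_herm, star_herm])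
  obtain ⟨g, hg, hs, hgx⟩ := exists_move_scalar hstar hF P hn hx (Submodule.smul_mem _ c hx') hxx
    (by rw [herm_smul_left, herm_smul_right, ← mul_assoc, hc, div_mul_cancel₀ _ hxx']) hc0
  exact ⟨g, hg, by rw [tw, hs, hgx, projW_of_mem P (Submodule.smul_mem _ _ hx'), smul_smul, inv_mul_cancel₀ hc0, one_smul]⟩

/-! ### Counts -/

theorem card_supp (I : Finset (Fin n)) : Nat.card {x : Fin n → F // Supp I x} = q ^ (2 * I.card) ∧
    Nat.card {x : Fin n → F // Supp I x ∧ herm x x = 0} = (q ^ 2 - 1) * pts q I.card + 1 := by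
  classical
  let φ : Fin I.card ≃ I := (Finset.equivFin I).symm
  let Ψ : {x : Fin n → F // Supp I x} ≃ (Fin I.card → F) :=
    { toFun := fun x r => x.1 (φ r)
      invFun := fun g => ⟨fun m => if h : m ∈ I then g (φ.symm ⟨m, h⟩) else 0, fun m hm => dif_neg hm⟩
      left_inv := fun x => by
        refine Subtype.ext (funext fun m => ?_)
        show (if h : m ∈ I then x.1 (φ (φ.symm ⟨m, h⟩)) else 0) = x.1 m
        split_ifs with h
        · rw [φ.apply_symm_apply]
        · exact (x.2 m h).symm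
      right_inv := fun g => funext fun r => by
        show (if h : (φ r : Fin n) ∈ I then g (φ.symm ⟨φ r, h⟩) else 0) = g r
        rw [dif_pos (φ r).2, Subtype.coe_eta, φ.symm_apply_apply] }
  have hform : ∀ x : {x : Fin n → F // Supp I x}, Cfsg.hermForm I.card F q (Ψ x) (Ψ x) = herm x.1 x.1 := by
    intro x
    show ∑ r, x.1 (φ r) * (x.1 (φ r)) ^ q = ∑ k, star (x.1 k) * x.1 k
    rw [φ.sum_comp (fun m : I => x.1 m * (x.1 m) ^ q), Finset.sum_coe_sort I (fun m => x.1 m * (x.1 m) ^ q)]
    rw [← Finset.sum_subset (Finset.subset_univ I) (fun m _ hm => by rw [x.2 m hm]; simp)]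
    exact Finset.sum_congr rfl fun m _ => by rw [hstar, mul_comm]
  refine ⟨by rw [Nat.card_congr Ψ, Nat.card_fun, Nat.card_eq_fintype_card, hF, Nat.card_eq_fintype_card,
    Fintype.card_fin, ← pow_mul], ?_⟩
  rw [← iso_eq q I.card (by have := Hermitian.q_two_le hF; omega), ← Lead.FormsCount.card_herm_zero hF I.card]
  exact Nat.card_congr ((Equiv.subtypeSubtypeEquivSubtypeInter _ _).symm.trans
    (Ψ.subtypeEquiv fun x => by rw [hform]))

theorem supp_iff_mem {x : Fin n → F} : x ∈ Wsub i j ↔ Supp (Finset.univ \ {i, j}) x := by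
  refine ⟨supp_of_mem, fun h => ⟨h i (by simp), h j (by simp)⟩⟩

theorem card_iso_W (P : Pair i j e f) :
    Nat.card {x : Fin n → F | x ∈ Wsub i j ∧ x ≠ 0 ∧ herm x x = 0} = (q ^ 2 - 1) * pts q (n - 2) := by
  classical
  have hI : (Finset.univ \ {i, j} : Finset (Fin n)).card = n - 2 := by
    rw [Finset.card_sdiff, Finset.inter_univ, Finset.card_univ, Fintype.card_fin, Finset.card_pair P.ne]
  have h := (card_supp hstar hF (Finset.univ \ {i, j} : Finset (Fin n))).2
  rw [hI] at h
  have h2 : Nat.card {x : Fin n → F // Supp (Finset.univ \ {i, j}) x ∧ herm x x = 0} =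
      Nat.card {x : Fin n → F | x ∈ Wsub i j ∧ x ≠ 0 ∧ herm x x = 0} + 1 := by
    rw [Nat.card_eq_fintype_card, Nat.card_eq_fintype_card, ← Fintype.card_option]
    refine Fintype.card_congr
      { toFun := fun x => if h : x.1 = 0 then none else some ⟨x.1, (supp_iff_mem hstar hF).2 x.2.1, h, x.2.2⟩
        invFun := fun o => o.elim ⟨0, fun _ _ => rfl, herm_zero_left _⟩
          (fun y => ⟨y.1, (supp_iff_mem hstar hF).1 y.2.1, y.2.2.2⟩)
        left_inv := fun x => by
          by_cases hx : x.1 = 0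
          · simp only [dif_pos hx, Option.elim_none]; exact Subtype.ext hx.symm
          · simp only [dif_neg hx, Option.elim_some]
        right_inv := fun o => by
          rcases o with _ | y
          · simp
          · simp [y.2.2.1] }
  omega

theorem card_aniso_W (P : Pair i j e f) :
    Nat.card {x : Fin n → F | x ∈ Wsub i j ∧ herm x x ≠ 0} = (q ^ 2 - 1) * nip q (n - 2) := by
  classical
  have h1 := card_iso_W hstar hF P
  have h2 := card_W hF P.ne (F := F)
  have hu : {x : Fin n → F | x ∈ Wsub i j ∧ x ≠ 0 ∧ herm x x = 0} ∪ {x : Fin n → F | x ∈ Wsub i j ∧ herm x x ≠ 0} ∪ {0} =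
      ((Wsub i j : Submodule F (Fin n → F)) : Set (Fin n → F)) := by
    ext x
    simp only [Set.mem_union, Set.mem_setOf_eq, Set.mem_singleton_iff, SetLike.mem_coe]
    constructor
    · rintro ((h | h) | rfl)
      exacts [h.1, h.1, Submodule.zero_mem _]
    · intro h; tauto
  have h3 := congrArg Set.ncard hu
  rw [Set.ncard_union_eq ?_ (Set.toFinite _) (Set.toFinite _), Set.ncard_union_eq ?_ (Set.toFinite _) (Set.toFinite _),
    Set.ncard_singleton] at h3
  · simp only [← Nat.card_coe_set_eq] at h3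
    rw [h1] at h3
    have h4 : Nat.card (((Wsub i j : Submodule F (Fin n → F)) : Set (Fin n → F))) = q ^ (2 * (n - 2)) := h2
    rw [h4] at h3
    have h5 := pts_total q (by have := Hermitian.q_two_le hF; omega) (n - 2)
    have hQ : 1 ≤ q ^ 2 := Nat.one_le_pow _ _ (by have := Hermitian.q_two_le hF; omega)
    have h6 : ((q ^ 2 - 1) * pts q (n - 2) + (q ^ 2 - 1) * nip q (n - 2) + 1 : ℕ) = q ^ (2 * (n - 2)) := by
      apply Nat.cast_injective (R := ℤ)
      push_cast [Nat.cast_sub hQ]
      linear_combination h5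
    omega
  · exact Set.disjoint_left.2 fun x h h' => h'.2 h.2.2
  · refine Set.disjoint_left.2 fun x h h' => ?_
    rw [Set.mem_singleton_iff] at h'
    rcases h with h | h
    · exact h.2.1 h'
    · exact h.2 (by rw [h', herm_zero_left])

end Finite

end Cfsg.Agent.Small.UMinIndex
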