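import Cfsg.Agent.Lib.Small.UMinIndex.Radical
import Cfsg.Agent.Lib.Small.UMinIndex.Orbits

/-!
The translates of the annihilator cover all isotropic or all anisotropic vectors, which bounds the index in the
stabiliser of a point from below.
-/

set_option autoImplicit false
set_option linter.unusedSectionVars false
set_option linter.style.haveILetI false

namespace Cfsg.Agent.Small.UMinIndex

open Matrix Cfsg.Agent.Small.Unitary Cfsg.Agent.Small.UCover

variable {F : Type*} [Field F] [Fintype F] [StarRing F] {n q : ℕ} {i j : Fin n} {e f : Fin n → F}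

/-- The isotropic part. -/
def isoPart (C : AddSubgroup (Fin n → F)) : Set (Fin n → F) := {x | x ∈ C ∧ x ≠ 0 ∧ herm x x = 0}

/-- The anisotropic part. -/
def anPart (C : AddSubgroup (Fin n → F)) : Set (Fin n → F) := {x | x ∈ C ∧ herm x x ≠ 0}

theorem card_split (C : AddSubgroup (Fin n → F)) :
    Nat.card C = Nat.card (isoPart C) + Nat.card (anPart C) + 1 := by
  have hu : (C : Set (Fin n → F)) = isoPart C ∪ anPart C ∪ {0} := by
    ext x
    simp only [isoPart, anPart, Set.mem_union, Set.mem_ofPred_eq, Set.mem_singleton_iff, SetLike.mem_coe]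
    constructor
    · intro h; tauto
    · rintro ((h | h) | rfl)
      exacts [h.1, h.1, zero_mem C]
  calc Nat.card C = ((C : Set (Fin n → F))).ncard := (Nat.card_coe_set_eq _)
    _ = _ := by
        rw [hu, Set.ncard_union_eq ?_ (Set.toFinite _) (Set.toFinite _),
          Set.ncard_union_eq ?_ (Set.toFinite _) (Set.toFinite _), Set.ncard_singleton, Nat.card_coe_set_eq,
          Nat.card_coe_set_eq]
        · exact Set.disjoint_left.2 fun x h h' => h'.2 h.2.2
        · refine Set.disjoint_left.2 fun x h h' => ?_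
          rw [Set.mem_singleton_iff] at h'
          rcases h with h | h
          · exact h.2.1 h'
          · exact h.2 (by rw [h', herm_zero_left])

/-- Parts of one line are small. -/
theorem card_line_le (hF : Fintype.card F = q ^ 2) {x : Fin n → F} {S : Set (Fin n → F)}
    (h : ∀ y ∈ S, y ≠ 0 ∧ ∃ c : F, y = c • x) : Nat.card S ≤ q ^ 2 - 1 := by
  classical
  have hc : ∀ y : S, ∃ c : Fˣ, y.1 = (c : F) • x := fun y => by
    obtain ⟨hy, c, hc⟩ := h y.1 y.2
    exact ⟨Units.mk0 c (fun h0 => hy (by rw [hc, h0, zero_smul])), hc⟩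
  choose φ hφ using hc
  have h1 := Nat.card_le_card_of_injective φ fun a b e => Subtype.ext (by rw [hφ a, e, hφ b])
  rwa [Nat.card_units, Nat.card_eq_fintype_card (α := F), hF] at h1

/-- Moves. -/
theorem herm_ne_of_smul {x : Fin n → F} {c : F} (h : x = c • x) (hx : x ≠ 0) : c = 1 := by
  have : (c - 1) • x = 0 := by rw [sub_smul, one_smul, ← h, sub_self]
  exact sub_eq_zero.1 ((smul_eq_zero.1 this).resolve_right hx)

section

variable (hstar : ∀ x : F, star x = x ^ q) (hF : Fintype.card F = q ^ 2) (P : Pair i j e f)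
  (C : AddSubgroup (Fin n → F))
include hstar hF

theorem tw_iso {g : Cfsg.SU n F q} (hg : g ∈ par1 q P) {x : Fin n → F} (hx : x ∈ Wsub i j) :
    (tw e f g x = 0 ↔ x = 0) ∧ (herm (tw e f g x) (tw e f g x) = 0 ↔ herm x x = 0) := by
  have hs := sc_ne_zero P hg
  have h1 : herm (tw e f g x) (tw e f g x) = (star (sc e f g) * sc e f g)⁻¹ * herm x x := by
    rw [tw, herm_smul_left, herm_smul_right, herm_rho hstar P hg hx hx, star_inv₀, mul_inv]; ring
  refine ⟨⟨fun h => ?_, fun h => by rw [h, tw, show act g (0 : Fin n → F) = 0 from Matrix.mulVec_zero _, projW]; simp [herm_zero_right]⟩, ?_⟩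
  · rw [tw, smul_eq_zero, or_iff_right (inv_ne_zero hs)] at h
    have h2 := act_decomp hstar P hg hx
    rw [h, zero_add] at h2
    have h3 : act g⁻¹ (act g x) = herm f (act g x) • act g⁻¹ e := by rw [h2, act_smul, ← h2]
    rw [act_inv_act, act_point P (inv_mem hg), smul_smul] at h3
    have h4 := congrArg (herm f) h3
    rw [(P.herm_W hx).2, herm_smul_right, P.fe, mul_one] at h4
    rw [← h4, zero_smul] at h3
    exact h3
  · rw [h1, mul_eq_zero, or_iff_right (inv_ne_zero (mul_ne_zero (star_ne_zero.2 hs) hs))]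

theorem stab_isoPart {St : Subgroup (Cfsg.SU n F q)} (hle : St ≤ par1 q P) (hCW : ∀ x ∈ C, x ∈ Wsub i j)
    (hC : ∀ s ∈ St, ∀ x ∈ C, tw e f s x ∈ C) :
    (∀ s ∈ St, ∀ x ∈ isoPart C, tw e f s x ∈ isoPart C) ∧ ∀ s ∈ St, ∀ x ∈ anPart C, tw e f s x ∈ anPart C := by
  constructor
  · intro s hs x hx
    obtain ⟨h1, h2⟩ := tw_iso hstar hF P (hle hs) (hCW x hx.1)
    exact ⟨hC s hs x hx.1, fun h => hx.2.1 (h1.1 h), h2.2 hx.2.2⟩
  · intro s hs x hx
    obtain ⟨-, h2⟩ := tw_iso hstar hF P (hle hs) (hCW x hx.1)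
    exact ⟨hC s hs x hx.1, fun h => hx.2 (h2.1 h)⟩

/-- A stable subgroup, fixed by all the elements fixing one of its isotropic vectors, lies in a line. -/
theorem iso_line (hn : 5 ≤ n) {St : Subgroup (Cfsg.SU n F q)} (hCW : ∀ x ∈ C, x ∈ Wsub i j)
    (hC : ∀ s ∈ St, ∀ x ∈ C, tw e f s x ∈ C) (hiso : ∀ x ∈ C, herm x x = 0)
    (hfix : ∀ x ∈ isoPart C, ∀ g ∈ par1 q P, tw e f g x = x → g ∈ St) {x : Fin n → F} (hx : x ∈ isoPart C) :
    ∀ y ∈ C, ∃ c : F, y = c • x := by
  intro y hy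
  by_contra! hind
  have hxW := hCW x hx.1
  have hyW := hCW y hy
  have hy0 : y ≠ 0 := fun h => hind 0 (by rw [h, zero_smul])
  have hyy := hiso y hy
  by_cases hβ : herm x y = 0
  · have hyx : herm y x = 0 := by rw [← star_herm, hβ, star_zero]
    have line : ∀ {a b : Fin n → F}, a ∈ isoPart C → b ∈ C → herm a b = 0 → (∀ c : F, b ≠ c • a) →
        ∀ lam : F, lam • a ∈ C := by
      intro a b ha hb hab hind' lam
      obtain ⟨u, huW, huu, hau, hbu⟩ := exists_partner_two hstar hF P (hCW a ha.1) (hCW b hb) hab (hiso b hb) hind' ha.2.1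
      have hok : EOk a (star lam • u) 0 := ⟨ha.2.2, by rw [herm_smul_right, hau, mul_zero], by
        rw [herm_smul_left, herm_smul_right, huu]; simp⟩
      obtain ⟨he, hf⟩ := fix_eich hstar P (hCW a ha.1) (Submodule.smul_mem _ _ huW) hok
      obtain ⟨hg, hact⟩ := of_fix hstar P he hf
      have hga : tw e f (eich hstar a (star lam • u) 0) a = a := by
        rw [(hact a (hCW a ha.1)).2.2, act_eich_self hstar hok]
      have h := hC _ (hfix a ha _ hg hga) b hb
      rw [(hact b (hCW b hb)).2.2, act_eich hstar hok, hab, zero_smul, add_zero, zero_mul, zero_sub, herm_smul_left,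
        star_star, show herm u b = 1 by rw [← star_herm, hbu, star_one], mul_one] at h
      have h2 := sub_mem hb h
      simpa [neg_smul] using h2
    have hlx := line hx hy hβ hind
    have hly := line (a := y) ⟨hy, hy0, hyy⟩ hx.1 hyx fun c hc => by
      rcases eq_or_ne c 0 with rfl | hc0
      · exact hx.2.1 (by rw [hc, zero_smul])
      · exact hind c⁻¹ (by rw [hc, smul_smul, inv_mul_cancel₀ hc0, one_smul])
    obtain ⟨u, huW, huu, hxu, hyu⟩ := exists_partner_two hstar hF P hxW hyW hβ hyy hind hx.2.1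
    obtain ⟨θ, hθ0, hθ⟩ := exists_skew hstar hF
    obtain ⟨s, hs⟩ := exists_trace hstar hF (r := (1 : F)) (star_one F)
    obtain ⟨he, hf⟩ := fix_trans hstar P huW huu hθ
    obtain ⟨hg, hact⟩ := of_fix hstar P he hf
    have hgx : tw e f (trans hstar u huu θ hθ) x = x := by
      rw [(hact x hxW).2.2, act_trans, show herm u x = 0 by rw [← star_herm, hxu, star_zero]]; simp
    have h := hC _ (hfix x hx _ hg hgx) y hy
    have huy : herm u y = 1 := by rw [← star_herm, hyu, star_one]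
    rw [(hact y hyW).2.2, act_trans, huy, mul_one] at h
    have h2 := add_mem (hly (s * θ)) (sub_mem h hy)
    rw [add_sub_cancel_left] at h2
    have h3 := hiso _ h2
    simp only [herm_add_left, herm_add_right, herm_smul_left, herm_smul_right, hyy, huu, hyu, huy, star_mul', hθ] at h3
    have h4 : θ * θ * (s + star s) = 0 := by linear_combination -h3
    rw [hs, mul_one, mul_self_eq_zero] at h4
    exact hθ0 h4
  · obtain ⟨y1, hy1, hyy1, hxy1⟩ := exists_partner hstar hF P hxW hx.2.1 hx.2.2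
    obtain ⟨z, hzW, hzz, hxz, -⟩ := exists_unit_W hstar hF P hn hxW hy1 hx.2.2 hyy1 hxy1
    obtain ⟨a, ha⟩ := exists_param hstar hF hx.2.2 hxz
    obtain ⟨he, hf⟩ := fix_eich hstar P hxW hzW ha
    obtain ⟨hg, hact⟩ := of_fix hstar P he hf
    have hgx : tw e f (eich hstar x z a) x = x := by rw [(hact x hxW).2.2, act_eich_self hstar ha]
    have h := sub_mem (hC _ (hfix x hx _ hg hgx) y hy) hy
    rw [(hact y hyW).2.2, act_eich hstar ha, add_assoc, add_sub_cancel_left] at h
    have h3 := hiso _ h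
    have hzx : herm z x = 0 := by rw [← star_herm, hxz, star_zero]
    simp only [herm_add_left, herm_add_right, herm_smul_left, herm_smul_right, hx.2.2, hxz, hzx, hzz, mul_zero,
      mul_one, add_zero] at h3
    exact hβ (by simpa using h3)

/-- A stable subgroup of anisotropic vectors, fixed by all the elements fixing one of them, lies in a line. -/
theorem aniso_line (hn : 5 ≤ n) {St : Subgroup (Cfsg.SU n F q)} (hCW : ∀ x ∈ C, x ∈ Wsub i j)
    (hC : ∀ s ∈ St, ∀ x ∈ C, tw e f s x ∈ C) (han : ∀ x ∈ C, herm x x = 0 → x = 0)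
    {x : Fin n → F} (hx : x ∈ anPart C) (hfix : ∀ g ∈ par1 q P, tw e f g x = x → g ∈ St) :
    ∀ y ∈ C, ∃ c : F, y = c • x := by
  intro y hy
  by_contra! hind
  obtain ⟨θ, hθ0, hθ⟩ := exists_skew hstar hF
  obtain ⟨u, huW, huu, hxu, huy⟩ := exists_iso_perp hstar hF P hn (hCW x hx.1) (hCW y hy) hx.2 hind
  obtain ⟨he, hf⟩ := fix_trans hstar P huW huu hθ
  obtain ⟨hg, hact⟩ := of_fix hstar P he hf
  have hgx : tw e f (trans hstar u huu θ hθ) x = x := by
    rw [(hact x (hCW x hx.1)).2.2, act_trans, show herm u x = 0 by rw [← star_herm, hxu, star_zero]]; simp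
  have h := sub_mem (hC _ (hfix _ hg hgx) y hy) hy
  rw [(hact y (hCW y hy)).2.2, act_trans, add_sub_cancel_left] at h
  have h2 := han _ h (by rw [herm_smul_left, herm_smul_right, huu]; ring)
  rw [smul_eq_zero, or_iff_left, mul_eq_zero, or_iff_left huy] at h2
  · exact hθ0 h2
  · rintro rfl
    exact huy (herm_zero_left _)

/-- The lower bound by covering. -/
theorem cover_bound (hn : 5 ≤ n) {St : Subgroup (Cfsg.SU n F q)} (hle : St ≤ par1 q P)
    (hCW : ∀ x ∈ C, x ∈ Wsub i j) (hC : ∀ s ∈ St, ∀ x ∈ C, tw e f s x ∈ C) (hC0 : ∃ x ∈ C, x ≠ 0) :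
    q ^ 2 * pts q (n - 2) ≤ St.relIndex (par1 q P) * Nat.card C ∨
      q = 2 ∧ q ^ 2 * nip q (n - 2) ≤ St.relIndex (par1 q P) * Nat.card C := by
  have hq := Hermitian.q_two_le hF
  obtain ⟨hT1, hT2⟩ := stab_isoPart hstar hF P C hle hCW hC
  have hD1 : isoPart C ⊆ ((Wsub i j : Submodule F (Fin n → F)) : Set (Fin n → F)) := fun x hx => hCW x hx.1
  have hD2 : anPart C ⊆ ((Wsub i j : Submodule F (Fin n → F)) : Set (Fin n → F)) := fun x hx => hCW x hx.1
  obtain ⟨k, hk⟩ : ∃ k, k = St.relIndex (par1 q P) := ⟨_, rfl⟩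
  have hk1 : 1 ≤ k := hk ▸ Nat.one_le_iff_ne_zero.2 (by rw [Subgroup.relIndex]; exact Subgroup.index_ne_zero_of_finite)
  obtain ⟨P', hP'⟩ : ∃ P', P' = pts q (n - 2) := ⟨_, rfl⟩
  obtain ⟨N', hN'⟩ : ∃ N', N' = nip q (n - 2) := ⟨_, rfl⟩
  obtain ⟨T1, hT1c⟩ : ∃ T1, T1 = Nat.card (isoPart C) := ⟨_, rfl⟩
  obtain ⟨T2, hT2c⟩ : ∃ T2, T2 = Nat.card (anPart C) := ⟨_, rfl⟩
  have hI : ∀ x ∈ isoPart C, (q ^ 2 - 1) * P' ≤ k * T1 := fun x hx => by
    rw [hP', ← card_iso_W hstar hF P, hk, hT1c]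
    refine card_le_cover (actsOn_tw hstar P) hle hD1 hT1 fun y hy => ?_
    obtain ⟨g, hg, -, hgx⟩ := exists_move_iso hstar hF P hn (hCW x hx.1) hy.1 hx.2.1 hy.2.1 hx.2.2 hy.2.2
    exact ⟨g, hg, x, hx, hgx⟩
  have hA : ∀ x ∈ anPart C, (q ^ 2 - 1) * N' ≤ k * T2 := fun x hx => by
    rw [hN', ← card_aniso_W hstar hF P, hk, hT2c]
    refine card_le_cover (actsOn_tw hstar P) hle hD2 hT2 fun y hy => ?_
    obtain ⟨g, hg, hgx⟩ := exists_move_tw hstar hF P (by omega) (hCW x hx.1) hy.1 hx.2 hy.2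
    exact ⟨g, hg, x, hx, hgx⟩
  rw [← hk, card_split, ← hT1c, ← hT2c, ← hP', ← hN']
  have h0 : isoPart C = ∅ → T1 = 0 := fun h => by rw [hT1c, h]; simp
  have h0' : anPart C = ∅ → T2 = 0 := fun h => by rw [hT2c, h]; simp
  obtain ⟨Q, hQ⟩ : ∃ Q, q ^ 2 = Q + 1 := ⟨q ^ 2 - 1, by have := Nat.one_le_pow 2 q (by omega); omega⟩
  have hQ3 : 3 ≤ Q := by have := Nat.pow_le_pow_left hq 2; omega
  rcases (isoPart C).eq_empty_or_nonempty with hi | ⟨x, hx⟩
  · obtain ⟨x, hx⟩ : (anPart C).Nonempty := by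
      obtain ⟨x, hx, hx0⟩ := hC0
      refine ⟨x, hx, fun h => ?_⟩
      exact (Set.eq_empty_iff_forall_notMem.1 hi x) ⟨hx, hx0, h⟩
    have h1 := hA x hx
    rcases Nat.lt_or_ge q 3 with hq2 | hq3
    · obtain rfl : q = 2 := by omega
      refine Or.inr ⟨rfl, ?_⟩
      by_cases hd : ∃ g ∈ par1 2 P, tw e f g x = x ∧ g ∉ St
      · obtain ⟨g, hg, hgx, hgS⟩ := hd
        have h2 : 2 * ((2 ^ 2 - 1) * N') ≤ k * T2 := by
          rw [hN', ← card_aniso_W hstar hF P, hk, hT2c]
          refine card_le_cover_two (actsOn_tw hstar P) hle hD2 hT2 fun y hy => ?_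
          obtain ⟨g0, hg0, hgy⟩ := exists_move_tw hstar hF P (by omega) (hCW x hx.1) hy.1 hx.2 hy.2
          refine ⟨g0, hg0, g0 * g, mul_mem hg0 hg, by rwa [inv_mul_cancel_left], x, hx, x, hx, hgy, ?_⟩
          rw [tw_mul hstar P hg0 hg (hCW x hx.1), hgx, hgy]
        rw [h0 hi]
        norm_num at h2 ⊢
        linarith
      · push Not at hd
        have hl := aniso_line hstar hF P C hn hCW hC (fun z hz hzz => by
          by_contra hz0
          exact Set.eq_empty_iff_forall_notMem.1 hi z ⟨hz, hz0, hzz⟩) hx hd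
        have h2 : T2 ≤ 2 ^ 2 - 1 := hT2c ▸ card_line_le hF fun y hy =>
          ⟨fun h => hy.2 (by rw [h, herm_zero_left]), hl y hy.1⟩
        have h3 : (2 ^ 2 - 1) * N' ≤ (2 ^ 2 - 1) * k := h1.trans (by rw [mul_comm _ k]; exact Nat.mul_le_mul_left _ h2)
        rw [h0 hi]
        norm_num at h1 h3 ⊢
        linarith
    · refine Or.inl (le_trans ?_ (le_trans h1 (Nat.mul_le_mul_left _ (by omega))))
      rw [hP', hN']
      exact nip_dominant hq3 (by omega)
  · have h1 := hI x hx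
    rcases (anPart C).eq_empty_or_nonempty with ha | ⟨y, hy⟩
    · refine Or.inl ?_
      by_cases hd : ∃ x ∈ isoPart C, ∃ g ∈ par1 q P, tw e f g x = x ∧ g ∉ St
      · obtain ⟨x, hx, g, hg, hgx, hgS⟩ := hd
        have h2 : 2 * ((q ^ 2 - 1) * P') ≤ k * T1 := by
          rw [hP', ← card_iso_W hstar hF P, hk, hT1c]
          refine card_le_cover_two (actsOn_tw hstar P) hle hD1 hT1 fun y hy => ?_
          obtain ⟨g0, hg0, -, hgy⟩ := exists_move_iso hstar hF P hn (hCW x hx.1) hy.1 hx.2.1 hy.2.1 hx.2.2 hy.2.2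
          refine ⟨g0, hg0, g0 * g, mul_mem hg0 hg, by rwa [inv_mul_cancel_left], x, hx, x, hx, hgy, ?_⟩
          rw [tw_mul hstar P hg0 hg (hCW x hx.1), hgx, hgy]
        rw [hQ, Nat.add_sub_cancel] at h2
        rw [hQ, h0' ha]
        nlinarith
      · push Not at hd
        have hl := iso_line hstar hF P C hn hCW hC (fun z hz => by
          by_contra hzz
          exact Set.eq_empty_iff_forall_notMem.1 ha z ⟨hz, hzz⟩) hd hx
        have h2 : T1 ≤ q ^ 2 - 1 := hT1c ▸ card_line_le hF fun y hy => ⟨hy.2.1, hl y hy.1⟩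
        have h3 : (q ^ 2 - 1) * P' ≤ (q ^ 2 - 1) * k := h1.trans (by rw [mul_comm _ k]; exact Nat.mul_le_mul_left _ h2)
        rw [hQ, Nat.add_sub_cancel] at h1 h3
        have h4 := Nat.le_of_mul_le_mul_left h3 (by omega)
        rw [hQ, h0' ha]
        nlinarith
    · refine Or.inl ?_
      have h2 := hA y hy
      have ht := pts_total q (by omega) (n - 2)
      have hl := lift_le hq (n - 2)
      rw [← hP', ← hN'] at ht
      rw [← hP'] at hl
      have h5 : (q ^ 2 - 1) * P' + (q ^ 2 - 1) * N' + 1 = q ^ (2 * (n - 2)) := by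
        apply Nat.cast_injective (R := ℤ)
        push_cast [Nat.cast_sub (show 1 ≤ q ^ 2 from Nat.one_le_pow _ _ (by omega))]
        linear_combination ht
      nlinarith

end

/-- The index in the stabiliser of a point when the parameters are not all. -/
theorem bound_proper (hstar : ∀ x : F, star x = x ^ q) (hF : Fintype.card F = q ^ 2) (P : Pair i j e f) (hn : 5 ≤ n)
    (H : Subgroup (Cfsg.SU n F q)) (hA : Nat.card (prm hstar P H) < q ^ (2 * (n - 2))) :
    q ^ 2 * pts q (n - 2) ≤ H.relIndex (par1 q P) ∨ q = 2 ∧ q ^ 2 * nip q (n - 2) ≤ H.relIndex (par1 q P) := by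
  obtain ⟨χ, hχ, -⟩ := exists_chi hstar hF
  have hc := card_ann hstar hF hχ P H
  have hC0 : ∃ x ∈ ann χ hstar P H, x ≠ 0 := by
    by_contra! h
    have : Nat.card (ann χ hstar P H) = 1 := by
      rw [Nat.card_eq_one_iff_unique]
      exact ⟨⟨fun a b => Subtype.ext (by rw [h a.1 a.2, h b.1 b.2])⟩, ⟨0⟩⟩
    rw [this, mul_one] at hc
    omega
  have h := bound_ann hstar hF P H hχ
  rcases cover_bound hstar hF P (ann χ hstar P H) hn (prmStab_le P H) (fun x hx => hx.1)
    (fun s hs x hx => tw_ann χ P H hs hx) hC0 with h1 | ⟨h2, h1⟩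
  · exact Or.inl (h1.trans h)
  · exact Or.inr ⟨h2, h1.trans h⟩

end Cfsg.Agent.Small.UMinIndex
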