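import Cfsg.Agent.Lib.Small.UMinIndex.CoverOne

/-!
Parameters with vanishing form: they span a totally isotropic subspace, whose translates cover all
pairs of perpendicular isotropic vectors.
-/

set_option autoImplicit false
set_option linter.unusedSectionVars false
set_option linter.style.haveILetI false

namespace Cfsg.Agent.Small.UMinIndex

open Matrix Module Cfsg.Agent.Small.Unitary Cfsg.Agent.Small.UCover

variable {F : Type*} [Field F] [Fintype F] [StarRing F] {n q : ℕ} {i j : Fin n} {e f : Fin n → F}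

theorem pts_two (q : ℕ) : pts q 2 = 1 + q := by simp [pts]

theorem pts_four (q : ℕ) : pts q 4 = (q ^ 2 + 1) * (q ^ 3 + 1) := by simp [pts]; ring

/-- The count for totally isotropic planes. -/
theorem plane_bound {q : ℕ} (hq : 2 ≤ q) {K T : ℕ} (hT : T ≤ (q ^ 4 - 1) * (q ^ 4 - q ^ 2))
    (h : (q ^ 2 - 1) * pts q 4 * (q ^ 2 * ((q ^ 2 - 1) * pts q 2)) ≤ K * T) :
    pts q 6 ≤ K * q ^ 5 := by
  have h2 : 1 ≤ q ^ 2 := Nat.one_le_pow _ _ (by omega)
  obtain ⟨Q, hQ⟩ : ∃ Q, q ^ 2 = Q + 1 := ⟨_, (Nat.sub_add_cancel h2).symm⟩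
  have e4 : q ^ 4 = (Q + 1) * (Q + 1) := by rw [← hQ]; ring
  have hT' : T ≤ (Q * (Q + 2)) * (Q * (Q + 1)) := by
    refine hT.trans (le_of_eq ?_)
    rw [e4, hQ]
    congr 1
    · rw [show (Q + 1) * (Q + 1) = Q * (Q + 2) + 1 by ring, Nat.add_sub_cancel]
    · rw [show (Q + 1) * (Q + 1) = Q * (Q + 1) + (Q + 1) by ring, Nat.add_sub_cancel]
  have hK : (q ^ 3 + 1) * (q + 1) ≤ K := by
    refine Nat.le_of_mul_le_mul_right ?_ (show 0 < (Q * (Q + 2)) * (Q * (Q + 1)) by
      have := Nat.pow_le_pow_left hq 2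
      have : 0 < Q := by omega
      positivity)
    calc (q ^ 3 + 1) * (q + 1) * ((Q * (Q + 2)) * (Q * (Q + 1)))
        = (q ^ 2 - 1) * pts q 4 * (q ^ 2 * ((q ^ 2 - 1) * pts q 2)) := by
          rw [pts_two, pts_four, hQ, Nat.add_sub_cancel]; ring
      _ ≤ K * T := h
      _ ≤ _ := Nat.mul_le_mul_left _ hT'
  refine le_trans ?_ (Nat.mul_le_mul_right _ hK)
  rw [pts, pts_four]
  have e1 : q ^ 7 * 2 ≤ q ^ 8 := by rw [pow_succ q 7]; exact Nat.mul_le_mul_left _ hq
  have e2 : q ^ 4 ≤ q ^ 6 := Nat.pow_le_pow_right (by omega) (by omega)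
  have e3 : q ^ 2 * 2 ≤ q ^ 3 := by rw [pow_succ q 2]; exact Nat.mul_le_mul_left _ hq
  have e5 : q ^ 3 ≤ q ^ 7 := Nat.pow_le_pow_right (by omega) (by omega)
  calc 1 + q ^ 2 * ((q ^ 2 + 1) * (q ^ 3 + 1)) + q ^ (2 * 4 + 1)
      = q ^ 9 + (q ^ 7 + 1 + q ^ 4 + q ^ 5 + q ^ 2) := by ring
    _ ≤ q ^ 9 + (q ^ 8 + q ^ 6 + q ^ 5) := by omega
    _ = _ := by ring

/-- The count for spans of dimension at least two. -/
theorem span_bound {q m : ℕ} (hq : 2 ≤ q) (hm : 6 ≤ m) :
    pts q (m + 2) * (q ^ m * (q ^ m * q ^ m)) ≤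
      (q ^ 2 - 1) * pts q m * (q ^ 2 * ((q ^ 2 - 1) * pts q (m - 2))) * (q ^ (2 * m) * q) := by
  have h1 := pts_lower q (show 2 ≤ m - 2 by omega)
  have h2 := pow_top_le (q := q) (show 2 ≤ m by omega)
  have hP := pts_pos hq (show 2 ≤ m by omega)
  obtain ⟨P, hP'⟩ : ∃ P, P = pts q m := ⟨_, rfl⟩
  rw [pts, ← hP']
  rw [← hP'] at h2 hP
  obtain ⟨Q, hQ⟩ : ∃ Q, q ^ 2 = Q + 1 := ⟨q ^ 2 - 1, by have := Nat.one_le_pow 2 q (by omega); omega⟩
  have hQ3 : 3 ≤ Q := by have := Nat.pow_le_pow_left hq 2; omega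
  have hI : 1 + q ^ 2 * P + q ^ (2 * m + 1) ≤ P * (q ^ 4 + q ^ 2 + 1) := by
    calc 1 + q ^ 2 * P + q ^ (2 * m + 1) ≤ P + q ^ 2 * P + q ^ 2 * q ^ 2 * P := Nat.add_le_add (Nat.add_le_add_right hP _) h2
      _ = _ := by ring
  have hsmall : (q ^ 4 + q ^ 2 + 1) ≤ Q * Q * q ^ 2 := by
    rw [show q ^ 4 = (Q + 1) * (Q + 1) by rw [← hQ]; ring, hQ]
    nlinarith
  calc (1 + q ^ 2 * P + q ^ (2 * m + 1)) * (q ^ m * (q ^ m * q ^ m))
      ≤ P * (Q * Q * q ^ 2) * (q ^ m * (q ^ m * q ^ m)) :=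
        Nat.mul_le_mul_right _ (hI.trans (Nat.mul_le_mul_left _ hsmall))
    _ = P * Q * Q * (q ^ 2 * (q ^ m * (q ^ m * q ^ m))) := by ring
    _ ≤ P * Q * Q * (q ^ 2 * (q ^ (2 * (m - 2) - 3) * (q ^ (2 * m) * q))) := by
        refine Nat.mul_le_mul_left _ (Nat.mul_le_mul_left _ ?_)
        rw [← pow_add, ← pow_add, ← pow_succ, ← pow_add]
        exact Nat.pow_le_pow_right (by omega) (by omega)
    _ ≤ P * Q * Q * (q ^ 2 * (pts q (m - 2) * (q ^ (2 * m) * q))) :=
        Nat.mul_le_mul_left _ (Nat.mul_le_mul_left _ (Nat.mul_le_mul_right _ h1))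
    _ = _ := by rw [hQ, Nat.add_sub_cancel]; ring

section

variable (hstar : ∀ x : F, star x = x ^ q) (hF : Fintype.card F = q ^ 2) (P : Pair i j e f)
  (H : Subgroup (Cfsg.SU n F q))
include hstar hF P

/-- The case of a vanishing form. -/
theorem bound_zero (hn : 5 ≤ n) (h0 : NoRoot hstar e H)
    (hz : ∀ x ∈ prm hstar P H, ∀ y ∈ prm hstar P H, herm x y = 0) {x : Fin n → F} (hx : x ∈ prm hstar P H)
    (hx0 : x ≠ 0) (hbig : q ^ (n - 3) < Nat.card (prm hstar P H)) : pts q n ≤ H.relIndex (par1 q P) := by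
  classical
  have hq := Hermitian.q_two_le hF
  obtain ⟨a, ha⟩ : ∃ a, a = Nat.card (prm hstar P H) := ⟨_, rfl⟩
  obtain ⟨S, hS⟩ : ∃ S, S = Submodule.span F (prm hstar P H : Set (Fin n → F)) := ⟨_, rfl⟩
  have hAS : ∀ z ∈ prm hstar P H, z ∈ S := fun z hz' => hS ▸ Submodule.subset_span hz'
  have hSW : ∀ z ∈ S, z ∈ Wsub i j := by
    intro z hz'
    rw [hS] at hz'
    exact Submodule.span_le.2 (fun w hw => prm_le P H hw) hz'
  have hS0 : ∀ u ∈ S, ∀ v ∈ S, herm u v = 0 := by
    intro u hu v hv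
    rw [hS] at hu hv
    induction hu using Submodule.span_induction with
    | mem u hu =>
      induction hv using Submodule.span_induction with
      | mem v hv => exact hz u hu v hv
      | zero => exact herm_zero_right _
      | add a b _ _ iha ihb => rw [herm_add_right, iha, ihb, add_zero]
      | smul c a _ iha => rw [herm_smul_right, iha, mul_zero]
    | zero => exact herm_zero_left _
    | add a b _ _ iha ihb => rw [herm_add_left, iha, ihb, add_zero]
    | smul c a _ iha => rw [herm_smul_left, iha, mul_zero]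
  obtain ⟨t, ht⟩ := exists_trace hstar hF (r := (1 : F)) (star_one F)
  obtain ⟨d, hd0, hd⟩ := Hermitian.exists_norm hstar hF (a := (-1 : F)) (by norm_num) (by simp)
  have a1 : herm (t • e + f) (t • e + f) = 1 := by
    simp only [herm_add_left, herm_add_right, herm_smul_left, herm_smul_right, P.ee, P.ff, P.ef, P.fe]
    linear_combination ht
  have a2 : herm (d • (f - star t • e)) (d • (f - star t • e)) = 1 := by
    simp only [herm_sub_left, herm_sub_right, herm_smul_left, herm_smul_right, P.ee, P.ff, P.ef, P.fe, star_star]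
    linear_combination (-(star t + t)) * hd + ht
  have a3 : herm (t • e + f) (d • (f - star t • e)) = 0 := by
    simp only [herm_add_left, herm_sub_right, herm_smul_left, herm_smul_right, P.ee, P.ff, P.ef, P.fe]
    ring
  have hb := isotropic_bound (on_two a1 a2 a3) S hS0 (fun u hu c => by
    fin_cases c <;> simp [herm_add_left, herm_sub_left, herm_smul_left, (P.herm_W (hSW u hu)).1, (P.herm_W (hSW u hu)).2])
  obtain ⟨w, hw⟩ : ∃ w, w = finrank F S := ⟨_, rfl⟩
  rw [← hw] at hb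
  have hScard : Nat.card S = q ^ (2 * w) := by
    rw [Module.natCard_eq_pow_finrank (K := F), Nat.card_eq_fintype_card, hF, ← pow_mul, hw]
  have haS : a ≤ q ^ (2 * w) := by
    rw [ha, ← hScard]
    exact Nat.card_le_card_of_injective (fun z => ⟨z.1, hAS z.1 z.2⟩) fun z z' h => Subtype.ext (congrArg Subtype.val h :)
  have hlt : n - 3 < 2 * w := (Nat.pow_lt_pow_iff_right (show 1 < q by omega)).1 (lt_of_lt_of_le (ha ▸ hbig) haS)
  have hw' : 2 * w = n - 2 := by omega
  obtain ⟨y, hy, hind⟩ : ∃ y ∈ prm hstar P H, ∀ c : F, y ≠ c • x := by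
    by_contra! hc
    have hle : S ≤ Submodule.span F {x} := hS ▸ Submodule.span_le.2 fun y hy => by
      obtain ⟨c, hc⟩ := hc y hy
      exact Submodule.mem_span_singleton.2 ⟨c, hc.symm⟩
    have := Submodule.finrank_mono hle
    rw [finrank_span_singleton hx0, ← hw] at this
    omega
  obtain ⟨m, rfl⟩ : ∃ m, n = m + 2 := ⟨n - 2, by omega⟩
  obtain ⟨k, l, e1, f1, hki, hkj, hli, hlj, P1, he1, hf1⟩ := exists_second hstar hF P (by omega)
  let I4 : Finset (Fin (m + 2)) := Finset.univ \ {i, j, k, l}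
  let T : Set ((Fin (m + 2) → F) × (Fin (m + 2) → F)) :=
    {p | p.1 ∈ S ∧ p.2 ∈ S ∧ p.1 ≠ 0 ∧ ∀ c : F, p.2 ≠ c • p.1}
  let act2 : Cfsg.SU (m + 2) F q → (Fin (m + 2) → F) × (Fin (m + 2) → F) → (Fin (m + 2) → F) × (Fin (m + 2) → F) :=
    fun g p => (rho e f g p.1, rho e f g p.2)
  let D : Set ((Fin (m + 2) → F) × (Fin (m + 2) → F)) := {p | p.1 ∈ Wsub i j ∧ p.2 ∈ Wsub i j}
  have hm2 : ActsOn act2 (par1 q P) D :=
    ⟨fun g _ p _ => ⟨rho_mem P g _, rho_mem P g _⟩, fun g hg g' hg' p hp =>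
      Prod.ext (rho_mul hstar P hg hg' hp.1) (rho_mul hstar P hg hg' hp.2)⟩
  have hTs : ∀ s ∈ prmStab hstar P H, ∀ p ∈ T, act2 s p ∈ T := by
    have hst : ∀ s ∈ prmStab hstar P H, ∀ u ∈ S, rho e f s u ∈ S := by
      intro s hs u hu
      rw [hS] at hu
      induction hu using Submodule.span_induction with
      | mem u hu => exact hAS _ (hs.2.1 u hu)
      | zero => rw [rho_zero]; exact zero_mem _
      | add a b _ _ iha ihb => rw [rho_add]; exact add_mem iha ihb
      | smul c a _ iha => rw [rho_smul]; exact Submodule.smul_mem _ _ iha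
    intro s hs p hp
    have hinv : ∀ u ∈ S, rho e f s⁻¹ (rho e f s u) = u := fun u hu => by
      rw [← rho_mul hstar P (inv_mem hs.1) hs.1 (hSW u hu), inv_mul_cancel, rho, sc, act_one, P.fe, star_one,
        one_smul, act_one, projW_of_mem P (hSW u hu)]
    refine ⟨hst s hs _ hp.1, hst s hs _ hp.2.1, fun h => hp.2.2.1 ?_, fun c h => hp.2.2.2 c ?_⟩
    · rw [← hinv _ hp.1, show rho e f s p.1 = 0 from h, rho_zero]
    · rw [← hinv _ hp.2.1, show rho e f s p.2 = c • rho e f s p.1 from h, rho_smul, hinv _ hp.1]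
  have hTcard : Nat.card T ≤ (q ^ m - 1) * (q ^ m - q ^ 2) := by
    let ι : T → Σ u : {u : S // u ≠ 0}, {v : S // ¬ ∃ c : F, v = c • u.1} :=
      fun p => ⟨⟨⟨p.1.1, p.2.1⟩, fun h => p.2.2.2.1 (congrArg Subtype.val h)⟩,
        ⟨⟨p.1.2, p.2.2.1⟩, fun ⟨c, hc⟩ => p.2.2.2.2 c (congrArg Subtype.val hc)⟩⟩
    have hι : Function.Injective ι := fun p p' h => Subtype.ext
      (congrArg (fun z => ((z.1.1.1, z.2.1.1) : (Fin (m + 2) → F) × (Fin (m + 2) → F))) h)
    have h1 := Nat.card_le_card_of_injective ι hι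
    haveI : Fintype {u : S // u ≠ 0} := Fintype.ofFinite _
    rw [Nat.card_sigma] at h1
    have hS' : Nat.card S = q ^ m := by rw [hScard, hw', Nat.add_sub_cancel]
    refine h1.trans ((Finset.sum_le_card_nsmul _ _ (q ^ m - q ^ 2) fun u _ => ?_).trans ?_)
    · have h3 : Nat.card {v : S // ∃ c : F, v = c • u.1} + Nat.card {v : S // ¬ ∃ c : F, v = c • u.1} = q ^ m := by
        rw [← hS', ← Nat.card_sum, Nat.card_congr (Equiv.sumCompl _)]
      have h4 : q ^ 2 ≤ Nat.card {v : S // ∃ c : F, v = c • u.1} := by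
        rw [← hF, ← Nat.card_eq_fintype_card]
        exact Nat.card_le_card_of_injective (fun c => ⟨c • u.1, c, rfl⟩) fun c c' h =>
          smul_left_injective F u.2 (congrArg Subtype.val h)
      omega
    · rw [smul_eq_mul, Finset.card_univ, ← Nat.card_eq_fintype_card]
      refine Nat.mul_le_mul_right _ (le_of_eq ?_)
      have h4 : Nat.card {u : S // u = 0} + Nat.card {u : S // ¬ u = 0} = q ^ m := by
        rw [← hS', ← Nat.card_sum, Nat.card_congr (Equiv.sumCompl _)]
      rw [Nat.card_unique] at h4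
      show Nat.card {u : S // ¬ u = 0} = _
      omega
  have hW4 : ∀ {v : Fin (m + 2) → F}, v ∈ Wsub i j → herm e1 v = 0 → herm f1 v = 0 → Supp I4 v := by
    intro v hv h1 h2 c hc
    obtain ⟨h3, h4⟩ := P1.zero v h1 h2
    simp only [I4, Finset.mem_sdiff, Finset.mem_univ, Finset.mem_insert, Finset.mem_singleton, true_and, not_not] at hc
    rcases hc with rfl | rfl | rfl | rfl
    exacts [hv.1, hv.2, h3, h4]
  -- the pair, moved to standard position
  obtain ⟨xh, hxh, hxxh, hxxh'⟩ := exists_partner hstar hF P (prm_le P H hx) hx0 (hz x hx x hx)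
  obtain ⟨g0, hg0, hg0e, hg0f, hg0x, -⟩ := exists_move_pair hstar hF P hn (prm_le P H hx) hxh he1 hf1
    (hz x hx x hx) hxxh hxxh' P1.ee P1.ff P1.ef
  obtain ⟨y'', hy''⟩ : ∃ y'', y'' = act g0 y := ⟨_, rfl⟩
  have hy''W : y'' ∈ Wsub i j := hy'' ▸ ((of_fix hstar P hg0e hg0f).2 y (prm_le P H hy)).1
  have hy''e : herm e1 y'' = 0 := by rw [hy'', ← hg0x, herm_act hstar]; exact hz x hx y hy
  obtain ⟨v0, hv0⟩ : ∃ v0, v0 = y'' - herm f1 y'' • e1 := ⟨_, rfl⟩
  have hv0W : v0 ∈ Wsub i j := hv0 ▸ sub_mem hy''W (Submodule.smul_mem _ _ he1)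
  have hv0e : herm e1 v0 = 0 := by rw [hv0, herm_sub_right, herm_smul_right, hy''e, P1.ee]; ring
  have hv0f : herm f1 v0 = 0 := by rw [hv0, herm_sub_right, herm_smul_right, P1.fe]; ring
  have hv00 : v0 ≠ 0 := by
    intro h
    rw [h, eq_comm, sub_eq_zero, hy'', ← hg0x, ← act_smul] at hv0
    exact hind _ (act_injective g0 hv0)
  have hye : herm y'' e1 = 0 := by rw [← star_herm, hy''e, star_zero]
  have hv0v : herm v0 v0 = 0 := by
    have h1 : herm y'' y'' = 0 := by rw [hy'', herm_act hstar]; exact hz y hy y hy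
    rw [hv0]
    simp only [herm_sub_left, herm_sub_right, herm_smul_left, herm_smul_right, h1, hy''e, hye, P1.ee]
    ring
  have hreach : ∀ v : Fin (m + 2) → F, Supp I4 v → v ≠ 0 → herm v v = 0 →
      ∃ g : Cfsg.SU (m + 2) F q, ∃ c : F, c ≠ 0 ∧ act g e = e ∧ act g f = f ∧ act g e1 = e1 ∧ act g v0 = c • v := by
    intro v hv hvne hvv
    obtain ⟨hvW, hv1⟩ := four_mem hv
    by_cases h7 : 7 ≤ m + 2
    · have part : ∀ u : Fin (m + 2) → F, Supp I4 u → u ≠ 0 → herm u u = 0 →
          ∃ u', Frame ![e, e1, u] ![f, f1, u'] (Fin.elim0 : Fin 0 → Fin (m + 2) → F) := by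
        intro u hu hune huu
        obtain ⟨huW, hu1⟩ := four_mem hu
        have hue : herm e1 u = 0 := (P1.herm_W hu1).1
        obtain ⟨z, hzW, hzz, hez, huz⟩ := exists_partner_two hstar hF P he1 huW hue huu
          (fun c hc => hune (by
            have := congrArg (herm f1) hc
            rw [(P1.herm_W hu1).2, herm_smul_right, P1.fe, mul_one] at this
            rw [hc, ← this, zero_smul])) (Pair.ne_zero P1)
        refine ⟨z - herm f1 z • e1, ?_⟩
        have hze : herm z e1 = 0 := by rw [← star_herm, hez, star_zero]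
        have hu'W : z - herm f1 z • e1 ∈ Wsub i j := sub_mem hzW (Submodule.smul_mem _ _ he1)
        have q1 : herm e1 (z - herm f1 z • e1) = 0 := by rw [herm_sub_right, herm_smul_right, hez, P1.ee]; ring
        have q2 : herm f1 (z - herm f1 z • e1) = 0 := by rw [herm_sub_right, herm_smul_right, P1.fe]; ring
        have hue' : herm u e1 = 0 := (P1.W_herm hu1).1
        have q3 : herm u (z - herm f1 z • e1) = 1 := by rw [herm_sub_right, herm_smul_right, huz, hue']; ring
        have q4 : herm (z - herm f1 z • e1) (z - herm f1 z • e1) = 0 := by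
          simp only [herm_sub_left, herm_sub_right, herm_smul_left, herm_smul_right, hzz, hze, hez, P1.ee]; ring
        have q5 : herm (z - herm f1 z • e1) f1 = 0 := by rw [← star_herm, q2, star_zero]
        constructor
        · intro r s; fin_cases r <;> fin_cases s <;>
            simp [P.ee, P1.ee, huu, (P.herm_W he1).1, (P.W_herm he1).1, (P.herm_W huW).1, (P.W_herm huW).1, hue, hue']
        · intro r s; fin_cases r <;> fin_cases s <;>
            simp [P.ff, P1.ff, q4, (P.herm_W hf1).2, (P.W_herm hf1).2, (P.herm_W hu'W).2, (P.W_herm hu'W).2, q2, q5]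
        · intro r s; fin_cases r <;> fin_cases s <;>
            simp [P.ef, P1.ef, q3, (P.herm_W hf1).1, (P.herm_W hu'W).1, (P.W_herm he1).2, q1, (P.W_herm huW).2,
              (P1.W_herm hu1).2]
        · intro r t; exact t.elim0
        · intro r t; exact t.elim0
        · intro r t; exact t.elim0
      obtain ⟨u0, F0⟩ := part v0 (hW4 hv0W hv0e hv0f) hv00 hv0v
      obtain ⟨u1, F1⟩ := part v hv hvne hvv
      obtain ⟨g, hga, hgb, -⟩ := exists_move_frame hstar hF F0 F1 (by omega)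
      exact ⟨g, 1, one_ne_zero, hga 0, hgb 0, hga 1, by rw [one_smul]; exact hga 2⟩
    · have hm4 : m = 4 := by omega
      by_cases hcv : herm v0 v = 0
      · -- two perpendicular isotropic vectors of a hyperbolic plane are proportional
        obtain ⟨c, hc⟩ : ∃ c : F, v = c • v0 := by
          by_contra! hc
          obtain ⟨u, huW, huu, hv0u, hvu⟩ := exists_partner_two hstar hF P hv0W hvW hcv hvv hc hv00
          have b1 : herm (t • e1 + f1) (t • e1 + f1) = 1 := by
            simp only [herm_add_left, herm_add_right, herm_smul_left, herm_smul_right, P1.ee, P1.ff, P1.ef, P1.fe]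
            linear_combination ht
          have b2 : herm (d • (f1 - star t • e1)) (d • (f1 - star t • e1)) = 1 := by
            simp only [herm_sub_left, herm_sub_right, herm_smul_left, herm_smul_right, P1.ee, P1.ff, P1.ef, P1.fe, star_star]
            linear_combination (-(star t + t)) * hd + ht
          have b3 : herm (t • e1 + f1) (d • (f1 - star t • e1)) = 0 := by
            simp only [herm_add_left, herm_sub_right, herm_smul_left, herm_smul_right, P1.ee, P1.ff, P1.ef, P1.fe]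
            ring
          have c' : ∀ w ∈ Wsub i j, herm (t • e + f) w = 0 ∧ herm (d • (f - star t • e)) w = 0 := fun w hw => by
            constructor <;> simp [herm_add_left, herm_sub_left, herm_smul_left, (P.herm_W hw).1, (P.herm_W hw).2]
          obtain ⟨c1, c3⟩ := c' _ (add_mem (Submodule.smul_mem _ t he1) hf1)
          obtain ⟨c2, c4⟩ := c' _ (Submodule.smul_mem _ d (sub_mem hf1 (Submodule.smul_mem _ (star t) he1)))
          have sw : ∀ {a b : Fin (m + 2) → F}, herm a b = 0 → herm b a = 0 := fun h => by rw [← star_herm, h, star_zero]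
          have hON : ON ![t • e + f, d • (f - star t • e), t • e1 + f1, d • (f1 - star t • e1)] := by
            intro a b
            fin_cases a <;> fin_cases b <;> simp [a1, a2, a3, b1, b2, b3, c1, c2, c3, c4, sw a3, sw b3, sw c1, sw c2, sw c3, sw c4]
          have hli : finrank F (Submodule.span F ({v0, v} : Set (Fin (m + 2) → F))) = 2 := by
            have h2 : LinearIndependent F ![v0, v] := by
              rw [LinearIndependent.pair_iff' hv00]
              exact fun a h => hc a h.symm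
            have h3 := finrank_span_eq_card h2
            rw [Fintype.card_fin] at h3
            rwa [show Set.range ![v0, v] = ({v0, v} : Set (Fin (m + 2) → F)) by
              simp [Matrix.range_cons]; ext; simp [or_comm]] at h3
          have h4 := isotropic_bound hON (Submodule.span F {v0, v}) ?_ ?_
          · omega
          · intro p hp p' hp'
            obtain ⟨α, β, rfl⟩ := Submodule.mem_span_pair.1 hp
            obtain ⟨α', β', rfl⟩ := Submodule.mem_span_pair.1 hp'
            simp only [herm_add_left, herm_add_right, herm_smul_left, herm_smul_right, hv0v, hvv, hcv, sw hcv]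
            ring
          · rw [Submodule.span_le]
            intro p hp c
            have key : ∀ p : Fin (m + 2) → F, p ∈ Wsub i j → herm e1 p = 0 → herm f1 p = 0 →
                herm ((![t • e + f, d • (f - star t • e), t • e1 + f1, d • (f1 - star t • e1)] : Fin 4 → _) c) p = 0 := by
              intro p hp h1 h2
              fin_cases c <;>
                simp [herm_add_left, herm_sub_left, herm_smul_left, (P.herm_W hp).1, (P.herm_W hp).2, h1, h2]
            rcases hp with rfl | rfl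
            exacts [key _ hv0W hv0e hv0f, key _ hvW (P1.herm_W hv1).1 (P1.herm_W hv1).2]
        have hc0 : c ≠ 0 := fun h => hvne (by rw [hc, h, zero_smul])
        exact ⟨1, c⁻¹, inv_ne_zero hc0, act_one _, act_one _, act_one _, by rw [act_one, hc, smul_smul, inv_mul_cancel₀ hc0, one_smul]⟩
      · obtain ⟨v', hv'⟩ : ∃ v', v' = (herm v0 v)⁻¹ • v := ⟨_, rfl⟩
        have hv'W : v' ∈ Wsub i j := hv' ▸ Submodule.smul_mem _ _ hvW
        have hv'v : herm v' v' = 0 := by rw [hv', herm_smul_left, herm_smul_right, hvv]; ring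
        have h01 : herm v0 v' = 1 := by rw [hv', herm_smul_right, inv_mul_cancel₀ hcv]
        have h10 : herm v' v0 = 1 := by rw [← star_herm, h01, star_one]
        obtain ⟨θ, hθ0, hθ⟩ := exists_skew hstar hF
        have hs : star (-θ⁻¹) = -(-θ⁻¹) := by rw [star_neg, star_inv₀, hθ, inv_neg]
        obtain ⟨he_, hf_⟩ := fix_trans hstar P hv0W hv0v hs
        obtain ⟨he'_, hf'_⟩ := fix_trans hstar P hv'W hv'v hθ
        have hv'e : herm v' e1 = 0 := by rw [hv', herm_smul_left, (P1.W_herm hv1).1, mul_zero]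
        have hv0e' : herm v0 e1 = 0 := by rw [← star_herm, hv0e, star_zero]
        refine ⟨trans hstar v0 hv0v (-θ⁻¹) hs * trans hstar v' hv'v θ hθ, θ * (herm v0 v)⁻¹,
          mul_ne_zero hθ0 (inv_ne_zero hcv), by rw [act_mul, he'_, he_], by rw [act_mul, hf'_, hf_], ?_, ?_⟩
        · rw [act_mul, act_trans hstar v' hv'v, hv'e, mul_zero, zero_smul, add_zero, act_trans, hv0e', mul_zero, zero_smul, add_zero]
        · rw [act_mul, act_trans hstar v' hv'v, h10, mul_one, act_add, act_smul, act_trans, act_trans, hv0v, h01, mul_zero,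
            zero_smul, add_zero, mul_one, ← smul_smul θ, ← hv', smul_add, smul_smul, ← add_assoc, add_right_comm,
            mul_neg, mul_inv_cancel₀ hθ0]
          module
  let Idx := {x' : Fin (m + 2) → F | x' ∈ Wsub i j ∧ x' ≠ 0 ∧ herm x' x' = 0} ×
    (F × {v : Fin (m + 2) → F // Supp I4 v ∧ v ≠ 0 ∧ herm v v = 0})
  have hmv : ∀ x' : {x' : Fin (m + 2) → F | x' ∈ Wsub i j ∧ x' ≠ 0 ∧ herm x' x' = 0},
      ∃ g ∈ par1 q P, act g e1 = x'.1 ∧ act g e = e ∧ act g f = f := by
    intro x'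
    obtain ⟨y', hy', hyy', hxy'⟩ := exists_partner hstar hF P x'.2.1 x'.2.2.1 x'.2.2.2
    obtain ⟨g, hg, he, hf, hgx, -⟩ := exists_move_pair hstar hF P hn he1 hf1 x'.2.1 hy' P1.ee P1.ff P1.ef
      x'.2.2.2 hyy' hxy'
    exact ⟨g, hg, hgx, he, hf⟩
  choose gx hgx hgxe hgxE hgxF using hmv
  let Ψ : Idx → (Fin (m + 2) → F) × (Fin (m + 2) → F) := fun s =>
    (s.1.1, act (gx s.1) (s.2.1 • e1 + s.2.2.1))
  have hΨ : Function.Injective Ψ := by
    rintro ⟨x1, c1, v1⟩ ⟨x2, c2, v2⟩ h
    obtain rfl : x1 = x2 := Subtype.ext (congrArg Prod.fst h)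
    have h2 : c1 • e1 + v1.1 = c2 • e1 + v2.1 := act_injective _ (congrArg Prod.snd h)
    have hc : c1 = c2 := by
      have := congrArg (herm f1) h2
      simpa [herm_add_right, herm_smul_right, P1.fe, (P1.herm_W (four_mem v1.2.1).2).2, (P1.herm_W (four_mem v2.2.1).2).2] using this
    subst hc
    obtain rfl : v1 = v2 := Subtype.ext (add_left_cancel h2)
    rfl
  have hO : ∀ p ∈ Set.range Ψ, ∃ g ∈ par1 q P, ∃ p' ∈ T, act2 g p' = p := by
    rintro _ ⟨⟨x', c, v⟩, rfl⟩
    obtain ⟨g1, c1, hc1, hg1e, hg1f, hg1e1, hg1v⟩ := hreach v.1 v.2.1 v.2.2.1 v.2.2.2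
    obtain ⟨g, hg⟩ : ∃ g, g = gx x' * g1 * g0 := ⟨_, rfl⟩
    have hge : act g e = e := by rw [hg, act_mul, act_mul, hg0e, hg1e, hgxE]
    have hgf : act g f = f := by rw [hg, act_mul, act_mul, hg0f, hg1f, hgxF]
    obtain ⟨hgP, hgW⟩ := of_fix hstar P hge hgf
    obtain ⟨p2, hp2⟩ : ∃ p2, p2 = (c - c1⁻¹ * herm f1 y'') • x + c1⁻¹ • y := ⟨_, rfl⟩
    have hp2S : p2 ∈ S := hp2 ▸ add_mem (Submodule.smul_mem _ _ (hAS x hx)) (Submodule.smul_mem _ _ (hAS y hy))
    refine ⟨g, hgP, (x, p2), ⟨hAS x hx, hp2S, hx0, fun d' hd' => hind (c1 * (d' - (c - c1⁻¹ * herm f1 y''))) ?_⟩, ?_⟩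
    · change p2 = d' • x at hd'
      rw [hp2] at hd'
      have h1 : c1⁻¹ • y = (d' - (c - c1⁻¹ * herm f1 y'')) • x := by rw [sub_smul, ← hd']; abel
      rw [← smul_smul, ← h1, smul_smul, mul_inv_cancel₀ hc1, one_smul]
    · refine Prod.ext ?_ ?_
      · show rho e f g x = x'.1
        rw [(hgW x (prm_le P H hx)).2.1, hg, act_mul, act_mul, hg0x, hg1e1, hgxe]
      · show rho e f g p2 = act (gx x') (c • e1 + v.1)
        have hyy : y'' = herm f1 y'' • e1 + v0 := by rw [hv0]; abel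
        rw [(hgW p2 (hSW p2 hp2S)).2.1, hg, act_mul, act_mul]
        congr 1
        have h9 : act g1 y'' = herm f1 y'' • e1 + c1 • v.1 := by
          conv_lhs => rw [hyy]
          rw [act_add, act_smul, hg1e1, hg1v]
        rw [hp2, act_add, act_smul, act_smul, hg0x, ← hy'', act_add, act_smul, act_smul, hg1e1, h9]
        match_scalars <;> field_simp <;> ring
  have hcov := card_le_cover hm2 (prmStab_le P H) (fun p hp => ⟨hSW _ hp.1, hSW _ hp.2.1⟩) hTs hO
  rw [Nat.card_range_of_injective hΨ] at hcov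
  have hI4 : I4.card = m - 2 := by
    show (Finset.univ \ {i, j, k, l} : Finset (Fin (m + 2))).card = m - 2
    rw [card_four P.ne P1.ne hki hkj hli hlj]; omega
  have hIdx : Nat.card Idx = (q ^ 2 - 1) * pts q m * (q ^ 2 * ((q ^ 2 - 1) * pts q (m - 2))) := by
    simp only [Idx, Nat.card_prod]
    rw [card_iso_W hstar hF P, Nat.add_sub_cancel, Nat.card_eq_fintype_card (α := F), hF]
    congr 2
    have h1 := (card_supp hstar hF I4).2
    rw [hI4, ← Nat.card_congr (Equiv.sumCompl fun v : {v : Fin (m + 2) → F // Supp I4 v ∧ herm v v = 0} => v.1 = 0),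
      Nat.card_sum] at h1
    rw [show Nat.card {v : {v : Fin (m + 2) → F // Supp I4 v ∧ herm v v = 0} // v.1 = 0} = 1 from
      Nat.card_eq_one_iff_unique.2 ⟨⟨fun a b => Subtype.ext (Subtype.ext (a.2.trans b.2.symm))⟩,
        ⟨⟨⟨0, fun _ _ => rfl, herm_zero_left _⟩, rfl⟩⟩⟩] at h1
    rw [Nat.card_congr (show {v : Fin (m + 2) → F // Supp I4 v ∧ v ≠ 0 ∧ herm v v = 0} ≃
        {v : {v : Fin (m + 2) → F // Supp I4 v ∧ herm v v = 0} // ¬ v.1 = 0} from
      ⟨fun v => ⟨⟨v.1, v.2.1, v.2.2.2⟩, v.2.2.1⟩, fun v => ⟨v.1.1, v.1.2.1, v.2, v.1.2.2⟩, fun v => rfl, fun v => rfl⟩)]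
    omega
  rw [hIdx] at hcov
  have hb2 := bound_noRoot hstar hF P H h0
  have hprm := card_prm_le hstar hF P H h0
  rw [← ha, Nat.add_sub_cancel] at hb2 hprm
  rw [Nat.add_sub_cancel] at hw'
  obtain ⟨K, hK⟩ : ∃ K, K = (prmStab hstar P H).relIndex (par1 q P) := ⟨_, rfl⟩
  obtain ⟨r, hr⟩ : ∃ r, r = H.relIndex (par1 q P) := ⟨_, rfl⟩
  rw [← hK] at hb2 hcov
  rw [← hr] at hb2 ⊢
  have ha0 : 0 < a := ha ▸ Nat.card_pos
  rcases Nat.lt_or_ge m 6 with hm | hm
  · obtain rfl : m = 4 := by omega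
    have h1 := plane_bound hq hTcard hcov
    refine Nat.le_of_mul_le_mul_right ?_ ha0
    calc pts q (4 + 2) * a ≤ K * q ^ 5 * q ^ 4 := Nat.mul_le_mul h1 hprm
      _ = K * (q ^ (2 * 4) * q) := by ring
      _ ≤ r * a := hb2
  · refine Nat.le_of_mul_le_mul_right ?_ (Nat.mul_pos ha0 (Nat.mul_pos (pow_pos (show 0 < q by omega) m) (pow_pos (show 0 < q by omega) m)))
    calc pts q (m + 2) * (a * (q ^ m * q ^ m)) ≤ pts q (m + 2) * (q ^ m * (q ^ m * q ^ m)) :=
          Nat.mul_le_mul_left _ (Nat.mul_le_mul_right _ hprm)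
      _ ≤ _ := span_bound hq hm
      _ ≤ K * (q ^ m * q ^ m) * (q ^ (2 * m) * q) := by
          refine Nat.mul_le_mul_right _ (hcov.trans (Nat.mul_le_mul_left _ (hTcard.trans ?_)))
          exact Nat.mul_le_mul (Nat.sub_le _ _) (Nat.sub_le _ _)
      _ = K * (q ^ (2 * m) * q) * (q ^ m * q ^ m) := by ring
      _ ≤ r * a * (q ^ m * q ^ m) := Nat.mul_le_mul_right _ hb2
      _ = _ := by ring

end

/-- A subgroup with no root element at a point but with other radical elements has large index in its stabiliser. -/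
theorem bound_nonregular (hstar : ∀ x : F, star x = x ^ q) (hF : Fintype.card F = q ^ 2) (P : Pair i j e f)
    (hn : 5 ≤ n) (H : Subgroup (Cfsg.SU n F q)) (h0 : NoRoot hstar e H)
    (hA : ∃ x ∈ prm hstar P H, x ≠ 0) : pts q n ≤ H.relIndex (par1 q P) := by
  obtain ⟨x, hx, hx0⟩ := hA
  by_cases han : ∃ z ∈ prm hstar P H, herm z z ≠ 0
  · obtain ⟨z, hz, hzz⟩ := han
    exact bound_aniso hstar hF P H hn h0 hz hzz
  · push Not at han
    rcases le_or_gt (Nat.card (prm hstar P H)) (q ^ (n - 3)) with h | h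
    · exact bound_small hstar hF P H hn h0 han hx hx0 h
    · by_cases hal : ∃ u ∈ prm hstar P H, ∃ v ∈ prm hstar P H, herm u v ≠ 0
      · obtain ⟨u, hu, v, hv, huv⟩ := hal
        exact bound_alternating hstar hF P H hn h0 han hu hv huv h
      · push Not at hal
        exact bound_zero hstar hF P H hn h0 hal hx hx0 h

end Cfsg.Agent.Small.UMinIndex
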