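import Cfsg.Agent.Lib.Small.UMinIndex.FourSmall
import Cfsg.Agent.Lib.Small.UMinIndex.Proj

/-!
The minimal index of proper subgroups of four-dimensional unitary groups.
-/

set_option autoImplicit false
set_option linter.unusedSectionVars false
set_option linter.style.haveILetI false

namespace Cfsg.Agent.Small.UMinIndex

open Matrix Cfsg.Agent.Small.Unitary Cfsg.Agent.Small.UCover

variable {F : Type*} [Field F] [Fintype F] [StarRing F] {q : ℕ} {i j : Fin 4} {e f : Fin 4 → F}
  (hstar : ∀ x : F, star x = x ^ q) (hF : Fintype.card F = q ^ 2) (P : Pair i j e f)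
include hstar hF P

omit P in
theorem card_units_four : Nat.card {c : F // c ≠ 0} = q ^ 2 - 1 := by
  classical
  rw [Nat.card_eq_fintype_card, Fintype.card_subtype_compl, Fintype.card_subtype_eq, hF]

theorem rad_le_of_small (K : Subgroup (Cfsg.SU 4 F q)) (hr : K.relIndex (par1 q P) ≤ q) : rad hstar P ≤ K := by
  classical
  have hq := Hermitian.q_two_le hF
  refine rad_le_of_prm_full hstar hF P (by norm_num) ?_
  by_contra hnot
  push Not at hnot
  obtain ⟨z0, hz0, hz0'⟩ := hnot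
  obtain ⟨χ, hχ, -⟩ := exists_chi hstar hF
  have hb := bound_ann hstar hF P K hχ
  obtain ⟨x, hx, hx0⟩ : ∃ x ∈ ann χ hstar P K, x ≠ 0 := by
    by_contra! hc
    have h1 : Nat.card (ann χ hstar P K) = 1 := by
      rw [Nat.card_eq_one_iff_unique]
      exact ⟨⟨fun a b => Subtype.ext (by rw [hc a.1 a.2, hc b.1 b.2])⟩, ⟨0⟩⟩
    have h2 := card_ann hstar hF hχ P K
    rw [h1, mul_one, ← card_W hF P.ne] at h2
    let ι : prm hstar P K → ↥(Wsub i j : Submodule F (Fin 4 → F)) := fun y => ⟨y.1, prm_le P K y.2⟩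
    have hι : Function.Injective ι := fun a b h => Subtype.ext (congrArg Subtype.val h :)
    obtain ⟨y, hy⟩ := ((Nat.bijective_iff_injective_and_card ι).2 ⟨hι, h2⟩).2 ⟨z0, hz0⟩
    have : y.1 = z0 := congrArg Subtype.val hy
    exact hz0' (this ▸ y.2)
  have hxW : x ∈ Wsub i j := ann_le χ P K hx
  obtain ⟨O, hO⟩ : ∃ O : Set (Fin 4 → F), O = {y | ∃ g ∈ par1 q P, tw e f g x = y} := ⟨_, rfl⟩
  have hcov : Nat.card O ≤ (prmStab hstar P K).relIndex (par1 q P) * Nat.card (ann χ hstar P K) := by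
    refine card_le_cover (T := (ann χ hstar P K : Set (Fin 4 → F))) (actsOn_tw hstar P) (prmStab_le P K)
      (fun y hy => ann_le χ P K hy) (fun s hs y hy => tw_ann χ P K hs hy) fun y hy => ?_
    rw [hO] at hy
    obtain ⟨g, hg, h⟩ := hy
    exact ⟨g, hg, x, hx, h⟩
  have hOl : q + 1 ≤ Nat.card O := by
    by_cases hxx : herm x x = 0
    · have h1 : ∀ v : {v : Fin 4 → F | v ∈ Wsub i j ∧ v ≠ 0 ∧ herm v v = 0}, ∃ c : {c : F // c ≠ 0}, c.1 • v.1 ∈ O := by
        intro v
        obtain ⟨g, c, hc, hg, hge, hgf, hgx⟩ := exists_move_line hstar hF P hxW v.2.1 hx0 v.2.2.1 hxx v.2.2.2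
        refine ⟨⟨c, hc⟩, ?_⟩
        rw [hO]
        refine ⟨g, hg, ?_⟩
        obtain ⟨-, h2, h3⟩ := (of_fix hstar P hge hgf).2 x hxW
        rw [h3, ← h2, hgx]
      choose φ hφ using h1
      have h2 := Nat.card_le_card_of_injective (fun v => ((⟨_, hφ v⟩ : O), φ v)) fun u v h => by
        simp only [Prod.mk.injEq, Subtype.mk.injEq] at h
        obtain ⟨h3, h4⟩ := h
        rw [h4] at h3
        exact Subtype.ext (smul_right_injective _ (φ v).2 h3)
      rw [iso_four hstar hF P, Nat.card_prod, card_units_four hstar hF, mul_comm (Nat.card O)] at h2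
      exact Nat.le_of_mul_le_mul_left h2 (by have := Nat.pow_le_pow_left hq 2; omega)
    · have h1 : Nat.card {v : Fin 4 → F | v ∈ Wsub i j ∧ herm v v ≠ 0} ≤ Nat.card O := by
        refine Nat.card_mono (Set.toFinite _) fun v hv => ?_
        rw [hO]
        exact exists_move_tw hstar hF P (le_refl 4) hxW hv.1 hxx hv.2
      rw [card_aniso_W hstar hF P, show nip q (4 - 2) = (q - 1) * q by simp [nip]] at h1
      refine le_trans ?_ h1
      have h4 := Nat.pow_le_pow_left hq 2
      have : 3 ≤ q ^ 2 - 1 := by omega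
      have : 3 * (1 * q) ≤ (q ^ 2 - 1) * ((q - 1) * q) :=
        Nat.mul_le_mul this (Nat.mul_le_mul_right _ (by omega))
      omega
  omega

/-- A proper subgroup containing the radical of a point has pairwise perpendicular orbit of the point. -/
theorem orbit_perp {K : Subgroup (Cfsg.SU 4 F q)} (hK : K ≠ ⊤) (hQ : rad hstar P ≤ K) {k : Cfsg.SU 4 F q}
    (hk : k ∈ K) : herm e (act k e) = 0 := by
  classical
  by_contra hne
  refine hK (top_of_all_root hstar hF (le_refl 4) ?_)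
  have hrep : ∀ v : Fin 4 → F, herm v v = 0 → herm e v ≠ 0 → ∃ r ∈ rad hstar P, ∃ c : F, c ≠ 0 ∧ act r f = c • v := by
    intro v hvv hev
    obtain ⟨c, hc⟩ : ∃ c, c = (herm e v)⁻¹ := ⟨_, rfl⟩
    obtain ⟨y, hy⟩ : ∃ y, y = c • v := ⟨_, rfl⟩
    have hey : herm e y = 1 := by rw [hy, hc, herm_smul_right, inv_mul_cancel₀ hev]
    have hyy : herm y y = 0 := by rw [hy, herm_smul_left, herm_smul_right, hvv]; ring
    obtain ⟨z, hz⟩ : ∃ z, z = projW e f y := ⟨_, rfl⟩
    have hzW : z ∈ Wsub i j := hz ▸ P.projW_mem y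
    have hdec : y = herm f y • e + f + z := by
      conv_lhs => rw [eq_projW_add e f y, hey, one_smul, ← hz]
    obtain ⟨a, ha⟩ : ∃ a, a = herm f y := ⟨_, rfl⟩
    rw [← ha] at hdec
    have hok : EOk e z a := by
      refine ⟨P.ee, (P.herm_W hzW).1, ?_⟩
      rw [hdec] at hyy
      simp only [herm_add_left, herm_add_right, herm_smul_left, herm_smul_right, P.ee, P.ff, P.ef, P.fe,
        (P.herm_W hzW).1, (P.herm_W hzW).2, (P.W_herm hzW).1, (P.W_herm hzW).2] at hyy
      linear_combination hyy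
    refine ⟨_, mem_rad P hzW hok, c, hc ▸ inv_ne_zero hev, ?_⟩
    rw [act_eich hstar hok, P.ef, (P.W_herm hzW).2, ← hy, hdec]
    module
  have step : ∀ v : Fin 4 → F, herm v v = 0 → herm e v ≠ 0 → ∃ k' ∈ K, ∃ c : F, c ≠ 0 ∧ act k' e = c • v := by
    intro v hvv hev
    obtain ⟨r, hr, c, hc, hrv⟩ := hrep v hvv hev
    obtain ⟨r', hr', c', hc', hre⟩ := hrep (act k e) (by rw [herm_act hstar]; exact P.ee) hne
    refine ⟨r * r'⁻¹ * k, mul_mem (mul_mem (hQ hr) (inv_mem (hQ hr'))) hk, c'⁻¹ * c,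
      mul_ne_zero (inv_ne_zero hc') hc, ?_⟩
    have h1 : act k e = c'⁻¹ • act r' f := by rw [hre, smul_smul, inv_mul_cancel₀ hc', one_smul]
    rw [act_mul, h1, act_smul, act_mul, act_inv_act, hrv, smul_smul]
  intro v hv0 hvv hno
  obtain ⟨w, hww, hew, hvw⟩ : ∃ w, herm w w = 0 ∧ herm e w ≠ 0 ∧ herm v w ≠ 0 := by
    by_cases hvf : herm v f = 0
    · by_cases hev : herm e v = 0
      · have hvW : v ∈ Wsub i j := mem_W_of_perp P hev (by rw [← star_herm, hvf, star_zero])
        obtain ⟨z, hz, hzz, hvz⟩ := exists_partner hstar hF P hvW hv0 hvv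
        refine ⟨f + z, ?_, ?_, ?_⟩
        · simp [herm_add_left, herm_add_right, P.ff, hzz, (P.herm_W hz).2, (P.W_herm hz).2]
        · simp [herm_add_right, P.ef, (P.herm_W hz).1]
        · simp [herm_add_right, hvf, hvz]
      · obtain ⟨θ, hθ0, hθ⟩ := exists_skew hstar hF
        refine ⟨f + θ • e, ?_, ?_, ?_⟩
        · simp [herm_add_left, herm_add_right, herm_smul_left, herm_smul_right, P.ff, P.ee, P.ef, P.fe, hθ]
        · simp [herm_add_right, herm_smul_right, P.ef, P.ee]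
        · rw [herm_add_right, herm_smul_right, hvf, zero_add]
          exact mul_ne_zero hθ0 fun h => hev (by rw [← star_herm, h, star_zero])
    · exact ⟨f, P.ff, by rw [P.ef]; exact one_ne_zero, hvf⟩
  obtain ⟨k1, hk1, c, hc, hk1e⟩ := step w hww hew
  have hne1 : herm e (act k1⁻¹ v) ≠ 0 := by
    rw [← herm_act hstar k1, act_act_inv, hk1e, herm_smul_left]
    exact mul_ne_zero (star_ne_zero.2 hc) fun h => hvw (by rw [← star_herm, h, star_zero])
  obtain ⟨k2, hk2, c2, hc2, hk2e⟩ := step _ (by rw [herm_act hstar]; exact hvv) hne1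
  have hkv : act (k1 * k2) e = c2 • v := by rw [act_mul, hk2e, act_smul, act_act_inv]
  obtain ⟨θ, hθ0, hθ⟩ := exists_skew hstar hF
  have h1 : zel hstar e θ ∈ K := hQ (zel_mem P hθ)
  have h2 : zel hstar (c2 • v) θ ∈ K := by
    rw [← hkv]
    have := (cj_zel hstar (k1 * k2) P.ee hθ K).2 h1
    rwa [show cj (k1 * k2) K = K from Subgroup.ext fun x => by
      rw [mem_cj]
      exact ⟨fun hx => by simpa [mul_assoc] using mul_mem (mul_mem (mul_mem hk1 hk2) hx) (inv_mem (mul_mem hk1 hk2)),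
        fun hx => mul_mem (mul_mem (inv_mem (mul_mem hk1 hk2)) hx) (mul_mem hk1 hk2)⟩] at this
  have hcv : herm (c2 • v) (c2 • v) = 0 := by simp [herm_smul_left, herm_smul_right, hvv]
  rw [zel, eich_smul hstar ((EOk_zero_iff hcv).2 hθ) hc2, smul_zero] at h2
  have h3 := hno _ (by rw [star_mul', star_mul', star_star, hθ]; ring) h2
  exact hθ0 ((mul_eq_zero.1 h3).resolve_left (mul_ne_zero (star_ne_zero.2 hc2) hc2))

/-- The orbit of a point under a subgroup fixing a point or a totally isotropic line is not everything. -/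
theorem orbit_small {H : Subgroup (Cfsg.SU 4 F q)} (hH : H ≠ ⊤) {g : Cfsg.SU 4 F q}
    (hg : ∀ p ∈ par1 q P, g⁻¹ * p ∉ H) (hQ : rad hstar P ≤ cj g H) :
    pts q 4 ≤ H.index ∨ (par1 q P).relIndex H ≤ q ^ 5 + q ^ 3 := by
  classical
  have hq := Hermitian.q_two_le hF
  obtain ⟨K, hK⟩ : ∃ K, K = cj g H := ⟨_, rfl⟩
  rw [← hK] at hQ
  have hKt : K ≠ ⊤ := hK ▸ cj_ne_top hH
  by_cases hfix : K ≤ par1 q P
  · left
    rw [← index_par hstar hF P (by norm_num), ← cj_index g H, ← hK]
    exact Subgroup.index_antitone hfix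
  right
  obtain ⟨k0, hk0, hk0P⟩ := SetLike.not_le_iff_exists.1 hfix
  obtain ⟨y, hy⟩ : ∃ y, y = act k0 e := ⟨_, rfl⟩
  have hey : herm e y = 0 := hy ▸ orbit_perp hstar hF P hKt hQ hk0
  have hyy : herm y y = 0 := by rw [hy, herm_act hstar]; exact P.ee
  have hdec : ∀ z : Fin 4 → F, herm e z = 0 → z = herm f z • e + projW e f z := fun z hz => by
    conv_lhs => rw [eq_projW_add e f z, hz, zero_smul, add_zero]
  obtain ⟨w0, hw0⟩ : ∃ w0, w0 = projW e f y := ⟨_, rfl⟩
  have hw0W : w0 ∈ Wsub i j := hw0 ▸ P.projW_mem y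
  have hye := hdec y hey
  rw [← hw0] at hye
  have hw00 : w0 ≠ 0 := fun h => hk0P ⟨herm f y, by rw [← hy]; conv_lhs => rw [hye, h, add_zero]⟩
  have hw0w : herm w0 w0 = 0 := by
    have h1 := hyy
    rw [hye] at h1
    simpa [herm_add_left, herm_add_right, herm_smul_left, herm_smul_right, P.ee, (P.herm_W hw0W).1, (P.W_herm hw0W).1] using h1
  obtain ⟨w1, hw1, hw1w, hw01⟩ := exists_partner hstar hF P hw0W hw00 hw0w
  let φ : F × F → (Fin 4 → F) := fun c => c.1 • e + c.2 • w0
  have hφ : Function.Injective φ := by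
    intro a b h
    have h1 := congrArg (herm f) h
    have h2 := congrArg (herm w1) h
    have hw10 : herm w1 w0 = 1 := by rw [← star_herm, hw01, star_one]
    simp [φ, herm_add_right, herm_smul_right, P.fe, (P.herm_W hw0W).2, (P.W_herm hw1).1, hw10] at h1 h2
    exact Prod.ext h1 h2
  have horb : ∀ k ∈ K, act k e ∈ Set.range φ := by
    intro k hk
    have hek : herm e (act k e) = 0 := orbit_perp hstar hF P hKt hQ hk
    have hyk : herm y (act k e) = 0 := by
      rw [hy, ← herm_act hstar k0⁻¹, act_inv_act, ← act_mul]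
      exact orbit_perp hstar hF P hKt hQ (mul_mem (inv_mem hk0) hk)
    obtain ⟨w, hw⟩ : ∃ w, w = projW e f (act k e) := ⟨_, rfl⟩
    have hwW : w ∈ Wsub i j := hw ▸ P.projW_mem _
    have hke := hdec _ hek
    rw [← hw] at hke
    have h1 : herm w0 w = 0 := by
      rw [hye, hke] at hyk
      simpa [herm_add_left, herm_add_right, herm_smul_left, herm_smul_right, P.ee, (P.herm_W hwW).1, (P.W_herm hw0W).1] using hyk
    have h2 := plane_span hstar hF P hw0W hw1 hw0w hw1w hw01 hwW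
    rw [h1, zero_smul, add_zero] at h2
    refine ⟨(herm f (act k e), herm w1 w), ?_⟩
    show herm f (act k e) • e + herm w1 w • w0 = act k e
    rw [← h2, ← hke]
  have hinv : ∀ k ∈ K, ∀ x ∈ Set.range φ, act k x ∈ Set.range φ := by
    rintro k hk _ ⟨⟨a, b⟩, rfl⟩
    obtain ⟨⟨a1, b1⟩, h1⟩ := horb k hk
    obtain ⟨⟨a2, b2⟩, h2⟩ := horb (k * k0) (mul_mem hk hk0)
    have hw0' : w0 = y - herm f y • e := by rw [hye]; simp [herm_add_right, herm_smul_right, P.fe, (P.herm_W hw0W).2]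
    refine ⟨(a * a1 + b * (a2 - herm f y * a1), a * b1 + b * (b2 - herm f y * b1)), ?_⟩
    simp only [φ] at h1 h2 ⊢
    rw [act_mul, ← hy] at h2
    rw [act_add, act_smul, act_smul, hw0', act_sub, act_smul, ← h1, ← h2, ← hw0']
    module
  have he0 := Pair.ne_zero P
  let Ψ : (H ⧸ (par1 q P).subgroupOf H) × {c : F // c ≠ 0} →
      {v : {v : Fin 4 → F // Supp Finset.univ v ∧ herm v v = 0} // ¬ v.1 = 0} :=
    fun s => ⟨⟨s.2.1 • act (g * s.1.out.1) e, fun k hk => absurd (Finset.mem_univ k) hk, by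
      rw [herm_smul_left, herm_smul_right, herm_act hstar, P.ee]; ring⟩, by
      intro h
      rcases smul_eq_zero.1 h with h | h
      · exact s.2.2 h
      · exact he0 (act_injective _ (h.trans (Matrix.mulVec_zero _).symm))⟩
  have hΨ : Function.Injective Ψ := by
    rintro ⟨x, c, hc⟩ ⟨x', d, hd⟩ h
    have h1 : c • act (g * x.out.1) e = d • act (g * x'.out.1) e := congrArg (fun z => z.1.1) h
    have hxy : x = x' := by
      rw [← QuotientGroup.out_eq' x, ← QuotientGroup.out_eq' x', QuotientGroup.eq, Subgroup.mem_subgroupOf]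
      refine ⟨c / d, ?_⟩
      have h2 := congrArg (act (g * x.out.1)⁻¹) h1
      rw [act_smul, act_smul, act_inv_act, ← act_mul] at h2
      show act (x.out.1⁻¹ * x'.out.1) e = _
      rw [show x.out.1⁻¹ * x'.out.1 = (g * x.out.1)⁻¹ * (g * x'.out.1) by group, div_eq_inv_mul, ← smul_smul, h2,
        smul_smul, inv_mul_cancel₀ hd, one_smul]
    subst hxy
    have h2 : c • e = d • e := act_injective (g * x.out.1) (by rw [act_smul, act_smul]; exact h1)
    obtain rfl : c = d := smul_left_injective F he0 h2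
    rfl
  have hpair : Nat.card {c : F × F // ¬ c = 0} = q ^ 4 - 1 := by
    rw [Nat.card_eq_fintype_card, Fintype.card_subtype_compl, Fintype.card_subtype_eq, Fintype.card_prod, hF, ← pow_add]
  have hU : 0 < q ^ 2 - 1 := by have := Nat.pow_le_pow_left hq 2; omega
  have hq4 : q ^ 4 - 1 = (q ^ 2 + 1) * (q ^ 2 - 1) := by
    obtain ⟨Q, hQ'⟩ : ∃ Q, q ^ 2 = Q + 1 := ⟨q ^ 2 - 1, by omega⟩
    rw [show q ^ 4 = q ^ 2 * q ^ 2 by ring, hQ', Nat.add_sub_cancel, show (Q + 1) * (Q + 1) = (Q + 1 + 1) * Q + 1 by ring,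
      Nat.add_sub_cancel]
  by_cases hin : ∃ h ∈ H, act (g * h) e ∈ Set.range φ
  · obtain ⟨h, hh, hhe⟩ := hin
    have hall : ∀ s, ∃ c : {c : F × F // ¬ c = 0}, φ c.1 = (Ψ s).1.1 := by
      intro s
      have h1 : act (g * s.1.out.1) e ∈ Set.range φ := by
        have hk : g * (s.1.out.1 * h⁻¹) * g⁻¹ ∈ K := by
          rw [hK, mem_cj]
          simpa [mul_assoc] using mul_mem s.1.out.2 (inv_mem hh)
        have := hinv _ hk _ hhe
        rwa [← act_mul, show g * (s.1.out.1 * h⁻¹) * g⁻¹ * (g * h) = g * s.1.out.1 by group] at this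
      obtain ⟨⟨a, b⟩, hab⟩ := h1
      refine ⟨⟨(s.2.1 * a, s.2.1 * b), fun h => (Ψ s).2 ?_⟩, ?_⟩
      · show s.2.1 • act (g * s.1.out.1) e = 0
        simp only [Prod.mk_eq_zero] at h
        rw [← hab]
        simp only [φ, smul_add, smul_smul, h.1, h.2, zero_smul, add_zero]
      · show φ (s.2.1 * a, s.2.1 * b) = s.2.1 • act (g * s.1.out.1) e
        rw [← hab]
        simp only [φ, smul_add, smul_smul]
    choose C hC using hall
    have h2 := Nat.card_le_card_of_injective C fun a b h => hΨ (Subtype.ext (Subtype.ext (by rw [← hC a, h, hC b])))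
    rw [Nat.card_prod, card_units_four hstar hF, hpair, hq4, ← relIndex_eq_card] at h2
    refine (Nat.le_of_mul_le_mul_right h2 hU).trans ?_
    have : 1 ≤ q ^ 3 := Nat.one_le_pow _ _ (by omega)
    have := Nat.pow_le_pow_right (show 0 < q by omega) (show 2 ≤ 5 by norm_num)
    omega
  · push Not at hin
    let Z : {c : F × F // ¬ c = 0} → {v : {v : Fin 4 → F // Supp Finset.univ v ∧ herm v v = 0} // ¬ v.1 = 0} :=
      fun c => ⟨⟨φ c.1, fun k hk => absurd (Finset.mem_univ k) hk, by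
        simp [φ, herm_add_left, herm_add_right, herm_smul_left, herm_smul_right, P.ee, hw0w, (P.herm_W hw0W).1, (P.W_herm hw0W).1]⟩,
        fun h => c.2 (hφ (h.trans (by simp [φ])))⟩
    have h2 := Nat.card_le_card_of_injective (Sum.elim Ψ Z) (by
      rintro (s | c) (s' | c') h <;> simp only [Sum.elim_inl, Sum.elim_inr] at h
      · exact congrArg Sum.inl (hΨ h)
      · exfalso
        have h1 : s.2.1 • act (g * s.1.out.1) e = φ c'.1 := congrArg (fun z => z.1.1) h
        refine hin _ s.1.out.2 ⟨(s.2.1⁻¹ * c'.1.1, s.2.1⁻¹ * c'.1.2), ?_⟩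
        have h3 := congrArg (fun v => s.2.1⁻¹ • v) h1
        simp only [smul_smul, inv_mul_cancel₀ s.2.2, one_smul] at h3
        rw [h3]
        simp only [φ, smul_add, smul_smul]
      · exfalso
        have h1 : s'.2.1 • act (g * s'.1.out.1) e = φ c.1 := (congrArg (fun z => z.1.1) h).symm
        refine hin _ s'.1.out.2 ⟨(s'.2.1⁻¹ * c.1.1, s'.2.1⁻¹ * c.1.2), ?_⟩
        have h3 := congrArg (fun v => s'.2.1⁻¹ • v) h1
        simp only [smul_smul, inv_mul_cancel₀ s'.2.2, one_smul] at h3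
        rw [h3]
        simp only [φ, smul_add, smul_smul]
      · exact congrArg Sum.inr (Subtype.ext (hφ (congrArg (fun z => z.1.1) h :))))
    have h3 := (card_supp hstar hF (Finset.univ : Finset (Fin 4))).2
    rw [Finset.card_univ, Fintype.card_fin,
      ← Nat.card_congr (Equiv.sumCompl fun v : {v : Fin 4 → F // Supp Finset.univ v ∧ herm v v = 0} => v.1 = 0),
      Nat.card_sum, show Nat.card {v : {v : Fin 4 → F // Supp Finset.univ v ∧ herm v v = 0} // v.1 = 0} = 1 from
        Nat.card_eq_one_iff_unique.2 ⟨⟨fun a b => Subtype.ext (Subtype.ext (a.2.trans b.2.symm))⟩,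
          ⟨⟨⟨0, fun _ _ => rfl, herm_zero_left _⟩, rfl⟩⟩⟩] at h3
    rw [Nat.card_sum, Nat.card_prod, card_units_four hstar hF, hpair, hq4, ← relIndex_eq_card, ← add_mul] at h2
    have h4 : ((par1 q P).relIndex H + (q ^ 2 + 1)) * (q ^ 2 - 1) ≤ (q ^ 5 + q ^ 3 + (q ^ 2 + 1)) * (q ^ 2 - 1) := by
      refine h2.trans (le_of_eq ?_)
      rw [show q ^ 5 + q ^ 3 + (q ^ 2 + 1) = pts q 4 by simp [pts]; ring, mul_comm]
      omega
    have := Nat.le_of_mul_le_mul_right h4 hU
    omega

omit P in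
/-- The bound in dimension four. -/
theorem bound_four {H : Subgroup (Cfsg.SU 4 F q)} (hH : H ≠ ⊤) : (q + 1) * (q ^ 3 + 1) ≤ H.index := by
  classical
  have hq := Hermitian.q_two_le hF
  by_contra hlt
  push Not at hlt
  have hI : (q + 1) * (q ^ 3 + 1) ≤ pts q 4 := by
    rw [show pts q 4 = (q ^ 2 + 1) * (q ^ 3 + 1) by simp [pts]; ring]
    exact Nat.mul_le_mul_right _ (by nlinarith)
  obtain ⟨e, f, P⟩ := exists_pair hstar hF (i := (0 : Fin 4)) (j := 1) (by decide)
  obtain ⟨g0, hg0⟩ : ∃ g0, NoRoot hstar e (cj g0 H) := by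
    by_contra! hc
    refine hH (top_of_all_root hstar hF (le_refl 4) fun v hv0 hv hno => ?_)
    obtain ⟨g, hg⟩ := exists_move_point hstar hF P (by norm_num) hv0 hv
    refine hc g⁻¹ ?_
    rwa [← noRoot_cj hstar g P.ee, cj_cj, mul_inv_cancel, cj_one, hg]
  obtain ⟨H0, hH0⟩ : ∃ H0, H0 = cj g0 H := ⟨_, rfl⟩
  rw [← hH0] at hg0
  have hi : H0.index = H.index := hH0 ▸ cj_index g0 H
  have hH0t : H0 ≠ ⊤ := hH0 ▸ cj_ne_top hH
  rw [← hi] at hlt
  have hF0 := four_exact hstar hF P H0 hlt hg0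
  by_cases htrans : ∀ g : Cfsg.SU 4 F q, ∃ p ∈ par1 q P, g⁻¹ * p ∈ H0
  · refine not_four (hstar := hstar) hF P (H := H0) fun g => four_exact hstar hF P _ (by rw [cj_index]; exact hlt) ?_
    obtain ⟨p, hp, hpH⟩ := htrans g
    have hcj : cj g H0 = cj p H0 := by
      rw [show p = g * (g⁻¹ * p) by group, ← cj_cj g]
      congr 1
      ext x
      rw [mem_cj]
      exact ⟨fun hx => mul_mem (mul_mem (inv_mem hpH) hx) hpH, fun hx => by
        simpa [mul_assoc] using mul_mem (mul_mem hpH hx) (inv_mem hpH)⟩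
    intro u hu hm
    rw [hcj, mem_cj] at hm
    obtain ⟨c, hc⟩ := inv_mem hp
    have hc0 : c ≠ 0 := fun h => Pair.ne_zero P (act_injective p⁻¹ (by
      rw [hc, h, zero_smul]; exact (Matrix.mulVec_zero _).symm))
    have h1 := eich_conj hstar p⁻¹ ((EOk_zero_iff P.ee).2 hu)
    rw [inv_inv, hc, show act p⁻¹ (0 : Fin 4 → F) = 0 from Matrix.mulVec_zero _] at h1
    have h2 : EOk (c • e) 0 u := (EOk_zero_iff (by simp [herm_smul_left, herm_smul_right, P.ee])).2 hu
    rw [zel, h1, eich_smul hstar h2 hc0, smul_zero] at hm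
    have h3 := hg0 _ (by rw [star_mul', star_mul', star_star, hu]; ring) hm
    exact (mul_eq_zero.1 h3).resolve_left (mul_ne_zero (star_ne_zero.2 hc0) hc0)
  · push Not at htrans
    obtain ⟨g, hg⟩ := htrans
    have h2 := two_orbits H0 (par1 q P) (g := 1) (g' := g) (fun p hp h => hg p hp (by simpa using h))
    rw [cj_one] at h2
    have hlo := hF0.lo
    have hr : (cj g H0).relIndex (par1 q P) ≤ q := by
      have hB : (q + 1) * (q ^ 3 + 1) = q ^ 4 + q ^ 3 + q + 1 := by ring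
      omega
    rcases orbit_small hstar hF P hH0t hg (rad_le_of_small hstar hF P _ hr) with h | h
    · omega
    · have hkey := index_mul_relIndex H0 (par1 q P)
      rw [index_par hstar hF P (by norm_num)] at hkey
      have h1 : pts q 4 * (q ^ 4 + q ^ 3) ≤ H0.index * (q ^ 5 + q ^ 3) :=
        calc pts q 4 * (q ^ 4 + q ^ 3) ≤ pts q 4 * H0.relIndex (par1 q P) := Nat.mul_le_mul_left _ hlo
          _ = H0.index * (par1 q P).relIndex H0 := hkey.symm
          _ ≤ _ := Nat.mul_le_mul_left _ h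
      have h3 : (q + 1) * (q ^ 3 + 1) * (q ^ 5 + q ^ 3) = pts q 4 * (q ^ 4 + q ^ 3) := by simp [pts]; ring
      rw [← h3] at h1
      exact absurd (Nat.le_of_mul_le_mul_right h1 (by positivity)) (not_le.2 hlt)

end Cfsg.Agent.Small.UMinIndex
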