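import Cfsg.Agent.Lib.Small.UMinIndex.Four

/-!
The stabiliser of a totally isotropic line attains the bound in dimension four.
-/

set_option autoImplicit false
set_option linter.unusedSectionVars false
set_option linter.style.haveILetI false

namespace Cfsg.Agent.Small.UMinIndex

open Matrix Cfsg.Agent.Small.Unitary Cfsg.Agent.Small.UCover

variable {F : Type*} [Field F] [Fintype F] [StarRing F] {q : ℕ}

/-- The stabiliser of the plane spanned by two vectors. -/
def planeStab (q : ℕ) (e u : Fin 4 → F) : Subgroup (Cfsg.SU 4 F q) where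
  carrier := {g | (∀ x ∈ Submodule.span F ({e, u} : Set (Fin 4 → F)), act g x ∈ Submodule.span F ({e, u} : Set (Fin 4 → F))) ∧
    ∀ x ∈ Submodule.span F ({e, u} : Set (Fin 4 → F)), act g⁻¹ x ∈ Submodule.span F ({e, u} : Set (Fin 4 → F))}
  one_mem' := ⟨fun x hx => by rwa [act_one], fun x hx => by rwa [inv_one, act_one]⟩
  mul_mem' := by
    rintro a b ⟨ha, ha'⟩ ⟨hb, hb'⟩
    exact ⟨fun x hx => by rw [act_mul]; exact ha _ (hb x hx),
      fun x hx => by rw [_root_.mul_inv_rev, act_mul]; exact hb' _ (ha' x hx)⟩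
  inv_mem' := by
    rintro a ⟨ha, ha'⟩
    exact ⟨ha', by rw [inv_inv]; exact ha⟩

theorem mem_planeStab [Finite (Fin 4 → F)] {e u : Fin 4 → F} {g : Cfsg.SU 4 F q}
    (h : ∀ x ∈ Submodule.span F ({e, u} : Set (Fin 4 → F)), act g x ∈ Submodule.span F ({e, u} : Set (Fin 4 → F))) :
    g ∈ planeStab q e u := by
  refine ⟨h, fun x hx => ?_⟩
  let D : ↥(Submodule.span F ({e, u} : Set (Fin 4 → F))) → ↥(Submodule.span F ({e, u} : Set (Fin 4 → F))) :=
    fun y => ⟨act g y.1, h y.1 y.2⟩
  have hD : Function.Injective D := fun a b hab => Subtype.ext (act_injective g (congrArg Subtype.val hab :))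
  obtain ⟨y, hy⟩ := Finite.surjective_of_injective hD ⟨x, hx⟩
  have h1 : act g y.1 = x := congrArg Subtype.val hy
  rw [← h1, act_inv_act]
  exact y.2

theorem attain_four (hstar : ∀ x : F, star x = x ^ q) (hF : Fintype.card F = q ^ 2) :
    ∃ H : Subgroup (Cfsg.SU 4 F q), Subgroup.center (Cfsg.SU 4 F q) ≤ H ∧ H.index = (q + 1) * (q ^ 3 + 1) := by
  classical
  have hq := Hermitian.q_two_le hF
  obtain ⟨e, f, P⟩ := exists_pair hstar hF (i := (0 : Fin 4)) (j := 1) (by decide)
  obtain ⟨u, v, P1⟩ := exists_pair hstar hF (i := (2 : Fin 4)) (j := 3) (by decide)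
  have hW : ∀ x : Fin 4 → F, Supp {2, 3} x → x ∈ Wsub (0 : Fin 4) 1 := fun x hx =>
    ⟨hx 0 (by decide), hx 1 (by decide)⟩
  have hu := hW u P1.supp_e
  have hv := hW v P1.supp_f
  have he0 := Pair.ne_zero P
  have hu0 := Pair.ne_zero P1
  have hue : herm u e = 0 := (P.W_herm hu).1
  have heu : herm e u = 0 := (P.herm_W hu).1
  have hfu : herm f u = 0 := (P.herm_W hu).2
  obtain ⟨L, hL⟩ : ∃ L, L = planeStab q e u := ⟨_, rfl⟩
  have hmem : ∀ x : Fin 4 → F, x ∈ Submodule.span F ({e, u} : Set (Fin 4 → F)) ↔ ∃ a b : F, a • e + b • u = x :=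
    fun x => Submodule.mem_span_pair
  have hstab : ∀ g : Cfsg.SU 4 F q, (∃ a b : F, a • e + b • u = act g e) → (∃ a b : F, a • e + b • u = act g u) → g ∈ L := by
    intro g h1 h2
    rw [hL]
    refine mem_planeStab fun x hx => ?_
    obtain ⟨a, b, rfl⟩ := (hmem x).1 hx
    rw [act_add, act_smul, act_smul]
    exact add_mem (Submodule.smul_mem _ _ ((hmem _).2 h1)) (Submodule.smul_mem _ _ ((hmem _).2 h2))
  refine ⟨L, fun g hg => ?_, ?_⟩
  · obtain ⟨c, hc⟩ := center_fix hstar hF (by norm_num) hg he0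
    obtain ⟨d, hd⟩ := center_fix hstar hF (by norm_num) hg hu0
    exact hstab g ⟨c, 0, by rw [hc, zero_smul, add_zero]⟩ ⟨0, d, by rw [hd, zero_smul, zero_add]⟩
  have hU : 0 < q ^ 2 - 1 := by have := Nat.pow_le_pow_left hq 2; omega
  have hLin : ∀ g ∈ L, ∀ a b : F, ∃ a' b' : F, a' • e + b' • u = act g (a • e + b • u) := fun g hg a b => by
    rw [hL] at hg
    exact (hmem _).1 (hg.1 _ ((hmem _).2 ⟨a, b, rfl⟩))
  have hcoef : ∀ a b : F, herm f (a • e + b • u) = a ∧ herm v (a • e + b • u) = b := fun a b => by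
    constructor <;> simp [herm_add_right, herm_smul_right, P.fe, hfu, P1.fe, (P.W_herm hv).1]
  -- lines of the complement
  have hk1 : L.relIndex (par1 q P) = q + 1 := by
    let Ψ : (par1 q P ⧸ L.subgroupOf (par1 q P)) × {c : F // c ≠ 0} →
        {w : Fin 4 → F | w ∈ Wsub (0 : Fin 4) 1 ∧ w ≠ 0 ∧ herm w w = 0} := fun s =>
      ⟨s.2.1 • rho e f s.1.out.1 u, Submodule.smul_mem _ _ (rho_mem P _ _),
        smul_ne_zero s.2.2 (fun h => hu0 (rho_eq_zero hstar hF P s.1.out.2 hu h)), by
          rw [herm_smul_left, herm_smul_right, herm_rho_rho hstar P s.1.out.2 hu hu, P1.ee]; ring⟩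
    have hb : Function.Bijective Ψ := by
      refine ⟨fun ⟨x, c, hc⟩ ⟨y, d, hd⟩ h => ?_, fun ⟨w, hw, hw0, hww⟩ => ?_⟩
      · have h1 : c • rho e f x.out.1 u = d • rho e f y.out.1 u := congrArg Subtype.val h
        have hxy : x = y := by
          rw [← QuotientGroup.out_eq' x, ← QuotientGroup.out_eq' y, QuotientGroup.eq, Subgroup.mem_subgroupOf]
          have hp : x.out.1⁻¹ * y.out.1 ∈ par1 q P := mul_mem (inv_mem x.out.2) y.out.2
          have h2 : rho e f (x.out.1⁻¹ * y.out.1) u = (c / d) • u := by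
            rw [rho_mul hstar P (inv_mem x.out.2) y.out.2 hu]
            have : rho e f y.out.1 u = (c / d) • rho e f x.out.1 u := by
              rw [div_eq_inv_mul, ← smul_smul, h1, smul_smul, inv_mul_cancel₀ hd, one_smul]
            rw [this, rho_smul, ← rho_mul hstar P (inv_mem x.out.2) x.out.2 hu, inv_mul_cancel, rho, sc, act_one, P.fe,
              star_one, one_smul, act_one, projW_of_mem P hu]
          refine hstab _ ⟨sc e f (x.out.1⁻¹ * y.out.1), 0, by
            show _ = act (x.out.1⁻¹ * y.out.1) e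
            rw [zero_smul, add_zero, act_point P hp]⟩ ?_
          show ∃ a b : F, a • e + b • u = act (x.out.1⁻¹ * y.out.1) u
          have h3 : projW e f (act (x.out.1⁻¹ * y.out.1) u) =
              ((star (sc e f (x.out.1⁻¹ * y.out.1)))⁻¹ * (c / d)) • u := by
            rw [← smul_smul, ← h2, rho, smul_smul, inv_mul_cancel₀ (star_ne_zero.2 (sc_ne_zero P hp)), one_smul]
          refine ⟨herm f (act (x.out.1⁻¹ * y.out.1) u), (star (sc e f (x.out.1⁻¹ * y.out.1)))⁻¹ * (c / d), ?_⟩
          rw [← h3, add_comm, ← act_decomp hstar P hp hu]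
        subst hxy
        have h2 : c = d := smul_left_injective F (fun h => hu0 (rho_eq_zero hstar hF P x.out.2 hu h)) h1
        subst h2
        rfl
      · obtain ⟨g, c, hc, hg, -, -, hgu⟩ := exists_move_line hstar hF P hu hw hu0 hw0 P1.ee hww
        obtain ⟨l, hl⟩ := QuotientGroup.mk_out_eq_mul (L.subgroupOf (par1 q P)) ⟨g, hg⟩
        have hlP : (l.1 : par1 q P).1 ∈ par1 q P := l.1.2
        have hlL : (l.1 : par1 q P).1 ∈ L := l.2
        obtain ⟨a, b, hab⟩ := hLin _ hlL 0 1
        rw [zero_smul, zero_add, one_smul] at hab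
        have hl' : rho e f l.1.1 u = (star (sc e f l.1.1) * b) • u := by
          rw [rho, ← hab, projW_add, projW_smul, projW_smul, projW_of_mem P hu,
            show projW e f e = 0 by rw [projW, P.fe, P.ee]; simp, smul_zero, zero_add, smul_smul]
        have hne : star (sc e f l.1.1) * b ≠ 0 := fun h => hu0 (rho_eq_zero hstar hF P hlP hu (by rw [hl', h, zero_smul]))
        refine ⟨⟨QuotientGroup.mk ⟨g, hg⟩, (star (sc e f l.1.1) * b)⁻¹ * c⁻¹, mul_ne_zero (inv_ne_zero hne) (inv_ne_zero hc)⟩,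
          Subtype.ext ?_⟩
        show ((star (sc e f l.1.1) * b)⁻¹ * c⁻¹) • rho e f ((QuotientGroup.mk ⟨g, hg⟩ : par1 q P ⧸ L.subgroupOf (par1 q P)).out).1 u = w
        rw [hl, Subgroup.coe_mul, rho_mul hstar P hg hlP hu, hl', rho_smul, hgu, smul_smul, smul_smul]
        obtain ⟨x, hx⟩ : ∃ x, x = star (sc e f l.1.1) * b := ⟨_, rfl⟩
        rw [← hx] at hne ⊢
        rw [show x⁻¹ * c⁻¹ * x * c = 1 by
          rw [mul_right_comm x⁻¹, inv_mul_cancel₀ hne, one_mul, inv_mul_cancel₀ hc], one_smul]
    have h1 := Nat.card_congr (Equiv.ofBijective Ψ hb)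
    rw [Nat.card_prod, iso_four hstar hF P, card_units_four hstar hF, mul_comm (q ^ 2 - 1)] at h1
    exact Nat.eq_of_mul_eq_mul_right hU h1
  -- points of the line
  have hk2 : (par1 q P).relIndex L = q ^ 2 + 1 := by
    let Ψ : (L ⧸ (par1 q P).subgroupOf L) × {c : F // c ≠ 0} → {x : F × F // ¬ x = 0} := fun s =>
      ⟨(herm f (s.2.1 • act s.1.out.1 e), herm v (s.2.1 • act s.1.out.1 e)), fun h => by
        obtain ⟨a, b, hab⟩ := hLin _ s.1.out.2 1 0
        rw [one_smul, zero_smul, add_zero] at hab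
        simp only [Prod.mk_eq_zero, ← hab, smul_add, smul_smul, (hcoef _ _).1, (hcoef _ _).2] at h
        rw [mul_eq_zero, or_iff_right s.2.2] at h
        rw [mul_eq_zero, or_iff_right s.2.2] at h
        rw [h.1, h.2, zero_smul, zero_smul, add_zero] at hab
        exact he0 (act_injective s.1.out.1 (hab.symm.trans (Matrix.mulVec_zero _).symm))⟩
    have hb : Function.Bijective Ψ := by
      refine ⟨fun ⟨x, c, hc⟩ ⟨y, d, hd⟩ h => ?_, fun ⟨⟨a, b⟩, hab⟩ => ?_⟩
      · have h1 : c • act x.out.1 e = d • act y.out.1 e := by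
          have e1 := congrArg (fun z => z.1.1) h
          have e2 := congrArg (fun z => z.1.2) h
          change herm f (c • act x.out.1 e) = herm f (d • act y.out.1 e) at e1
          change herm v (c • act x.out.1 e) = herm v (d • act y.out.1 e) at e2
          obtain ⟨a1, b1, h3⟩ := hLin _ x.out.2 1 0
          obtain ⟨a2, b2, h4⟩ := hLin _ y.out.2 1 0
          rw [one_smul, zero_smul, add_zero] at h3 h4
          rw [← h3, ← h4] at e1 e2 ⊢
          simp only [smul_add, smul_smul, (hcoef _ _).1, (hcoef _ _).2] at e1 e2 ⊢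
          rw [e1, e2]
        have hxy : x = y := by
          rw [← QuotientGroup.out_eq' x, ← QuotientGroup.out_eq' y, QuotientGroup.eq, Subgroup.mem_subgroupOf]
          refine ⟨c / d, ?_⟩
          have h2 := congrArg (act x.out.1⁻¹) h1
          rw [act_smul, act_smul, act_inv_act, ← act_mul] at h2
          show act (x.out.1⁻¹ * y.out.1) e = _
          rw [div_eq_inv_mul, ← smul_smul, h2, smul_smul, inv_mul_cancel₀ hd, one_smul]
        subst hxy
        have h2 : c • e = d • e := act_injective x.out.1 (by rw [act_smul, act_smul]; exact h1)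
        obtain rfl : c = d := smul_left_injective F he0 h2
        rfl
      · have hg : ∃ g ∈ L, ∃ c : F, c ≠ 0 ∧ c • act g e = a • e + b • u := by
          have hEs : ∀ s : F, ∃ g ∈ L, act g e = e + s • u ∧ act g u = u := by
            intro s
            have hfu' : herm u f = 0 := (P.W_herm hu).2
            have hok : EOk u ((-star s) • f) 0 := ⟨P1.ee, by rw [herm_smul_right, hfu', mul_zero],
              by rw [herm_smul_left, herm_smul_right, P.ff]; simp⟩
            have h1 : act (eich hstar u ((-star s) • f) 0) e = e + s • u := by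
              rw [act_eich hstar hok, hue, herm_smul_left, P.fe, star_neg, star_star]
              module
            have h2 : act (eich hstar u ((-star s) • f) 0) u = u := by
              rw [act_eich hstar hok, P1.ee, herm_smul_left, hfu]
              module
            exact ⟨_, hstab _ ⟨1, s, by rw [h1, one_smul]⟩ ⟨0, 1, by rw [h2, zero_smul, zero_add, one_smul]⟩, h1, h2⟩
          have hEt : ∀ t : F, ∃ g ∈ L, act g u = u + t • e ∧ act g e = e := by
            intro t
            have hev : herm e v = 0 := (P.herm_W hv).1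
            have hve : herm v e = 0 := (P.W_herm hv).1
            have hok : EOk e ((-star t) • v) 0 := ⟨P.ee, by rw [herm_smul_right, hev, mul_zero],
              by rw [herm_smul_left, herm_smul_right, P1.ff]; simp⟩
            have h1 : act (eich hstar e ((-star t) • v) 0) u = u + t • e := by
              rw [act_eich hstar hok, heu, herm_smul_left, P1.fe, star_neg, star_star]
              module
            have h2 : act (eich hstar e ((-star t) • v) 0) e = e := act_eich_self hstar hok
            exact ⟨_, hstab _ ⟨1, 0, by rw [h2, zero_smul, one_smul, add_zero]⟩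
              ⟨t, 1, by rw [h1, one_smul, add_comm]⟩, h1, h2⟩
          by_cases ha : a = 0
          · subst ha
            have hb0 : b ≠ 0 := fun h => hab (by rw [h]; rfl)
            obtain ⟨g1, hg1, h11, h12⟩ := hEs 1
            obtain ⟨g2, hg2, h21, h22⟩ := hEt (-1)
            refine ⟨g2 * g1, mul_mem hg2 hg1, b, hb0, ?_⟩
            rw [act_mul, h11, act_add, act_smul, h22, h21]
            module
          · obtain ⟨g1, hg1, h11, -⟩ := hEs (b / a)
            refine ⟨g1, hg1, a, ha, ?_⟩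
            rw [h11, smul_add, smul_smul, mul_div_cancel₀ _ ha]
        obtain ⟨g, hg, c, hc, hgc⟩ := hg
        obtain ⟨l, hl⟩ := QuotientGroup.mk_out_eq_mul ((par1 q P).subgroupOf L) ⟨g, hg⟩
        obtain ⟨d, hd⟩ := (show (l.1 : L).1 ∈ par1 q P from l.2)
        have hd0 : d ≠ 0 := fun h => he0 (act_injective l.1.1 (by
          rw [hd, h, zero_smul]; exact (Matrix.mulVec_zero _).symm))
        have hout : act ((QuotientGroup.mk ⟨g, hg⟩ : L ⧸ (par1 q P).subgroupOf L).out).1 e = d • act g e := by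
          rw [hl, Subgroup.coe_mul, act_mul, hd, act_smul]
        refine ⟨⟨QuotientGroup.mk ⟨g, hg⟩, c * d⁻¹, mul_ne_zero hc (inv_ne_zero hd0)⟩, Subtype.ext ?_⟩
        show (herm f ((c * d⁻¹) • act ((QuotientGroup.mk ⟨g, hg⟩ : L ⧸ (par1 q P).subgroupOf L).out).1 e),
          herm v ((c * d⁻¹) • act ((QuotientGroup.mk ⟨g, hg⟩ : L ⧸ (par1 q P).subgroupOf L).out).1 e)) = (a, b)
        rw [hout, smul_smul, mul_assoc, inv_mul_cancel₀ hd0, mul_one, hgc, (hcoef a b).1, (hcoef a b).2]
    have h1 := Nat.card_congr (Equiv.ofBijective Ψ hb)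
    have hpair : Nat.card {c : F × F // ¬ c = 0} = q ^ 4 - 1 := by
      rw [Nat.card_eq_fintype_card, Fintype.card_subtype_compl, Fintype.card_subtype_eq, Fintype.card_prod, hF, ← pow_add]
    have hq4 : q ^ 4 - 1 = (q ^ 2 + 1) * (q ^ 2 - 1) := by
      obtain ⟨Q, hQ'⟩ : ∃ Q, q ^ 2 = Q + 1 := ⟨q ^ 2 - 1, by omega⟩
      rw [show q ^ 4 = q ^ 2 * q ^ 2 by ring, hQ', Nat.add_sub_cancel, show (Q + 1) * (Q + 1) = (Q + 1 + 1) * Q + 1 by ring,
        Nat.add_sub_cancel]
    rw [Nat.card_prod, card_units_four hstar hF, hpair, hq4, ← relIndex_eq_card] at h1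
    exact Nat.eq_of_mul_eq_mul_right hU h1
  have h := index_mul_relIndex L (par1 q P)
  rw [index_par hstar hF P (by norm_num), hk1, hk2, show pts q 4 = (q ^ 2 + 1) * (q ^ 3 + 1) by simp [pts]; ring] at h
  refine Nat.eq_of_mul_eq_mul_right (show 0 < q ^ 2 + 1 by positivity) ?_
  rw [h]; ring

end Cfsg.Agent.Small.UMinIndex
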