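import Cfsg.Agent.Lib.Small.UMinIndex.Radical
import Cfsg.Agent.Lib.Small.UMinIndex.Counting

/-!
A subgroup containing a root element at every isotropic point is everything, in dimension at least four.
-/

set_option autoImplicit false
set_option linter.unusedSectionVars false
set_option linter.style.haveILetI false

namespace Cfsg.Agent.Small.UMinIndex

open Matrix Cfsg.Agent.Small.Unitary Cfsg.Agent.Small.UCover

variable {F : Type*} [Field F] [Fintype F] [StarRing F] {n q : ℕ} (hstar : ∀ x : F, star x = x ^ q)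

/-- A quotient of two root elements on a line is a radical element. -/
theorem trans_pair {e u : Fin n → F} (hee : herm e e = 0) (huu : herm u u = 0) (heu : herm e u = 0)
    {c : F} (hc : star c = -c) (s s' : F) (hv : herm (u + s • e) (u + s • e) = 0)
    (hv' : herm (u + s' • e) (u + s' • e) = 0) (hc' : star (-c) = -(-c)) :
    ∃ a, EOk e ((c * star (s - s')) • u) a ∧
      trans hstar (u + s • e) hv c hc * trans hstar (u + s' • e) hv' (-c) hc' =
        eich hstar e ((c * star (s - s')) • u) a := by
  have hue : herm u e = 0 := by rw [← star_herm, heu, star_zero]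
  have hok : EOk e ((c * star (s - s')) • u) (c * (star s * s - star s' * s')) := by
    refine ⟨hee, by rw [herm_smul_right, heu, mul_zero], ?_⟩
    rw [herm_smul_left, herm_smul_right, huu, mul_zero, mul_zero, add_zero, star_mul', star_sub, star_mul', star_mul',
      star_star, star_star, hc]
    ring
  refine ⟨_, hok, eq_of_act fun x => ?_⟩
  rw [act_mul, act_trans, act_trans, act_eich hstar hok]
  simp only [herm_add_left, herm_add_right, herm_smul_left, herm_smul_right, hee, huu, heu, hue, star_mul',
    star_star, star_sub, hc]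
  module

include hstar in
/-- Two large groups of scalars pair onto the whole skew line. -/
theorem skew_full (hF : Fintype.card F = q ^ 2) (W0 A B : AddSubgroup F) (hA : q < Nat.card A) (hB : q < Nat.card B)
    (h : ∀ a ∈ A, ∀ b ∈ B, star a * b - star b * a ∈ W0) {u : F} (hu : star u = -u) : u ∈ W0 := by
  classical
  by_contra hu0
  have hne : (QuotientAddGroup.mk u : F ⧸ W0) ≠ 0 := fun h0 => hu0 ((QuotientAddGroup.eq_zero_iff u).1 h0)
  obtain ⟨ψ, hψ⟩ := AddChar.exists_apply_ne_zero.2 hne
  let φ : AddChar F ℂ := ψ.compAddMonoidHom (QuotientAddGroup.mk' W0)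
  have hφ : ∀ w ∈ W0, φ w = 1 := fun w hw => by
    show ψ (QuotientAddGroup.mk w) = 1
    rw [(QuotientAddGroup.eq_zero_iff w).2 hw, AddChar.map_zero_eq_one]
  let row : F → AddChar A ℂ := fun b =>
    { toFun := fun a => φ (star a.1 * b - star b * a.1)
      map_zero_eq_one' := by simp
      map_add_eq_mul' := fun a a' => by
        rw [← AddChar.map_add_eq_mul]
        congr 1
        simp only [AddSubgroup.coe_add, star_add]
        ring }
  let col : A → AddChar F ℂ := fun a =>
    { toFun := fun b => φ (star a.1 * b - star b * a.1)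
      map_zero_eq_one' := by simp
      map_add_eq_mul' := fun b b' => by
        rw [← AddChar.map_add_eq_mul]
        congr 1
        simp only [star_add]
        ring }
  haveI : Fintype A := Fintype.ofFinite _
  have h1 : ∀ a : A, ∑ b : F, φ (star a.1 * b - star b * a.1) = if a = 0 then (q ^ 2 : ℂ) else 0 := by
    intro a
    refine (AddChar.sum_eq_ite (col a)).trans ?_
    rw [hF]
    push_cast
    refine if_congr ?_ rfl rfl
    constructor
    · intro h
      by_contra ha
      have ha' : a.1 ≠ 0 := fun h0 => ha (Subtype.ext h0)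
      obtain ⟨t, ht⟩ := exists_trace hstar hF (r := (1 : F)) (star_one F)
      have h2 := DFunLike.congr_fun h (t * u / star a.1)
      refine hψ ?_
      change φ (star a.1 * (t * u / star a.1) - star (t * u / star a.1) * a.1) = 1 at h2
      rw [show star a.1 * (t * u / star a.1) - star (t * u / star a.1) * a.1 = u by
        rw [star_div₀, star_mul', star_star, hu, mul_div_cancel₀ _ (star_ne_zero.2 ha'), div_mul_cancel₀ _ ha']
        linear_combination u * ht] at h2
      exact h2
    · rintro rfl
      ext b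
      show φ (star (0 : F) * b - star b * 0) = 1
      simp
  let T : Finset F := Finset.univ.filter fun b => row b = 0
  have h2 : ∑ b : F, ∑ a : A, φ (star a.1 * b - star b * a.1) = (T.card : ℂ) * Fintype.card A := by
    have hr : ∀ b : F, ∑ a : A, φ (star a.1 * b - star b * a.1) = if row b = 0 then (Fintype.card A : ℂ) else 0 :=
      fun b => AddChar.sum_eq_ite (row b)
    rw [Finset.sum_congr rfl fun b _ => hr b, Finset.sum_ite, Finset.sum_const_zero,
      add_zero, Finset.sum_const, nsmul_eq_mul]
  rw [Finset.sum_comm, Finset.sum_congr rfl fun a _ => h1 a] at h2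
  simp only [Finset.sum_ite_eq', Finset.mem_univ, if_true] at h2
  have h3 : T.card * Fintype.card A = q ^ 2 := by exact_mod_cast h2.symm
  have h4 : Nat.card B ≤ T.card := by
    rw [← Nat.card_eq_finsetCard]
    refine Nat.card_le_card_of_injective (fun b => ⟨b.1, ?_⟩) fun b b' e => Subtype.ext (congrArg Subtype.val e :)
    simp only [T, Finset.mem_filter, Finset.mem_univ, true_and]
    ext a
    exact hφ _ (h a.1 a.2 b.1 b.2)
  rw [← Nat.card_eq_fintype_card] at h3
  have := Nat.mul_lt_mul'' (lt_of_lt_of_le hB h4) hA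
  rw [pow_two] at h3
  omega

section Pigeon

variable {i j : Fin n} {e f : Fin n → F}

/-- The scalars of the parameters on a vector. -/
def lineScal (P : Pair i j e f) (H : Subgroup (Cfsg.SU n F q)) (u : Fin n → F) : AddSubgroup F where
  carrier := {c | c • u ∈ prm hstar P H}
  zero_mem' := by show (0 : F) • u ∈ prm hstar P H; rw [zero_smul]; exact zero_mem _
  add_mem' := fun {a b} ha hb => by show (a + b) • u ∈ prm hstar P H; rw [add_smul]; exact add_mem ha hb
  neg_mem' := fun {a} ha => by show (-a) • u ∈ prm hstar P H; rw [neg_smul]; exact neg_mem ha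

theorem root_big (hF : Fintype.card F = q ^ 2) (P : Pair i j e f) {H : Subgroup (Cfsg.SU n F q)}
    (hall : ∀ v : Fin n → F, v ≠ 0 → herm v v = 0 → ¬ NoRoot hstar v H)
    {u : Fin n → F} (hu : u ∈ Wsub i j) (hu0 : u ≠ 0) (huu : herm u u = 0) :
    q < Nat.card (lineScal hstar P H u) := by
  classical
  have hq := Hermitian.q_two_le hF
  have hue : herm u e = 0 := (P.W_herm hu).1
  have hee : herm e e = 0 := P.ee
  have hv : ∀ s : F, herm (u + s • e) (u + s • e) = 0 := fun s => by
    simp [herm_add_left, herm_add_right, herm_smul_left, herm_smul_right, huu, hue, hee, (P.herm_W hu).1]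
  have hv0 : ∀ s : F, u + s • e ≠ 0 := fun s h => hu0 (by
    have h1 : s • e = -u := eq_neg_of_add_eq_zero_right h
    have h2 := congrArg (herm f) h1
    rw [herm_smul_right, P.fe, ← neg_one_smul F u, herm_smul_right, (P.herm_W hu).2, mul_zero, mul_one] at h2
    rwa [h2, zero_smul, add_zero] at h)
  have hc : ∀ s : F, ∃ c : {c : F // star c = -c}, c.1 ≠ 0 ∧ zel hstar (u + s • e) c.1 ∈ H := fun s => by
    have := hall _ (hv0 s) (hv s)
    rw [NoRoot] at this
    push Not at this
    obtain ⟨c, h1, h2, h3⟩ := this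
    exact ⟨⟨c, h1⟩, h3, h2⟩
  choose C hC0 hC using hc
  let t : Finset {c : F // star c = -c} := Finset.univ.filter fun c => c.1 ≠ 0
  have ht : t.card + 1 = q := by
    have h1 : (Finset.univ.filter fun c : {c : F // star c = -c} => ¬ c.1 ≠ 0) = {⟨0, by simp⟩} := by
      ext c; simp [Subtype.ext_iff]
    have h2 := Finset.card_filter_add_card_filter_not (s := (Finset.univ : Finset {c : F // star c = -c})) fun c => c.1 ≠ 0
    rw [h1, Finset.card_singleton, Finset.card_univ, ← Nat.card_eq_fintype_card, card_skew hstar hF] at h2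
    exact h2
  obtain ⟨c, hct, hbig⟩ := Finset.exists_lt_card_fiber_of_mul_lt_card_of_maps_to (s := (Finset.univ : Finset F))
    (t := t) (f := C) (n := q) (fun s _ => by simp [t, hC0 s]) (by
      rw [Finset.card_univ, hF, pow_two]
      exact Nat.mul_lt_mul_of_pos_right (by omega) (by omega))
  obtain ⟨s', hs'⟩ : (Finset.univ.filter fun s => C s = c).Nonempty := Finset.card_pos.1 (by omega)
  have hcs : C s' = c := (Finset.mem_filter.1 hs').2
  refine lt_of_lt_of_le hbig ?_
  rw [← Nat.card_eq_finsetCard]
  have hmem : ∀ s : {s // s ∈ Finset.univ.filter fun s => C s = c}, c.1 * star (s.1 - s') ∈ lineScal hstar P H u := by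
    intro s
    have hs : C s.1 = c := (Finset.mem_filter.1 s.2).2
    have hc' : star (-c.1) = -(-c.1) := by rw [star_neg, c.2]
    obtain ⟨a, ha, hprod⟩ := trans_pair hstar hee huu (P.herm_W hu).1 c.2 s.1 s' (hv _) (hv _) hc'
    refine ⟨Submodule.smul_mem _ _ hu, a, ha, ?_⟩
    rw [← hprod]
    refine mul_mem ?_ ?_
    · rw [trans_eq_eich hstar (hv _) c.2]
      have h := hC s.1
      rw [hs] at h
      exact h
    · have h1 : trans hstar (u + s' • e) (hv s') c.1 c.2 ∈ H := by
        rw [trans_eq_eich hstar (hv _) c.2]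
        have h := hC s'
        rw [hcs] at h
        exact h
      have h2 : trans hstar (u + s' • e) (hv s') (-c.1) hc' = (trans hstar (u + s' • e) (hv s') c.1 c.2)⁻¹ := by
        refine eq_inv_of_mul_eq_one_left (eq_of_act fun x => ?_)
        rw [act_mul, act_trans, act_trans, act_one, herm_add_right, herm_smul_right, hv s']
        module
      rw [h2]
      exact inv_mem h1
  refine Nat.card_le_card_of_injective (fun s => ⟨_, hmem s⟩) fun s r h => Subtype.ext ?_
  have h1 : c.1 * star (s.1 - s') = c.1 * star (r.1 - s') := congrArg Subtype.val h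
  have hc0 : c.1 ≠ 0 := (Finset.mem_filter.1 hct).2
  exact sub_left_injective (star_injective (mul_left_cancel₀ hc0 h1))

/-- The root subgroup of a point. -/
theorem root_full (hF : Fintype.card F = q ^ 2) (P : Pair i j e f) (hn : 4 ≤ n) {H : Subgroup (Cfsg.SU n F q)}
    (hall : ∀ v : Fin n → F, v ≠ 0 → herm v v = 0 → ¬ NoRoot hstar v H) {w : F} (hw : star w = -w) :
    zel hstar e w ∈ H := by
  classical
  obtain ⟨k, hk, l, hl, hkl⟩ : ∃ k ∈ (Finset.univ : Finset (Fin n)) \ {i, j},
      ∃ l ∈ (Finset.univ : Finset (Fin n)) \ {i, j}, k ≠ l := by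
    refine Finset.one_lt_card.1 ?_
    rw [Finset.card_sdiff_of_subset (Finset.subset_univ _), Finset.card_univ, Fintype.card_fin, Finset.card_pair P.ne]
    omega
  obtain ⟨u, v, P1⟩ := exists_pair hstar hF hkl
  have hsupp : ∀ x : Fin n → F, Supp {k, l} x → x ∈ Wsub i j := fun x hx => by
    simp only [Finset.mem_sdiff, Finset.mem_insert, Finset.mem_singleton, not_or] at hk hl
    exact ⟨hx i (by simp [Ne.symm hk.2.1, Ne.symm hl.2.1]), hx j (by simp [Ne.symm hk.2.2, Ne.symm hl.2.2])⟩
  have hu0 : u ≠ 0 := Pair.ne_zero P1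
  have hv0 : v ≠ 0 := fun h => zero_ne_one ((herm_zero_right u).symm.trans (h ▸ P1.ef))
  let W0 : AddSubgroup F :=
    { carrier := {c | star c = -c ∧ zel hstar e c ∈ H}
      zero_mem' := ⟨by simp, by rw [zel, eich_zero_zero hstar P.ee]; exact one_mem H⟩
      add_mem' := fun {a b} ha hb => ⟨by rw [star_add, ha.1, hb.1, neg_add],
        by rw [← zel_mul P ha.1 hb.1]; exact mul_mem ha.2 hb.2⟩
      neg_mem' := fun {a} ha => ⟨by rw [star_neg, ha.1], by
        have : zel hstar e (-a) = (zel hstar e a)⁻¹ := by
          refine eq_inv_of_mul_eq_one_left ?_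
          rw [zel_mul P (by rw [star_neg, ha.1]) ha.1, neg_add_cancel, zel, eich_zero_zero hstar P.ee]
        rw [this]
        exact inv_mem ha.2⟩ }
  refine (skew_full hstar hF W0 _ _ (root_big hstar hF P hall (hsupp u P1.supp_e) hu0 P1.ee)
    (root_big hstar hF P hall (hsupp v P1.supp_f) hv0 P1.ff) ?_ hw).2
  rintro a ⟨-, x, hx, hxH⟩ b ⟨-, y, hy, hyH⟩
  refine ⟨by rw [star_sub, star_mul', star_mul', star_star, star_star]; ring, ?_⟩
  have h1 := eich_comm (hstar := hstar) hy hx
  have h2 : zel hstar e (herm (a • u) (b • v) - herm (b • v) (a • u)) ∈ H := by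
    rw [← h1, commutatorElement_def]
    exact mul_mem (mul_mem (mul_mem hyH hxH) (inv_mem hyH)) (inv_mem hxH)
  simp only [herm_smul_left, herm_smul_right, P1.ef, P1.fe, mul_one] at h2
  rwa [mul_comm b, mul_comm a] at h2

end Pigeon

theorem cj_zel (g : Cfsg.SU n F q) {v : Fin n → F} (hv : herm v v = 0) {t : F} (ht : star t = -t)
    (H : Subgroup (Cfsg.SU n F q)) : zel hstar (act g v) t ∈ cj g H ↔ zel hstar v t ∈ H := by
  have h0 := (EOk_zero_iff hv).2 ht
  have h := eich_conj hstar g h0
  rw [show act g (0 : Fin n → F) = 0 from Matrix.mulVec_zero _] at h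
  rw [mem_cj, zel, ← h]
  simp [zel, mul_assoc]

theorem noRoot_cj (g : Cfsg.SU n F q) {v : Fin n → F} (hv : herm v v = 0)
    (H : Subgroup (Cfsg.SU n F q)) : NoRoot hstar (act g v) (cj g H) ↔ NoRoot hstar v H :=
  ⟨fun h t ht hm => h t ht ((cj_zel hstar g hv ht H).2 hm), fun h t ht hm => h t ht ((cj_zel hstar g hv ht H).1 hm)⟩

/-- Root elements at all points give everything. -/
theorem top_of_all_root (hF : Fintype.card F = q ^ 2) (hn : 4 ≤ n) {H : Subgroup (Cfsg.SU n F q)}
    (hall : ∀ v : Fin n → F, v ≠ 0 → herm v v = 0 → ¬ NoRoot hstar v H) : H = ⊤ := by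
  obtain ⟨e, f, P⟩ := exists_pair hstar hF (i := (⟨0, by omega⟩ : Fin n)) (j := ⟨1, by omega⟩) (by simp [Fin.ext_iff])
  have hT : ∀ (v : Fin n → F) (hv : herm v v = 0) (t : F) (ht : star t = -t), trans hstar v hv t ht ∈ H := by
    intro v hv t ht
    by_cases hv0 : v = 0
    · rw [show trans hstar v hv t ht = 1 from eq_of_act fun x => by rw [act_trans, act_one, hv0]; simp]
      exact one_mem H
    · obtain ⟨g, hg⟩ := exists_move_point hstar hF P (by omega) hv0 hv
      have h1 := root_full hstar hF P hn (H := cj g⁻¹ H) (w := t) (fun w hw0 hw => by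
        have hgw : act g w ≠ 0 := fun h => hw0 (act_injective g (h.trans (Matrix.mulVec_zero _).symm))
        have := hall _ hgw (by rw [herm_act hstar]; exact hw)
        rw [← noRoot_cj hstar g⁻¹ (by rw [herm_act hstar]; exact hw), act_inv_act] at this
        exact this) ht
      rw [← cj_zel hstar g P.ee ht, cj_cj, mul_inv_cancel, cj_one, hg] at h1
      rwa [trans_eq_eich hstar hv ht]
  let T : Subgroup (Cfsg.SU n F q) :=
    Subgroup.closure {x | ∃ (v : Fin n → F) (hv : herm v v = 0) (t : F) (ht : star t = -t), x = trans hstar v hv t ht}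
  have hle : T ≤ H := (Subgroup.closure_le _).2 (by rintro _ ⟨v, hv, t, ht, rfl⟩; exact hT v hv t ht)
  have hN : T.Normal := ⟨fun x hx g => by
    have hle' : T ≤ T.comap (MulAut.conj g).toMonoidHom := by
      refine (Subgroup.closure_le _).2 ?_
      rintro _ ⟨v, hv, t, ht, rfl⟩
      show g * _ * g⁻¹ ∈ T
      rw [conj_trans hstar g v hv t ht]
      exact Subgroup.subset_closure ⟨_, _, t, ht, rfl⟩
    exact hle' hx⟩
  have := normal_eq_top (hstar := hstar) hF (by omega) (by omega) (hNn := hN) (Pair.ne_zero P) P.ee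
    fun t ht => Subgroup.subset_closure ⟨e, P.ee, t, ht, rfl⟩
  exact eq_top_iff.2 (this ▸ hle)

end Cfsg.Agent.Small.UMinIndex
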