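import Cfsg.Agent.Lib.Small.UMinIndex.Setup
import Cfsg.Agent.Lib.Small.UMinIndex.Cover

/-!
The parameters of a subgroup in the radical of an isotropic point, their annihilators, and the resulting
lower bounds on the index in the stabiliser of the point.
-/

set_option autoImplicit false
set_option linter.unusedSectionVars false
set_option linter.style.haveILetI false

namespace Cfsg.Agent.Small.UMinIndex

open Matrix Cfsg.Agent.Small.Unitary Cfsg.Agent.Small.UCover

variable {F : Type*} [Field F] [Fintype F] [StarRing F] {n q : ℕ} {i j : Fin n} {e f : Fin n → F}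
  {hstar : ∀ x : F, star x = x ^ q}

/-- The parameters modulo the centre. -/
def prm (hstar : ∀ x : F, star x = x ^ q) (P : Pair i j e f) (H : Subgroup (Cfsg.SU n F q)) :
    AddSubgroup (Fin n → F) where
  carrier := {z | z ∈ Wsub i j ∧ ∃ a, EOk e z a ∧ eich hstar e z a ∈ H}
  zero_mem' := ⟨Submodule.zero_mem _, 0, (EOk_zero_iff P.ee).2 (by simp), by rw [eich_zero_zero hstar P.ee]; exact one_mem H⟩
  add_mem' := by
    rintro z w ⟨hz, a, h, hH⟩ ⟨hw, b, h', hH'⟩
    exact ⟨add_mem hz hw, _, h.add h', by rw [← eich_mul hstar h h']; exact mul_mem hH hH'⟩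
  neg_mem' := by
    rintro z ⟨hz, a, h, hH⟩
    have h2 : EOk e (-z) (star a) := by
      refine ⟨P.ee, by rw [← neg_one_smul F z, herm_smul_right, h.2.1, mul_zero], ?_⟩
      rw [star_star, ← neg_one_smul F z, herm_smul_left, herm_smul_right, star_neg, star_one]
      linear_combination h.2.2
    refine ⟨neg_mem hz, _, h2, ?_⟩
    have e1 : eich hstar e z a * eich hstar e (-z) (star a) = 1 := by
      rw [eich_mul hstar h h2, add_neg_cancel]
      convert eich_zero_zero hstar P.ee using 2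
      rw [← neg_one_smul F z, herm_smul_right]
      linear_combination h.2.2
    rw [eq_inv_of_mul_eq_one_right e1]
    exact inv_mem hH

theorem prm_le (P : Pair i j e f) (H : Subgroup (Cfsg.SU n F q)) {z : Fin n → F} (hz : z ∈ prm hstar P H) :
    z ∈ Wsub i j := hz.1

/-- No root element of the point lies in the subgroup. -/
def NoRoot (hstar : ∀ x : F, star x = x ^ q) (e : Fin n → F) (H : Subgroup (Cfsg.SU n F q)) : Prop :=
  ∀ u : F, star u = -u → zel hstar e u ∈ H → u = 0

theorem prm_real (P : Pair i j e f) {H : Subgroup (Cfsg.SU n F q)}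
    (h0 : NoRoot hstar e H) {z w : Fin n → F} (hz : z ∈ prm hstar P H) (hw : w ∈ prm hstar P H) :
    herm z w = herm w z := by
  obtain ⟨-, a, h, hH⟩ := hz
  obtain ⟨-, b, h', hH'⟩ := hw
  have hu : star (herm w z - herm z w) = -(herm w z - herm z w) := by rw [star_sub, star_herm, star_herm, neg_sub]
  have hm : zel hstar e (herm w z - herm z w) ∈ H := by
    rw [← eich_comm (hstar := hstar) h h']
    rw [commutatorElement_def]
    exact mul_mem (mul_mem (mul_mem hH hH') (inv_mem hH)) (inv_mem hH')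
  exact (sub_eq_zero.1 (h0 _ hu hm)).symm

theorem prm_iso (P : Pair i j e f) {H : Subgroup (Cfsg.SU n F q)} (h0 : NoRoot hstar e H) (h2 : (2 : F) = 0)
    {z : Fin n → F} (hz : z ∈ prm hstar P H) : herm z z = 0 := by
  obtain ⟨-, a, h, hH⟩ := hz
  have hm := mul_mem hH hH
  rw [eich_mul hstar h h] at hm
  have hz2 : z + z = 0 := by rw [← two_smul F, h2, zero_smul]
  have ha : a + a = 0 := by linear_combination a * h2
  rw [hz2, ha, zero_sub] at hm
  have := h0 _ (by rw [star_neg, star_herm]; linear_combination -(herm z z) * h2) hm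
  exact neg_eq_zero.1 this

theorem mem_rad (P : Pair i j e f) {z : Fin n → F} {a : F} (hz : z ∈ Wsub i j) (h : EOk e z a) :
    eich hstar e z a ∈ rad hstar P := ⟨z, a, hz, h, rfl⟩

theorem rad_le_par (P : Pair i j e f) : rad hstar P ≤ par1 q P := by
  rintro _ ⟨z, a, -, h, rfl⟩
  exact ⟨1, by rw [act_eich_self hstar h, one_smul]⟩

/-- The stabiliser of the parameters. -/
def prmStab (hstar : ∀ x : F, star x = x ^ q) (P : Pair i j e f) (H : Subgroup (Cfsg.SU n F q)) :
    Subgroup (Cfsg.SU n F q) where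
  carrier := {g | g ∈ par1 q P ∧ (∀ x ∈ prm hstar P H, rho e f g x ∈ prm hstar P H) ∧
    ∀ x ∈ prm hstar P H, rho e f g⁻¹ x ∈ prm hstar P H}
  one_mem' := by
    have h : ∀ x ∈ prm hstar P H, rho e f (1 : Cfsg.SU n F q) x ∈ prm hstar P H := fun x hx => by
      rw [rho, sc, act_one, P.fe, star_one, one_smul, act_one, projW_of_mem P (prm_le P H hx)]; exact hx
    exact ⟨one_mem _, h, by rw [inv_one]; exact h⟩
  mul_mem' := by
    rintro g g' ⟨hg, h1, h2⟩ ⟨hg', h1', h2'⟩
    refine ⟨mul_mem hg hg', fun x hx => ?_, fun x hx => ?_⟩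
    · rw [rho_mul hstar P hg hg' (prm_le P H hx)]; exact h1 _ (h1' x hx)
    · rw [_root_.mul_inv_rev, rho_mul hstar P (inv_mem hg') (inv_mem hg) (prm_le P H hx)]; exact h2' _ (h2 x hx)
  inv_mem' := by
    rintro g ⟨hg, h1, h2⟩
    exact ⟨inv_mem hg, h2, by rw [inv_inv]; exact h1⟩

theorem prmStab_le (P : Pair i j e f) (H : Subgroup (Cfsg.SU n F q)) : prmStab hstar P H ≤ par1 q P :=
  fun _ h => h.1

theorem conj_prm (P : Pair i j e f) {H : Subgroup (Cfsg.SU n F q)} {g : Cfsg.SU n F q} (hg : g ∈ par1 q P)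
    (hH : ∀ h ∈ H, g * h * g⁻¹ ∈ H) {x : Fin n → F} (hx : x ∈ prm hstar P H) :
    rho e f g x ∈ prm hstar P H := by
  obtain ⟨hxW, a, h, hm⟩ := hx
  obtain ⟨a', h', e'⟩ := conj_rad hstar P hg hxW h
  exact ⟨rho_mem P g x, a', h', e' ▸ hH _ hm⟩

theorem inf_le_prmStab (P : Pair i j e f) (H : Subgroup (Cfsg.SU n F q)) :
    H ⊓ par1 q P ≤ prmStab hstar P H := fun g hg =>
  ⟨hg.2, fun _ hx => conj_prm P hg.2 (fun _ hh => mul_mem (mul_mem hg.1 hh) (inv_mem hg.1)) hx,
    fun _ hx => conj_prm P (inv_mem hg.2)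
      (fun _ hh => mul_mem (mul_mem (inv_mem hg.1) hh) (inv_mem (inv_mem hg.1))) hx⟩

theorem rho_rad (P : Pair i j e f) {g : Cfsg.SU n F q} (hg : g ∈ rad hstar P) {x : Fin n → F}
    (hx : x ∈ Wsub i j) : rho e f g x = x := by
  obtain ⟨z, a, hz, h, rfl⟩ := hg
  rw [rho, sc, act_eich_self hstar h, P.fe, star_one, one_smul, act_eich hstar h, (P.herm_W hx).1, zero_smul,
    add_zero, mul_zero, zero_sub, projW_add, projW_smul, projW_of_mem P hx]
  rw [show projW e f e = 0 by rw [projW, P.fe, P.ee]; simp, smul_zero, add_zero]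

theorem rad_le_prmStab (P : Pair i j e f) (H : Subgroup (Cfsg.SU n F q)) : rad hstar P ≤ prmStab hstar P H :=
  fun g hg => ⟨rad_le_par P hg, fun x hx => by rw [rho_rad P hg (prm_le P H hx)]; exact hx,
    fun x hx => by rw [rho_rad P (inv_mem hg) (prm_le P H hx)]; exact hx⟩

theorem actsOn_rho (hstar : ∀ x : F, star x = x ^ q) (P : Pair i j e f) :
    ActsOn (rho e f) (par1 q P) ((Wsub i j : Submodule F (Fin n → F)) : Set (Fin n → F)) :=
  ⟨fun g _ x _ => rho_mem P g x, fun _ hg _ hh _ hx => rho_mul hstar P hg hh hx⟩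

theorem actsOn_tw (hstar : ∀ x : F, star x = x ^ q) (P : Pair i j e f) :
    ActsOn (tw e f) (par1 q P) ((Wsub i j : Submodule F (Fin n → F)) : Set (Fin n → F)) :=
  ⟨fun g _ x _ => tw_mem P g x, fun _ hg _ hh _ hx => tw_mul hstar P hg hh hx⟩

/-! ### Annihilators -/

/-- A character trivial on the fixed field only. -/
theorem exists_chi (hs : ∀ x : F, star x = x ^ q) (hF : Fintype.card F = q ^ 2) :
    ∃ χ : AddChar F ℂ, χ ≠ 0 ∧ ∀ y : F, star y = y → χ y = 1 := by
  obtain ⟨θ, β, ψ, -, -, hθ, hψ⟩ := exists_psi hF hs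
  refine ⟨ψ.compAddMonoidHom
    { toFun := fun y => y - star y, map_zero' := by simp, map_add' := fun a b => by rw [star_add]; ring },
    fun h => hψ ?_, fun y hy => ?_⟩
  · have := congrFun (congrArg DFunLike.coe h) β
    simpa [AddChar.compAddMonoidHom, hθ] using this
  · simp [AddChar.compAddMonoidHom, hy]

/-- The annihilator of the parameters. -/
def ann (χ : AddChar F ℂ) (hstar : ∀ x : F, star x = x ^ q) (P : Pair i j e f) (H : Subgroup (Cfsg.SU n F q)) :
    AddSubgroup (Fin n → F) where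
  carrier := {x | x ∈ Wsub i j ∧ ∀ a ∈ prm hstar P H, χ (herm x a) = 1}
  zero_mem' := ⟨Submodule.zero_mem _, fun a _ => by rw [herm_zero_left, AddChar.map_zero_eq_one]⟩
  add_mem' := fun {x y} hx hy => ⟨add_mem hx.1 hy.1, fun a ha => by
    rw [herm_add_left, AddChar.map_add_eq_mul, hx.2 a ha, hy.2 a ha, one_mul]⟩
  neg_mem' := fun {x} hx => ⟨neg_mem hx.1, fun a ha => by
    rw [← neg_one_smul F x, herm_smul_left, star_neg, star_one, neg_one_mul, AddChar.map_neg_eq_inv, hx.2 a ha, inv_one]⟩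

theorem ann_le (χ : AddChar F ℂ) (P : Pair i j e f) (H : Subgroup (Cfsg.SU n F q)) {x : Fin n → F}
    (hx : x ∈ ann χ hstar P H) : x ∈ Wsub i j := hx.1

theorem tw_ann (χ : AddChar F ℂ) (P : Pair i j e f) (H : Subgroup (Cfsg.SU n F q)) {g : Cfsg.SU n F q}
    (hg : g ∈ prmStab hstar P H) {x : Fin n → F} (hx : x ∈ ann χ hstar P H) :
    tw e f g x ∈ ann χ hstar P H := by
  refine ⟨tw_mem P g x, fun a ha => ?_⟩
  have h1 := hg.2.2 a ha
  have e1 : rho e f g (rho e f g⁻¹ a) = a := by
    rw [← rho_mul hstar P hg.1 (inv_mem hg.1) (prm_le P H ha), mul_inv_cancel, rho, sc, act_one, P.fe, star_one,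
      one_smul, act_one, projW_of_mem P (prm_le P H ha)]
  rw [← e1, herm_tw_rho hstar P hg.1 hx.1 (prm_le P H h1)]
  exact hx.2 _ h1

theorem card_ann (hs : ∀ x : F, star x = x ^ q) (hF : Fintype.card F = q ^ 2) {χ : AddChar F ℂ} (hχ : χ ≠ 0)
    (P : Pair i j e f) (H : Subgroup (Cfsg.SU n F q)) :
    Nat.card (prm hs P H) * Nat.card (ann χ hs P H) = q ^ (2 * (n - 2)) := by
  classical
  rw [← card_W hF P.ne]
  let W := (Wsub i j : Submodule F (Fin n → F))
  let A := prm hs P H
  haveI : Fintype W := Fintype.ofFinite _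
  haveI : Fintype A := Fintype.ofFinite _
  let row : (x : W) → AddChar A ℂ := fun x =>
    { toFun := fun a => χ (herm x.1 a.1)
      map_zero_eq_one' := by
        show χ (herm x.1 (0 : Fin n → F)) = 1
        rw [herm_zero_right, AddChar.map_zero_eq_one]
      map_add_eq_mul' := fun a b => by
        show χ (herm x.1 (a.1 + b.1)) = _
        rw [herm_add_right, AddChar.map_add_eq_mul] }
  let col : (a : A) → AddChar W ℂ := fun a =>
    { toFun := fun x => χ (herm x.1 a.1)
      map_zero_eq_one' := by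
        show χ (herm (0 : Fin n → F) a.1) = 1
        rw [herm_zero_left, AddChar.map_zero_eq_one]
      map_add_eq_mul' := fun x y => by
        show χ (herm (x.1 + y.1) a.1) = _
        rw [herm_add_left, AddChar.map_add_eq_mul] }
  have h1 : ∀ x : W, ∑ a : A, χ (herm x.1 a.1) = if x.1 ∈ ann χ hs P H then (Fintype.card A : ℂ) else 0 := by
    intro x
    refine (AddChar.sum_eq_ite (row x)).trans (if_congr ?_ rfl rfl)
    rw [DFunLike.ext_iff]
    exact ⟨fun h => ⟨x.2, fun a ha => h ⟨a, ha⟩⟩, fun h a => h.2 a.1 a.2⟩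
  have h2 : ∀ a : A, ∑ x : W, χ (herm x.1 a.1) = if a = 0 then (Fintype.card W : ℂ) else 0 := by
    intro a
    refine (AddChar.sum_eq_ite (col a)).trans (if_congr ?_ rfl rfl)
    constructor
    · intro h
      by_contra ha
      have ha' : a.1 ≠ 0 := fun h0 => ha (Subtype.ext h0)
      obtain ⟨w, hw⟩ := exists_herm_eq_one ha'
      obtain ⟨y, hy⟩ : ∃ y, χ y ≠ 1 := by
        by_contra! h'
        exact hχ (DFunLike.ext _ _ h')
      have hwa : herm (star y • projW e f w) a.1 = y := by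
        rw [herm_smul_left, star_star, ← star_herm, projW, herm_sub_right, herm_sub_right, herm_smul_right,
          herm_smul_right, (P.W_herm (prm_le P H a.2)).1, (P.W_herm (prm_le P H a.2)).2, hw]
        simp
      refine hy ?_
      have := DFunLike.congr_fun h (⟨star y • projW e f w, Submodule.smul_mem _ _ (P.projW_mem w)⟩ : W)
      change χ (herm (star y • projW e f w) a.1) = 1 at this
      rwa [hwa] at this
    · rintro rfl
      ext x
      show χ (herm x.1 (0 : Fin n → F)) = 1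
      rw [herm_zero_right, AddChar.map_zero_eq_one]
  have h3 : ∑ x : W, (if x.1 ∈ ann χ hs P H then (Fintype.card A : ℂ) else 0) = (Fintype.card W : ℂ) := by
    rw [← Finset.sum_congr rfl fun x _ => h1 x, Finset.sum_comm, Finset.sum_congr rfl fun a _ => h2 a]
    simp
  rw [Finset.sum_ite, Finset.sum_const_zero, add_zero, Finset.sum_const, nsmul_eq_mul] at h3
  rw [Nat.card_eq_fintype_card, Nat.card_eq_fintype_card (α := W)]
  rw [show Nat.card (ann χ hs P H) = (Finset.univ.filter fun x : W => x.1 ∈ ann χ hs P H).card by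
    rw [← Fintype.card_subtype, ← Nat.card_eq_fintype_card]
    exact Nat.card_congr ⟨fun x => ⟨⟨x.1, x.2.1⟩, x.2⟩, fun x => ⟨x.1.1, x.2⟩, fun x => rfl, fun x => rfl⟩]
  rw [mul_comm]
  exact_mod_cast h3

/-! ### The index in the stabiliser -/

section Index

variable (hs : ∀ x : F, star x = x ^ q) (hF : Fintype.card F = q ^ 2) (P : Pair i j e f)
  (H : Subgroup (Cfsg.SU n F q))
include hs hF

theorem card_inf_rad_le : Nat.card (H ⊓ rad hs P : Subgroup (Cfsg.SU n F q)) ≤ Nat.card (prm hs P H) * q := by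
  classical
  have : ∀ g : (H ⊓ rad hs P : Subgroup (Cfsg.SU n F q)), ∃ p : prm hs P H × {s : F // star s = -s},
      g.1 = zel hs e p.2.1 * wel hs e p.1.1 := fun g => by
    obtain ⟨z, a, hz, h, hg⟩ := g.2.2
    obtain ⟨h1, h2⟩ := zel_split (hstar := hs) P h (par_ok hF hs P hz)
    exact ⟨(⟨z, hz, a, h, hg ▸ g.2.1⟩, ⟨_, h2⟩), hg.trans h1⟩
  choose φ hφ using this
  have hinj : Function.Injective φ := fun a b h => Subtype.ext (by rw [hφ a, h, hφ b])
  have h1 := Nat.card_le_card_of_injective φ hinj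
  rwa [Nat.card_prod, card_skew hs hF] at h1

theorem card_inf_rad_le_of_noRoot (h0 : NoRoot hs e H) :
    Nat.card (H ⊓ rad hs P : Subgroup (Cfsg.SU n F q)) ≤ Nat.card (prm hs P H) := by
  classical
  have : ∀ g : (H ⊓ rad hs P : Subgroup (Cfsg.SU n F q)), ∃ p : prm hs P H, ∃ a, EOk e p.1 a ∧
      g.1 = eich hs e p.1 a := fun g => by
    obtain ⟨z, a, hz, h, hg⟩ := g.2.2
    exact ⟨⟨z, hz, a, h, hg ▸ g.2.1⟩, a, h, hg⟩
  choose φ a ha hφ using this
  refine Nat.card_le_card_of_injective φ fun x y hxy => Subtype.ext ?_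
  obtain ⟨h1, h2⟩ := zel_split (hstar := hs) P (ha x) (hxy ▸ ha y)
  have hu : zel hs e (a x - a y) ∈ H := by
    have e1 : zel hs e (a x - a y) = x.1 * y.1⁻¹ := by
      rw [eq_mul_inv_iff_mul_eq, hφ y, hφ x, hxy]
      rw [hxy] at h1
      exact h1.symm
    rw [e1]
    exact mul_mem x.2.1 (inv_mem y.2.1)
  rw [hφ x, hφ y, hxy, sub_eq_zero.1 (h0 _ h2 hu)]

theorem relIndex_rad_mul : H.relIndex (rad hs P) * Nat.card (H ⊓ rad hs P : Subgroup (Cfsg.SU n F q)) =
    (q ^ 2) ^ (n - 2) * q := by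
  rw [← card_rad hs hF P, Subgroup.relIndex, mul_comm,
    ← Subgroup.card_mul_index (H.subgroupOf (rad hs P))]
  congr 1
  rw [← Subgroup.inf_subgroupOf_right]
  exact (Nat.card_congr (Subgroup.subgroupOfEquivOfLe inf_le_right).toEquiv).symm

/-- The fundamental bound. -/
theorem relIndex_par_ge :
    (prmStab hs P H).relIndex (par1 q P) * H.relIndex (rad hs P) ≤ H.relIndex (par1 q P) := by
  have h1 : (H ⊓ par1 q P).relIndex (prmStab hs P H) * (prmStab hs P H).relIndex (par1 q P) =
      (H ⊓ par1 q P).relIndex (par1 q P) :=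
    Subgroup.relIndex_mul_relIndex _ _ _ (inf_le_prmStab P H) (prmStab_le P H)
  rw [← Subgroup.inf_relIndex_right H (par1 q P), ← h1, mul_comm]
  refine Nat.mul_le_mul_right _ ?_
  calc H.relIndex (rad hs P) = (H ⊓ par1 q P).relIndex (rad hs P) := by
        rw [← Subgroup.inf_relIndex_right H, ← Subgroup.inf_relIndex_right (H ⊓ par1 q P), inf_assoc,
          inf_eq_right.2 (rad_le_par P)]
    _ ≤ _ := Subgroup.relIndex_le_of_le_right (rad_le_prmStab P H) (by rw [Subgroup.relIndex]; exact Subgroup.index_ne_zero_of_finite)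

/-- The bound when no root element is present. -/
theorem bound_noRoot (h0 : NoRoot hs e H) :
    (prmStab hs P H).relIndex (par1 q P) * (q ^ (2 * (n - 2)) * q) ≤
      H.relIndex (par1 q P) * Nat.card (prm hs P H) := by
  rw [pow_mul, ← relIndex_rad_mul hs hF P H, ← mul_assoc]
  exact Nat.mul_le_mul (relIndex_par_ge hs hF P H) (card_inf_rad_le_of_noRoot hs hF P H h0)

/-- The general bound. -/
theorem bound_ann {χ : AddChar F ℂ} (hχ : χ ≠ 0) :
    (prmStab hs P H).relIndex (par1 q P) * Nat.card (ann χ hs P H) ≤ H.relIndex (par1 q P) := by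
  have hq := Hermitian.q_two_le hF
  have hA : 0 < Nat.card (prm hs P H) := Nat.card_pos
  refine Nat.le_of_mul_le_mul_left ?_ (Nat.mul_pos hA (show 0 < q by omega))
  calc Nat.card (prm hs P H) * q * ((prmStab hs P H).relIndex (par1 q P) * Nat.card (ann χ hs P H))
      = (prmStab hs P H).relIndex (par1 q P) * ((Nat.card (prm hs P H) * Nat.card (ann χ hs P H)) * q) := by ring
    _ = (prmStab hs P H).relIndex (par1 q P) * (H.relIndex (rad hs P) * Nat.card (H ⊓ rad hs P : Subgroup (Cfsg.SU n F q))) := by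
        rw [card_ann hs hF hχ P H, relIndex_rad_mul hs hF P H, pow_mul]
    _ ≤ H.relIndex (par1 q P) * (Nat.card (prm hs P H) * q) := by
        rw [← mul_assoc]
        exact Nat.mul_le_mul (relIndex_par_ge hs hF P H) (card_inf_rad_le hs hF P H)
    _ = _ := by ring

/-- With no root element the parameters are few. -/
theorem card_prm_le (h0 : NoRoot hs e H) : Nat.card (prm hs P H) ≤ q ^ (n - 2) := by
  obtain ⟨χ, hχ, hreal⟩ := exists_chi hs hF
  have h := card_ann hs hF hχ P H
  have hle : Nat.card (prm hs P H) ≤ Nat.card (ann χ hs P H) := by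
    refine Nat.card_le_card_of_injective (fun a => ⟨a.1, prm_le P H a.2, fun b hb => hreal _ ?_⟩)
      (fun a b e => Subtype.ext (congrArg (fun z : ann χ hs P H => z.1) e))
    rw [star_herm]
    exact (prm_real P h0 a.2 hb).symm
  rw [two_mul, pow_add] at h
  by_contra hlt
  push Not at hlt
  exact absurd h (ne_of_gt (Nat.mul_lt_mul'' hlt (lt_of_lt_of_le hlt hle)))

end Index

end Cfsg.Agent.Small.UMinIndex
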