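import Cfsg.Agent.Lib.Small.UMinIndex.CoverOne
import Cfsg.Agent.Lib.Small.UMinIndex.Radical
import Cfsg.Agent.Lib.Small.UMinIndex.Meet

/-!
Dimension four: the possible parameters of a subgroup of small index without root elements at a point.
-/

set_option autoImplicit false
set_option linter.unusedSectionVars false
set_option linter.style.haveILetI false

namespace Cfsg.Agent.Small.UMinIndex

open Matrix Cfsg.Agent.Small.Unitary Cfsg.Agent.Small.UCover

/-- A normal part of a group is either covering or doubled. -/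
theorem double_or_cover {G : Type*} [Group G] [Finite G] (H S R : Subgroup G) (hRS : R ≤ S)
    (hN : ∀ p ∈ S, ∀ x ∈ R, p * x * p⁻¹ ∈ R) :
    2 * H.relIndex R ≤ H.relIndex S ∨ ∀ p ∈ S, ∃ x ∈ R, p * x ∈ H := by
  classical
  by_cases hs : ∀ p ∈ S, ∃ x ∈ R, p * x ∈ H
  · exact Or.inr hs
  push Not at hs
  obtain ⟨p, hp, hpR⟩ := hs
  left
  rw [relIndex_eq_card, relIndex_eq_card, two_mul, ← Nat.card_sum]
  have hinj : ∀ x y : R ⧸ H.subgroupOf R, x.out.1⁻¹ * y.out.1 ∈ H → x = y := fun x y h => by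
    rw [← QuotientGroup.out_eq' x, ← QuotientGroup.out_eq' y, QuotientGroup.eq, Subgroup.mem_subgroupOf]
    exact h
  have hmix : ∀ x y : R, (x.1)⁻¹ * p * y.1 ∉ H := fun x y h => by
    refine hpR _ (mul_mem (hN p⁻¹ (inv_mem hp) _ (inv_mem x.2)) y.2) ?_
    simpa [mul_assoc] using h
  refine Nat.card_le_card_of_injective (Sum.elim
    (fun x : R ⧸ H.subgroupOf R => (QuotientGroup.mk (⟨x.out.1, hRS x.out.2⟩ : S) : S ⧸ H.subgroupOf S))
    (fun x : R ⧸ H.subgroupOf R => QuotientGroup.mk (⟨p * x.out.1, mul_mem hp (hRS x.out.2)⟩ : S))) ?_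
  rintro (x | x) (y | y) e <;> simp only [Sum.elim_inl, Sum.elim_inr, QuotientGroup.eq, Subgroup.mem_subgroupOf] at e
  · exact congrArg Sum.inl (hinj x y e)
  · exact absurd (by simpa [mul_assoc] using e) (hmix x.out y.out)
  · exact absurd (by simpa [mul_assoc] using inv_mem e) (hmix y.out x.out)
  · exact congrArg Sum.inr (hinj x y (by simpa [mul_assoc] using e))

variable {F : Type*} [Field F] [Fintype F] [StarRing F] {q : ℕ} {i j : Fin 4} {e f : Fin 4 → F}

section Moves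

variable (hstar : ∀ x : F, star x = x ^ q) (hF : Fintype.card F = q ^ 2) (P : Pair i j e f)
include hstar hF P

/-- The complement of a pair is spanned by a pair. -/
theorem plane_span {x y : Fin 4 → F} (hx : x ∈ Wsub i j) (hy : y ∈ Wsub i j) (hxx : herm x x = 0)
    (hyy : herm y y = 0) (hxy : herm x y = 1) {z : Fin 4 → F} (hz : z ∈ Wsub i j) :
    z = herm y z • x + herm x z • y := by
  classical
  have hyx : herm y x = 1 := by rw [← star_herm, hxy, star_one]
  let φ : F × F → ↥(Wsub i j : Submodule F (Fin 4 → F)) := fun c =>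
    ⟨c.1 • x + c.2 • y, add_mem (Submodule.smul_mem _ _ hx) (Submodule.smul_mem _ _ hy)⟩
  have hc : ∀ a b : F, herm y (a • x + b • y) = a ∧ herm x (a • x + b • y) = b := fun a b => by
    simp [herm_add_right, herm_smul_right, hxx, hyy, hxy, hyx]
  have hφ : Function.Injective φ := by
    intro a b h
    have h1 : a.1 • x + a.2 • y = b.1 • x + b.2 • y := congrArg Subtype.val h
    exact Prod.ext (by rw [← (hc a.1 a.2).1, h1, (hc b.1 b.2).1]) (by rw [← (hc a.1 a.2).2, h1, (hc b.1 b.2).2])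
  have hcard : Nat.card (F × F) = Nat.card ↥(Wsub i j : Submodule F (Fin 4 → F)) := by
    rw [Nat.card_prod, Nat.card_eq_fintype_card (α := F), hF, card_W hF P.ne, ← pow_add]
  obtain ⟨c, hc'⟩ := ((Nat.bijective_iff_injective_and_card φ).2 ⟨hφ, hcard⟩).2 ⟨z, hz⟩
  have h1 : c.1 • x + c.2 • y = z := congrArg Subtype.val hc'
  rw [← h1, (hc c.1 c.2).1, (hc c.1 c.2).2]

/-- Isotropic lines of the plane are conjugate. -/
theorem exists_move_line {x v : Fin 4 → F} (hx : x ∈ Wsub i j) (hv : v ∈ Wsub i j) (hx0 : x ≠ 0) (hv0 : v ≠ 0)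
    (hxx : herm x x = 0) (hvv : herm v v = 0) :
    ∃ g : Cfsg.SU 4 F q, ∃ c : F, c ≠ 0 ∧ g ∈ par1 q P ∧ act g e = e ∧ act g f = f ∧ rho e f g x = c • v := by
  obtain ⟨y, hy, hyy, hxy⟩ := exists_partner hstar hF P hx hx0 hxx
  have hdec := plane_span hstar hF P hx hy hxx hyy hxy hv
  by_cases hb : herm x v = 0
  · rw [hb, zero_smul, add_zero] at hdec
    have ha : herm y v ≠ 0 := fun h => hv0 (by rw [hdec, h, zero_smul])
    obtain ⟨hP, hW⟩ := of_fix (q := q) hstar P (g := 1) (act_one e) (act_one f)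
    refine ⟨1, (herm y v)⁻¹, inv_ne_zero ha, hP, act_one _, act_one _, ?_⟩
    rw [(hW x hx).2.1, act_one]
    obtain ⟨b, hb'⟩ : ∃ b, b = herm y v := ⟨_, rfl⟩
    rw [← hb'] at hdec ha ⊢
    rw [hdec, smul_smul, inv_mul_cancel₀ ha, one_smul]
  · obtain ⟨v', hv'⟩ : ∃ v', v' = (herm x v)⁻¹ • v := ⟨_, rfl⟩
    have hv'W : v' ∈ Wsub i j := hv' ▸ Submodule.smul_mem _ _ hv
    have hv'v : herm v' v' = 0 := by rw [hv', herm_smul_left, herm_smul_right, hvv]; ring
    have h01 : herm x v' = 1 := by rw [hv', herm_smul_right, inv_mul_cancel₀ hb]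
    have h10 : herm v' x = 1 := by rw [← star_herm, h01, star_one]
    obtain ⟨θ, hθ0, hθ⟩ := exists_skew hstar hF
    have hs : star (-θ⁻¹) = -(-θ⁻¹) := by rw [star_neg, star_inv₀, hθ, inv_neg]
    obtain ⟨he_, hf_⟩ := fix_trans hstar P hx hxx hs
    obtain ⟨he'_, hf'_⟩ := fix_trans hstar P hv'W hv'v hθ
    have hge : act (trans hstar x hxx (-θ⁻¹) hs * trans hstar v' hv'v θ hθ) e = e := by rw [act_mul, he'_, he_]
    have hgf : act (trans hstar x hxx (-θ⁻¹) hs * trans hstar v' hv'v θ hθ) f = f := by rw [act_mul, hf'_, hf_]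
    obtain ⟨hP, hW⟩ := of_fix hstar P hge hgf
    refine ⟨_, θ * (herm x v)⁻¹, mul_ne_zero hθ0 (inv_ne_zero hb), hP, hge, hgf, ?_⟩
    rw [(hW x hx).2.1, act_mul, act_trans hstar v' hv'v, h10, mul_one, act_add, act_smul, act_trans, act_trans, hxx,
      h01, mul_zero, zero_smul, add_zero, mul_one, ← smul_smul θ, ← hv', smul_add, smul_smul, ← add_assoc,
      add_right_comm, mul_neg, mul_inv_cancel₀ hθ0]
    module

/-- In even characteristic every scalar occurs on the plane. -/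
theorem exists_scalar_even (h2 : (2 : F) = 0) {c : F} (hc : c ≠ 0) :
    ∃ g ∈ par1 q P, ∀ x ∈ Wsub i j, rho e f g x = c • x := by
  classical
  haveI : CharP F 2 := CharTwo.of_one_ne_zero_of_two_eq_zero one_ne_zero h2
  have hsqi : Function.Injective fun x : F => x ^ 2 := fun a b h => by
    have h' : a ^ 2 = b ^ 2 := h
    have : (a - b) ^ 2 = 0 := by rw [sub_sq, h']; linear_combination (b ^ 2 - a * b) * h2
    exact sub_eq_zero.1 ((pow_eq_zero_iff two_ne_zero).1 this)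
  have hsq := Finite.surjective_of_injective hsqi
  have hlam : ∀ μ : {x : F // x ≠ 0}, ∃ lam : F, lam ^ 2 = star μ.1 / μ.1 := fun μ => hsq _
  choose L hL using hlam
  have hTOk : ∀ μ : {x : F // x ≠ 0}, TOk 4 μ.1 (L μ) := fun μ => by
    have hμs : star μ.1 ≠ 0 := star_ne_zero.2 μ.2
    refine ⟨μ.2, hsqi ?_, ?_⟩
    · show (star (L μ) * L μ) ^ 2 = 1 ^ 2
      rw [mul_pow, ← star_pow, hL, star_div₀, star_star, one_pow, div_mul_div_comm, mul_comm μ.1,
        div_self (mul_ne_zero hμs μ.2)]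
    · rw [show L μ ^ 4 = L μ ^ 2 * L μ ^ 2 by ring, hL]
      field_simp
  let s : {x : F // x ≠ 0} → {x : F // x ≠ 0} := fun μ => ⟨star μ.1 * L μ, mul_ne_zero (star_ne_zero.2 μ.2)
    fun h => by
      have := hL μ
      rw [h, zero_pow two_ne_zero, eq_comm, div_eq_zero_iff] at this
      exact this.elim (fun h' => μ.2 (star_eq_zero.1 h')) μ.2⟩
  have hs : Function.Injective s := by
    intro μ ν h
    have h1 : star μ.1 * L μ = star ν.1 * L ν := congrArg Subtype.val h
    have h3 : star μ.1 ^ 3 / μ.1 = star ν.1 ^ 3 / ν.1 := by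
      rw [show star μ.1 ^ 3 / μ.1 = (star μ.1 * L μ) ^ 2 by rw [mul_pow, hL]; ring,
        show star ν.1 ^ 3 / ν.1 = (star ν.1 * L ν) ^ 2 by rw [mul_pow, hL]; ring, h1]
    obtain ⟨r, hr⟩ : ∃ r, r = μ.1 / ν.1 := ⟨_, rfl⟩
    have hr0 : r ≠ 0 := hr ▸ div_ne_zero μ.2 ν.2
    have h4 : star r ^ 3 = r := by
      rw [hr, star_div₀, div_pow]
      have hμ := μ.2
      have hν := ν.2
      have hνs : star ν.1 ≠ 0 := star_ne_zero.2 hν
      field_simp at h3 ⊢
      linear_combination h3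
    have h5 : r ^ 3 = star r := by
      have := congrArg star h4
      rw [star_pow, star_star] at this
      exact this
    have h9 : r ^ 9 = r := by rw [show r ^ 9 = (r ^ 3) ^ 3 by ring, h5, h4]
    have h8 : r ^ 8 = 1 := mul_left_cancel₀ hr0 (by rw [mul_one, ← pow_succ', h9])
    have h1' : r = 1 := hsqi (hsqi (hsqi (by
      show ((r ^ 2) ^ 2) ^ 2 = ((1 ^ 2) ^ 2) ^ 2
      rw [← pow_mul, ← pow_mul, h8]; norm_num)))
    exact Subtype.ext ((div_eq_one_iff_eq ν.2).1 (hr ▸ h1'))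
  obtain ⟨μ, hμ⟩ := Finite.surjective_of_injective hs ⟨c, hc⟩
  obtain ⟨t, hte, -, htW, -⟩ := exists_tor hstar P (hTOk μ)
  refine ⟨t, ⟨_, hte⟩, fun x hx => ?_⟩
  rw [rho, sc, hte, herm_smul_right, P.fe, mul_one, htW x hx, projW_of_mem P (Submodule.smul_mem _ _ hx),
    smul_smul, show star μ.1 * L μ = c from congrArg Subtype.val hμ]

end Moves

/-- The shape of the parameters: a line, or a real plane in even characteristic. -/
def Shape (hstar : ∀ x : F, star x = x ^ q) (P : Pair i j e f) (H : Subgroup (Cfsg.SU 4 F q)) : Prop :=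
  (∃ u ∈ Wsub i j, u ≠ 0 ∧ herm u u = 0 ∧ ∀ z, z ∈ prm hstar P H ↔ ∃ c : F, z = c • u) ∨
  ((2 : F) = 0 ∧ ∃ u v, u ∈ Wsub i j ∧ v ∈ Wsub i j ∧ herm u u = 0 ∧ herm v v = 0 ∧ herm u v = 1 ∧
    ∀ z, z ∈ prm hstar P H ↔ (z ∈ Wsub i j ∧ star (herm u z) = herm u z ∧ star (herm v z) = herm v z))

/-- The subgroup meets the stabiliser of the point as much as possible. -/
structure Four (hstar : ∀ x : F, star x = x ^ q) (P : Pair i j e f) (H : Subgroup (Cfsg.SU 4 F q)) : Prop where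
  noRoot : NoRoot hstar e H
  cover : ∀ p ∈ prmStab hstar P H, ∃ x ∈ rad hstar P, p * x ∈ H
  lo : q ^ 4 + q ^ 3 ≤ H.relIndex (par1 q P)
  shape : Shape hstar P H

section Exact

variable (hstar : ∀ x : F, star x = x ^ q) (hF : Fintype.card F = q ^ 2) (P : Pair i j e f)
  (H : Subgroup (Cfsg.SU 4 F q))
include hstar hF P

theorem bound_double (h0 : NoRoot hstar e H) :
    2 * ((prmStab hstar P H).relIndex (par1 q P) * q ^ 5) ≤ H.relIndex (par1 q P) * Nat.card (prm hstar P H) ∨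
      ∀ p ∈ prmStab hstar P H, ∃ x ∈ rad hstar P, p * x ∈ H := by
  rcases double_or_cover H (prmStab hstar P H) (rad hstar P) (rad_le_prmStab P H)
    (fun p hp x hx => rad_conj_mem hstar hF P (prmStab_le P H hp) hx) with h | h
  · left
    have h1 : (H ⊓ par1 q P).relIndex (prmStab hstar P H) * (prmStab hstar P H).relIndex (par1 q P) =
        (H ⊓ par1 q P).relIndex (par1 q P) :=
      Subgroup.relIndex_mul_relIndex _ _ _ (inf_le_prmStab P H) (prmStab_le P H)
    have h2 : H.relIndex (prmStab hstar P H) = (H ⊓ par1 q P).relIndex (prmStab hstar P H) := by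
      rw [← Subgroup.inf_relIndex_right H, ← Subgroup.inf_relIndex_right (H ⊓ par1 q P), inf_assoc,
        inf_eq_right.2 (prmStab_le P H)]
    rw [h2] at h
    rw [Subgroup.inf_relIndex_right] at h1
    have h3 := relIndex_rad_mul hstar hF P H
    have h4 := card_inf_rad_le_of_noRoot hstar hF P H h0
    rw [show q ^ 5 = H.relIndex (rad hstar P) * Nat.card (H ⊓ rad hstar P : Subgroup (Cfsg.SU 4 F q)) by rw [h3]; ring,
      ← mul_assoc, ← mul_assoc]
    refine Nat.mul_le_mul (le_trans ?_ (le_of_eq h1)) h4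
    calc 2 * (prmStab hstar P H).relIndex (par1 q P) * H.relIndex (rad hstar P)
        = 2 * H.relIndex (rad hstar P) * (prmStab hstar P H).relIndex (par1 q P) := by ring
      _ ≤ _ := Nat.mul_le_mul_right _ h
  · exact Or.inr h

theorem prm_iso_of_index (h0 : NoRoot hstar e H) (hr : H.relIndex (par1 q P) < (q + 1) * (q ^ 3 + 1))
    {z : Fin 4 → F} (hz : z ∈ prm hstar P H) : herm z z = 0 := by
  classical
  have hq := Hermitian.q_two_le hF
  by_contra hzz
  by_cases h2 : (2 : F) = 0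
  · exact hzz (prm_iso P h0 h2 hz)
  have hq3 : 3 ≤ q := by
    rcases (show q = 2 ∨ 3 ≤ q by omega) with rfl | h
    · haveI := char_two (hstar := hstar) hF
      exact absurd CharTwo.two_eq_zero h2
    · exact h
  obtain ⟨k, hk⟩ : ∃ k, k = (prmStab hstar P H).relIndex (par1 q P) := ⟨_, rfl⟩
  obtain ⟨a, ha⟩ : ∃ a, a = Nat.card (prm hstar P H) := ⟨_, rfl⟩
  obtain ⟨r, hr'⟩ : ∃ r, r = H.relIndex (par1 q P) := ⟨_, rfl⟩
  let T : Set (Fin 4 → F) := {x | x ∈ prm hstar P H ∧ herm x x ≠ 0}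
  have hcov : Nat.card {x : Fin 4 → F | x ∈ Wsub i j ∧ herm x x ≠ 0} ≤ k * Nat.card T := by
    rw [hk]
    refine card_le_cover (actsOn_rho hstar P) (prmStab_le P H) (fun x hx => prm_le P H hx.1) (fun s hs x hx => ?_)
      fun y hy => ?_
    · refine ⟨hs.2.1 x hx.1, ?_⟩
      rw [herm_rho_rho hstar P hs.1 (prm_le P H hx.1) (prm_le P H hx.1)]
      exact mul_ne_zero (mul_ne_zero (star_ne_zero.2 (sc_ne_zero P hs.1)) (sc_ne_zero P hs.1)) hx.2
    · obtain ⟨g, hg, hgz⟩ := exists_move_rho hstar hF P (le_refl 4) (prm_le P H hz) hy.1 hzz hy.2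
      exact ⟨g, hg, z, ⟨hz, hzz⟩, hgz⟩
  have hT : Nat.card T + 1 ≤ a := by
    rw [ha, ← Set.ncard_singleton (0 : Fin 4 → F), ← Nat.card_coe_set_eq, ← Nat.card_sum]
    refine Nat.card_le_card_of_injective (Sum.elim (fun x => ⟨x.1, x.2.1⟩) (fun _ => 0)) ?_
    rintro (x | x) (y | y) h <;> simp only [Sum.elim_inl, Sum.elim_inr] at h
    · exact congrArg Sum.inl (Subtype.ext (congrArg Subtype.val h :))
    · have h' : x.1 = 0 := congrArg Subtype.val h
      exact absurd (by rw [h', herm_zero_left]) x.2.2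
    · have h' : (0 : Fin 4 → F) = y.1 := congrArg Subtype.val h
      exact absurd (by rw [← h', herm_zero_left]) y.2.2
    · exact congrArg Sum.inr (Subtype.ext (x.2.trans y.2.symm))
  rw [card_aniso_W hstar hF P, show nip q (4 - 2) = (q - 1) * q by simp [nip]] at hcov
  have hb := bound_noRoot hstar hF P H h0
  have hprm := card_prm_le hstar hF P H h0
  rw [← hk, ← ha, ← hr'] at hb
  rw [← ha] at hprm
  rw [← hr'] at hr
  obtain ⟨Q, hQ⟩ : ∃ Q, q ^ 2 = Q + 1 := ⟨q ^ 2 - 1, by have := Nat.one_le_pow 2 q (by omega); omega⟩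
  obtain ⟨b, rfl⟩ : ∃ b, a = b + 1 := ⟨a - 1, by omega⟩
  have hprm' : b ≤ Q := by norm_num at hprm; omega
  have key : (q - 1) * q * Q * q ^ 5 ≤ r * (Q + 1) * Q := by
    calc (q - 1) * q * Q * q ^ 5 = Q * ((q - 1) * q) * q ^ 5 := by ring
      _ ≤ k * b * q ^ 5 := by
          refine Nat.mul_le_mul_right _ (le_trans ?_ (hcov.trans (Nat.mul_le_mul_left _ (show Nat.card T ≤ b by omega))))
          rw [hQ, Nat.add_sub_cancel]
      _ = b * (k * (q ^ (2 * (4 - 2)) * q)) := by ring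
      _ ≤ b * (r * (b + 1)) := Nat.mul_le_mul_left _ hb
      _ ≤ Q * (r * (Q + 1)) := Nat.mul_le_mul hprm' (Nat.mul_le_mul_left _ (by omega))
      _ = _ := by ring
  have h3 : (q - 1) * q ^ 4 ≤ r := by
    refine Nat.le_of_mul_le_mul_right ?_ (show 0 < (Q + 1) * Q by have := Nat.pow_le_pow_left hq 2; exact Nat.mul_pos (by omega) (by omega))
    calc (q - 1) * q ^ 4 * ((Q + 1) * Q) = (q - 1) * q * Q * q ^ 5 := by rw [← hQ]; ring
      _ ≤ r * (Q + 1) * Q := key
      _ = _ := by ring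
  have e1 : 2 * q ^ 4 ≤ (q - 1) * q ^ 4 := Nat.mul_le_mul_right _ (by omega)
  have e2 : q ^ 3 * 2 ≤ q ^ 4 := by rw [pow_succ q 3]; exact Nat.mul_le_mul_left _ hq
  have e3 : q + 1 ≤ q ^ 3 := by
    have := Nat.pow_le_pow_right (show 0 < q by omega) (show 2 ≤ 3 by norm_num)
    nlinarith
  nlinarith

theorem rho_eq_zero {s : Cfsg.SU 4 F q} (hs : s ∈ par1 q P) {z : Fin 4 → F} (hz : z ∈ Wsub i j)
    (h : rho e f s z = 0) : z = 0 := by
  have : rho e f s⁻¹ (rho e f s z) = z := by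
    rw [← rho_mul hstar P (inv_mem hs) hs hz, inv_mul_cancel, rho, sc, act_one, P.fe, star_one, one_smul, act_one,
      projW_of_mem P hz]
  rw [← this, h, rho, show act s⁻¹ (0 : Fin 4 → F) = 0 from Matrix.mulVec_zero _, projW]
  simp [herm_zero_right]

theorem iso_four : Nat.card {v : Fin 4 → F | v ∈ Wsub i j ∧ v ≠ 0 ∧ herm v v = 0} = (q ^ 2 - 1) * (q + 1) := by
  rw [card_iso_W hstar hF P, show pts q (4 - 2) = q + 1 by simp [pts]; ring]

omit P in
theorem two_B : (q + 1) * (q ^ 3 + 1) ≤ 2 * ((q + 1) * q ^ 3) ∧ (q + 1) * (q ^ 3 + 1) ≤ q ^ 5 := by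
  have hq := Hermitian.q_two_le hF
  have h1 : (q + 1) * (q ^ 3 + 1) ≤ 2 * ((q + 1) * q ^ 3) := by
    have : 1 ≤ q ^ 3 := Nat.one_le_pow _ _ (by omega)
    calc (q + 1) * (q ^ 3 + 1) ≤ (q + 1) * (q ^ 3 + q ^ 3) := Nat.mul_le_mul_left _ (by omega)
      _ = _ := by ring
  refine ⟨h1, ?_⟩
  have e1 : q ^ 4 * 2 ≤ q ^ 5 := by rw [pow_succ q 4]; exact Nat.mul_le_mul_left _ hq
  have e2 : q ^ 3 * 2 ≤ q ^ 4 := by rw [pow_succ q 3]; exact Nat.mul_le_mul_left _ hq
  have e3 : q + 1 ≤ q ^ 3 := by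
    have := Nat.pow_le_pow_right (show 0 < q by omega) (show 2 ≤ 3 by norm_num)
    nlinarith
  nlinarith

theorem prm_ne_zero (hr : H.relIndex (par1 q P) < (q + 1) * (q ^ 3 + 1)) (h0 : NoRoot hstar e H) :
    ∃ x ∈ prm hstar P H, x ≠ 0 := by
  classical
  by_contra! hz
  have ha1 : Nat.card (prm hstar P H) = 1 := by
    rw [Nat.card_eq_one_iff_unique]
    exact ⟨⟨fun u v => Subtype.ext (by rw [hz u.1 u.2, hz v.1 v.2])⟩, ⟨0⟩⟩
  have hb := bound_noRoot hstar hF P H h0
  rw [ha1, mul_one] at hb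
  have hk0 : 0 < (prmStab hstar P H).relIndex (par1 q P) :=
    Nat.pos_of_ne_zero (by rw [Subgroup.relIndex]; exact Subgroup.index_ne_zero_of_finite)
  have : q ^ 5 ≤ H.relIndex (par1 q P) := le_trans
    (le_trans (le_of_eq (by ring)) (Nat.mul_le_mul_right (q ^ (2 * (4 - 2)) * q) hk0)) hb
  have := (two_B hstar hF).2
  omega

/-- Parameters inside a group of order `q²` moved by at least `q + 1` translates fill it. -/
theorem fill (hr : H.relIndex (par1 q P) < (q + 1) * (q ^ 3 + 1)) (h0 : NoRoot hstar e H)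
    {R : AddSubgroup (Fin 4 → F)} (hle : prm hstar P H ≤ R) (hR : Nat.card R = q ^ 2)
    (hk : q + 1 ≤ (prmStab hstar P H).relIndex (par1 q P)) :
    prm hstar P H = R ∧ q ^ 4 + q ^ 3 ≤ H.relIndex (par1 q P) ∧
      ∀ p ∈ prmStab hstar P H, ∃ x ∈ rad hstar P, p * x ∈ H := by
  classical
  have hq := Hermitian.q_two_le hF
  have hB := (two_B hstar hF).1
  have hd := AddSubgroup.card_dvd_of_le hle
  have hb := bound_noRoot hstar hF P H h0
  obtain ⟨r, hr'⟩ : ∃ r, r = H.relIndex (par1 q P) := ⟨_, rfl⟩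
  obtain ⟨a, ha⟩ : ∃ a, a = Nat.card (prm hstar P H) := ⟨_, rfl⟩
  obtain ⟨k, hk'⟩ : ∃ k, k = (prmStab hstar P H).relIndex (par1 q P) := ⟨_, rfl⟩
  rw [← hr', ← ha, ← hk'] at hb
  rw [← hr'] at hr
  rw [← ha, hR] at hd
  rw [← hk'] at hk
  have h5 : (q + 1) * q ^ 5 ≤ r * a := le_trans (Nat.mul_le_mul_right _ hk) (le_trans (le_of_eq (by ring)) hb)
  obtain ⟨d, hd⟩ := hd
  have hq2 : 0 < q ^ 2 := pow_pos (by omega) _
  rcases Nat.lt_or_ge d 2 with hd2 | hd2
  · obtain rfl : d = 1 := by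
      rcases Nat.eq_zero_or_pos d with rfl | _
      · simp at hd; omega
      · omega
    rw [mul_one] at hd
    subst hd
    refine ⟨AddSubgroup.eq_of_le_of_card_ge hle (by omega), ?_, ?_⟩
    · rw [← hr']
      refine Nat.le_of_mul_le_mul_right ?_ hq2
      calc (q ^ 4 + q ^ 3) * q ^ 2 = (q + 1) * q ^ 5 := by ring
        _ ≤ _ := h5
    · rcases bound_double hstar hF P H h0 with h | h
      · exfalso
        rw [← hk', ← hr', ← ha] at h
        have : 2 * ((q + 1) * q ^ 3) ≤ r := by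
          refine Nat.le_of_mul_le_mul_right ?_ hq2
          calc 2 * ((q + 1) * q ^ 3) * q ^ 2 = 2 * ((q + 1) * q ^ 5) := by ring
            _ ≤ 2 * (k * q ^ 5) := Nat.mul_le_mul_left _ (Nat.mul_le_mul_right _ hk)
            _ ≤ _ := h
        omega
      · exact h
  · exfalso
    have h2a : 2 * a ≤ q ^ 2 := by rw [hd, mul_comm]; exact Nat.mul_le_mul_left _ hd2
    have : 2 * ((q + 1) * q ^ 3) ≤ r := by
      refine Nat.le_of_mul_le_mul_right ?_ hq2
      calc 2 * ((q + 1) * q ^ 3) * q ^ 2 = 2 * ((q + 1) * q ^ 5) := by ring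
        _ ≤ 2 * (r * a) := Nat.mul_le_mul_left _ h5
        _ = r * (2 * a) := by ring
        _ ≤ _ := Nat.mul_le_mul_left _ h2a
    omega

theorem k_bound {T : Set (Fin 4 → F)} (hT : Nat.card T ≤ q ^ 2 - 1)
    (hcov : (q ^ 2 - 1) * (q + 1) ≤ (prmStab hstar P H).relIndex (par1 q P) * Nat.card T) :
    q + 1 ≤ (prmStab hstar P H).relIndex (par1 q P) := by
  have := Nat.pow_le_pow_left (Hermitian.q_two_le hF) 2
  exact Nat.le_of_mul_le_mul_right (le_trans (le_of_eq (mul_comm _ _)) (hcov.trans (Nat.mul_le_mul_left _ hT))) (by omega)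

theorem line_case (hr : H.relIndex (par1 q P) < (q + 1) * (q ^ 3 + 1)) (h0 : NoRoot hstar e H)
    {x : Fin 4 → F} (hx : x ∈ prm hstar P H) (hx0 : x ≠ 0)
    (hline : ∀ z ∈ prm hstar P H, ∃ c : F, z = c • x) : Four hstar P H := by
  classical
  have hiso := fun z hz => prm_iso_of_index hstar hF P H h0 hr (z := z) hz
  have hxW := prm_le P H hx
  let T : Set (Fin 4 → F) := {z | z ≠ 0 ∧ ∃ c : F, z = c • x}
  have hcov : (q ^ 2 - 1) * (q + 1) ≤ (prmStab hstar P H).relIndex (par1 q P) * Nat.card T := by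
    rw [← iso_four hstar hF P]
    refine card_le_cover (actsOn_rho hstar P) (prmStab_le P H) ?_ (fun s hs z hz => ?_) fun v hv => ?_
    · rintro z ⟨-, c, rfl⟩; exact Submodule.smul_mem _ _ hxW
    · obtain ⟨hz0, c, rfl⟩ := hz
      refine ⟨fun h => hz0 (rho_eq_zero hstar hF P hs.1 (Submodule.smul_mem _ _ hxW) h), ?_⟩
      obtain ⟨d, hd⟩ := hline _ (hs.2.1 x hx)
      exact ⟨c * d, by rw [rho_smul, hd, smul_smul]⟩
    · obtain ⟨g, c, hc, hg, -, -, hgx⟩ := exists_move_line hstar hF P hxW hv.1 hx0 hv.2.1 (hiso x hx) hv.2.2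
      exact ⟨g, hg, c⁻¹ • x, ⟨smul_ne_zero (inv_ne_zero hc) hx0, _, rfl⟩,
        by rw [rho_smul, hgx, smul_smul, inv_mul_cancel₀ hc, one_smul]⟩
  have hT : Nat.card T ≤ q ^ 2 - 1 := by
    have : ∀ z : T, ∃ c : {c : F // c ≠ 0}, z.1 = c.1 • x := fun z => by
      obtain ⟨hz0, c, hc⟩ := z.2
      exact ⟨⟨c, fun h => hz0 (by rw [hc, h, zero_smul])⟩, hc⟩
    choose φ hφ using this
    refine (Nat.card_le_card_of_injective φ fun u v h => Subtype.ext (by rw [hφ u, h, hφ v])).trans (le_of_eq ?_)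
    rw [Nat.card_eq_fintype_card, Fintype.card_subtype_compl, Fintype.card_subtype_eq, hF]
  let R : AddSubgroup (Fin 4 → F) := (Submodule.span F {x}).toAddSubgroup
  have hR : Nat.card R = q ^ 2 := by
    rw [← hF, ← Nat.card_eq_fintype_card]
    refine (Nat.card_congr (Equiv.ofBijective
      (fun c : F => (⟨c • x, Submodule.mem_span_singleton.2 ⟨c, rfl⟩⟩ : R)) ⟨fun c d h => ?_, ?_⟩)).symm
    · exact smul_left_injective F hx0 (congrArg Subtype.val h :)
    · rintro ⟨z, hz⟩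
      obtain ⟨c, hc⟩ := Submodule.mem_span_singleton.1 hz
      exact ⟨c, Subtype.ext hc⟩
  obtain ⟨heq, hlo, hc⟩ := fill hstar hF P H hr h0 (R := R) (fun z hz => by
    obtain ⟨c, rfl⟩ := hline z hz
    exact Submodule.mem_span_singleton.2 ⟨c, rfl⟩) hR (k_bound hstar hF P H hT hcov)
  refine ⟨h0, hc, hlo, Or.inl ⟨x, hxW, hx0, hiso x hx, fun z => ?_⟩⟩
  rw [heq]
  exact Submodule.mem_span_singleton.trans ⟨fun ⟨c, hc⟩ => ⟨c, hc.symm⟩, fun ⟨c, hc⟩ => ⟨c, hc.symm⟩⟩

theorem plane_case (hr : H.relIndex (par1 q P) < (q + 1) * (q ^ 3 + 1)) (h0 : NoRoot hstar e H)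
    {x y : Fin 4 → F} (hx : x ∈ prm hstar P H) (hx0 : x ≠ 0) (hy : y ∈ prm hstar P H)
    (hyx : ∀ c : F, y ≠ c • x) : Four hstar P H := by
  classical
  have hq := Hermitian.q_two_le hF
  have hiso := fun z hz => prm_iso_of_index hstar hF P H h0 hr (z := z) hz
  have hxW := prm_le P H hx
  have hyW := prm_le P H hy
  obtain ⟨x', hx'W, hx'x', hxx'⟩ := exists_partner hstar hF P hxW hx0 (hiso x hx)
  obtain ⟨c, hc⟩ : ∃ c, c = herm x y := ⟨_, rfl⟩
  have hc0 : c ≠ 0 := fun h => hyx (herm x' y) (by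
    have := plane_span hstar hF P hxW hx'W (hiso x hx) hx'x' hxx' hyW
    rwa [← hc, h, zero_smul, add_zero] at this)
  have hcs : star c = c := by rw [hc, star_herm]; exact (prm_real P h0 hx hy).symm
  have h2 : (2 : F) = 0 := by
    have h1 := hiso _ (add_mem hx hy)
    rw [herm_add_left, herm_add_right, herm_add_right, hiso x hx, hiso y hy, ← star_herm x y, ← hc, hcs] at h1
    have : (2 : F) * c = 0 := by linear_combination h1
    exact (mul_eq_zero.1 this).resolve_right hc0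
  obtain ⟨v, hv⟩ : ∃ v, v = c⁻¹ • y := ⟨_, rfl⟩
  have hvW : v ∈ Wsub i j := hv ▸ Submodule.smul_mem _ _ hyW
  have hvv : herm v v = 0 := by rw [hv, herm_smul_left, herm_smul_right, hiso y hy]; ring
  have hxv : herm x v = 1 := by rw [hv, herm_smul_right, ← hc, inv_mul_cancel₀ hc0]
  have hvx : herm v x = 1 := by rw [← star_herm, hxv, star_one]
  let T : Set (Fin 4 → F) := {z | z ∈ prm hstar P H ∧ z ≠ 0}
  have hcov : (q ^ 2 - 1) * (q + 1) ≤ (prmStab hstar P H).relIndex (par1 q P) * Nat.card T := by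
    rw [← iso_four hstar hF P]
    refine card_le_cover (actsOn_rho hstar P) (prmStab_le P H) (fun z hz => prm_le P H hz.1) (fun s hs z hz => ?_)
      fun w hw => ?_
    · exact ⟨hs.2.1 z hz.1, fun h => hz.2 (rho_eq_zero hstar hF P hs.1 (prm_le P H hz.1) h)⟩
    · obtain ⟨g, d, hd, hg, -, -, hgx⟩ := exists_move_line hstar hF P hxW hw.1 hx0 hw.2.1 (hiso x hx) hw.2.2
      obtain ⟨g', hg', hs'⟩ := exists_scalar_even hstar hF P h2 (inv_ne_zero hd)
      refine ⟨g' * g, mul_mem hg' hg, x, ⟨hx, hx0⟩, ?_⟩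
      rw [rho_mul hstar P hg' hg hxW, hgx, hs' _ (Submodule.smul_mem _ _ hw.1), smul_smul, inv_mul_cancel₀ hd, one_smul]
  let R : AddSubgroup (Fin 4 → F) :=
    { carrier := {z | z ∈ Wsub i j ∧ star (herm x z) = herm x z ∧ star (herm v z) = herm v z}
      zero_mem' := ⟨Submodule.zero_mem _, by simp [herm_zero_right], by simp [herm_zero_right]⟩
      add_mem' := fun {u w} hu hw => ⟨add_mem hu.1 hw.1, by rw [herm_add_right, star_add, hu.2.1, hw.2.1],
        by rw [herm_add_right, star_add, hu.2.2, hw.2.2]⟩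
      neg_mem' := fun {u} hu => ⟨neg_mem hu.1,
        by rw [← neg_one_smul F u, herm_smul_right, star_mul', star_neg, star_one, hu.2.1],
        by rw [← neg_one_smul F u, herm_smul_right, star_mul', star_neg, star_one, hu.2.2]⟩ }
  have hle : prm hstar P H ≤ R := fun z hz => by
    refine ⟨prm_le P H hz, ?_, ?_⟩
    · rw [star_herm]; exact (prm_real P h0 hx hz).symm
    · rw [hv, herm_smul_left, star_inv₀, hcs, star_mul', star_inv₀, hcs, star_herm]
      congr 1
      exact (prm_real P h0 hy hz).symm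
  have hR : Nat.card R = q ^ 2 := by
    haveI : CharP F 2 := CharTwo.of_one_ne_zero_of_two_eq_zero one_ne_zero h2
    have hfix : Nat.card {s : F // star s = s} = q := by
      rw [← card_skew hstar hF]
      exact Nat.card_congr (Equiv.subtypeEquivRight fun s => by rw [CharTwo.neg_eq])
    let φ : R → {s : F // star s = s} × {s : F // star s = s} := fun z => (⟨_, z.2.2.1⟩, ⟨_, z.2.2.2⟩)
    have hφ : Function.Bijective φ := by
      refine ⟨fun u w h => Subtype.ext ?_, fun ⟨α, β⟩ => ⟨⟨β.1 • x + α.1 • v,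
        add_mem (Submodule.smul_mem _ _ hxW) (Submodule.smul_mem _ _ hvW), ?_, ?_⟩, ?_⟩⟩
      · have h1 : herm x u.1 = herm x w.1 := congrArg (fun p => p.1.1) h
        have h1' : herm v u.1 = herm v w.1 := congrArg (fun p => p.2.1) h
        rw [plane_span hstar hF P hxW hvW (hiso x hx) hvv hxv u.2.1, h1, h1',
          ← plane_span hstar hF P hxW hvW (hiso x hx) hvv hxv w.2.1]
      · simp [herm_add_right, herm_smul_right, hiso x hx, hxv, α.2]
      · simp [herm_add_right, herm_smul_right, hvv, hvx, β.2]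
      · refine Prod.ext (Subtype.ext ?_) (Subtype.ext ?_)
        · simp [φ, herm_add_right, herm_smul_right, hiso x hx, hxv]
        · simp [φ, herm_add_right, herm_smul_right, hvv, hvx]
    rw [Nat.card_congr (Equiv.ofBijective φ hφ), Nat.card_prod, hfix, pow_two]
  have hT : Nat.card T ≤ q ^ 2 - 1 := by
    have h1 : Nat.card T + 1 ≤ Nat.card (prm hstar P H) := by
      rw [← Set.ncard_singleton (0 : Fin 4 → F), ← Nat.card_coe_set_eq, ← Nat.card_sum]
      refine Nat.card_le_card_of_injective (Sum.elim (fun z => ⟨z.1, z.2.1⟩) (fun _ => 0)) ?_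
      rintro (u | u) (w | w) h <;> simp only [Sum.elim_inl, Sum.elim_inr] at h
      · exact congrArg Sum.inl (Subtype.ext (congrArg Subtype.val h :))
      · exact absurd (congrArg Subtype.val h : u.1 = 0) u.2.2
      · exact absurd (congrArg Subtype.val h : (0 : Fin 4 → F) = w.1).symm w.2.2
      · exact congrArg Sum.inr (Subtype.ext (u.2.trans w.2.symm))
    have := Nat.le_of_dvd (hR ▸ pow_pos (show 0 < q by omega) 2) (AddSubgroup.card_dvd_of_le hle)
    omega
  obtain ⟨heq, hlo, hc'⟩ := fill hstar hF P H hr h0 hle hR (k_bound hstar hF P H hT hcov)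
  refine ⟨h0, hc', hlo, Or.inr ⟨h2, x, v, hxW, hvW, hiso x hx, hvv, hxv, fun z => ?_⟩⟩
  rw [heq]
  exact Iff.rfl

/-- The shape in dimension four. -/
theorem four_exact (hN : H.index < (q + 1) * (q ^ 3 + 1)) (h0 : NoRoot hstar e H) : Four hstar P H := by
  have hle := orbit_le H (par1 q P) 1
  rw [cj_one] at hle
  have hr : H.relIndex (par1 q P) < (q + 1) * (q ^ 3 + 1) := lt_of_le_of_lt hle hN
  obtain ⟨x, hx, hx0⟩ := prm_ne_zero hstar hF P H hr h0
  by_cases hline : ∀ z ∈ prm hstar P H, ∃ c : F, z = c • x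
  · exact line_case hstar hF P H hr h0 hx hx0 hline
  · push Not at hline
    obtain ⟨y, hy, hyx⟩ := hline
    exact plane_case hstar hF P H hr h0 hx hx0 hy hyx

end Exact

end Cfsg.Agent.Small.UMinIndex
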