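import Cfsg.Agent.Lib.Small.UMinIndex.Meet
import Cfsg.Agent.Lib.Small.UCover.PermTorus
import Cfsg.Agent.Lib.Small.UCover.UnipotentTwo

/-!
A subgroup whose intersection with the stabiliser of a point is a complement of the radical, for every point,
does not exist in dimension at least five.
-/

set_option autoImplicit false
set_option linter.unusedSectionVars false
set_option linter.style.haveILetI false

namespace Cfsg.Agent.Small.UMinIndex

open Matrix Cfsg.Agent.Small.Unitary Cfsg.Agent.Small.UCover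
open scoped commutatorElement

variable {F : Type*} [Field F] [Fintype F] [StarRing F] {n q : ℕ} {i j : Fin n} {e f : Fin n → F}

/-- The subgroup meets the stabiliser of the point in a complement of the radical. -/
structure Reg (hstar : ∀ x : F, star x = x ^ q) (P : Pair i j e f) (H : Subgroup (Cfsg.SU n F q)) : Prop where
  noRoot : NoRoot hstar e H
  prm_zero : ∀ z ∈ prm hstar P H, z = 0
  cover : ∀ p ∈ par1 q P, ∃ x ∈ rad hstar P, p * x ∈ H

variable {hstar : ∀ x : F, star x = x ^ q}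

theorem Reg.rad_triv {P : Pair i j e f} {H : Subgroup (Cfsg.SU n F q)} (h : Reg hstar P H)
    {x : Cfsg.SU n F q} (hx : x ∈ rad hstar P) (hxH : x ∈ H) : x = 1 := by
  obtain ⟨z, a, hz, ha, rfl⟩ := hx
  have hz0 := h.prm_zero z ⟨hz, a, ha, hxH⟩
  subst hz0
  rw [h.noRoot a ((EOk_zero_iff P.ee).1 ha) hxH, eich_zero_zero hstar P.ee]

theorem zel_comm_fix (P : Pair i j e f) {l : Cfsg.SU n F q} (hl : act l e = e) {u : F} (hu : star u = -u) :
    Commute (zel hstar e u) l := by
  have h := eich_conj hstar l ((EOk_zero_iff P.ee).2 hu)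
  rw [hl, show act l (0 : Fin n → F) = 0 from Matrix.mulVec_zero _] at h
  exact (mul_inv_eq_iff_eq_mul.1 h).symm

section Finite

variable (hF : Fintype.card F = q ^ 2) (P : Pair i j e f) {H : Subgroup (Cfsg.SU n F q)}
  (hall : ∀ g : Cfsg.SU n F q, Reg hstar P (cj g H))
include hF hall

theorem not_root (hn : 3 ≤ n) (g : Cfsg.SU n F q) {v : Fin n → F} (hv0 : v ≠ 0) (hv : herm v v = 0) {t : F}
    (ht : star t = -t) (hm : zel hstar v t ∈ cj g H) : t = 0 := by
  obtain ⟨g', hg'⟩ := exists_move_point hstar hF P hn hv0 hv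
  subst hg'
  refine (hall (g'⁻¹ * g)).noRoot t ht ?_
  rwa [← cj_zel hstar g' P.ee ht, cj_cj, mul_inv_cancel_left]

theorem not_eich (hn : 3 ≤ n) (g : Cfsg.SU n F q) {v z : Fin n → F} {a : F} (hv0 : v ≠ 0) (h : EOk v z a)
    (hm : eich hstar v z a ∈ cj g H) : ∃ c : F, z = c • v := by
  obtain ⟨g', hg'⟩ := exists_move_point hstar hF P hn hv0 h.1
  subst hg'
  obtain ⟨h1, h2⟩ := conj_eich hstar g'⁻¹ h
  rw [act_inv_act] at h1 h2
  rw [inv_inv] at h2
  have hm' : eich hstar e (act g'⁻¹ z) a ∈ cj (g'⁻¹ * g) H := by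
    rw [← cj_cj, mem_cj, inv_inv, ← h2]
    simpa [mul_assoc] using hm
  have hdec : act g'⁻¹ z = projW e f (act g'⁻¹ z) + herm f (act g'⁻¹ z) • e := by
    conv_lhs => rw [eq_projW_add e f (act g'⁻¹ z), h1.2.1, zero_smul, add_zero, add_comm]
  rw [hdec] at h1 hm'
  have h3 := h1.shift (-(herm f (act g'⁻¹ z)))
  rw [neg_smul, add_neg_cancel_right] at h3
  rw [eich_shift hstar _ h3] at hm'
  have h4 : EOk e (projW e f (act g'⁻¹ z)) (a + herm f (act g'⁻¹ z) - star (herm f (act g'⁻¹ z))) :=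
    ⟨h3.1, h3.2.1, by rw [star_sub, star_add, star_star]; linear_combination h3.2.2⟩
  have h5 := (hall _).prm_zero _ ⟨P.projW_mem _, _, h4, hm'⟩
  rw [h5, zero_add] at hdec
  exact ⟨herm f (act g'⁻¹ z), by rw [← act_smul, ← hdec, act_act_inv]⟩

/-- Lifts of the centraliser of an element without fixed vectors in the complement. -/
theorem exists_central_lift {t : Cfsg.SU n F q} (htP : t ∈ par1 q P)
    (hfp : ∀ z ∈ Wsub i j, rho e f t z = z → z = 0) :
    ∃ y ∈ rad hstar P, ∀ l : Cfsg.SU n F q, act l e = e → Commute t l →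
      ∃ u : F, star u = -u ∧ l * zel hstar e u ∈ cj y H := by
  classical
  obtain ⟨x, hx, htx⟩ := (hall 1).cover t htP
  rw [cj_one] at htx
  obtain ⟨z, a, hz, ha, rfl⟩ := hx
  have hinv : ∀ w ∈ Wsub i j, rho e f t (rho e f t⁻¹ w) = w := fun w hw => by
    rw [← rho_mul hstar P htP (inv_mem htP) hw, mul_inv_cancel, rho, sc, act_one, P.fe, star_one, one_smul,
      act_one, projW_of_mem P hw]
  obtain ⟨w, hwz⟩ : ∃ w : (Wsub i j : Submodule F (Fin n → F)), w.1 - rho e f t⁻¹ w.1 = z := by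
    let D : ↥(Wsub i j : Submodule F (Fin n → F)) → ↥(Wsub i j : Submodule F (Fin n → F)) :=
      fun w => ⟨w.1 - rho e f t⁻¹ w.1, sub_mem w.2 (rho_mem P _ _)⟩
    have hD : Function.Injective D := by
      intro a b h
      have h1 : a.1 - rho e f t⁻¹ a.1 = b.1 - rho e f t⁻¹ b.1 := congrArg Subtype.val h
      have h2 : rho e f t⁻¹ (a.1 - b.1) = a.1 - b.1 := by
        have h3 : rho e f t⁻¹ (a.1 - b.1) + rho e f t⁻¹ b.1 = rho e f t⁻¹ a.1 := by rw [← rho_add, sub_add_cancel]
        linear_combination (norm := module) h3 - h1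
      refine Subtype.ext (sub_eq_zero.1 (hfp _ (sub_mem a.2 b.2) ?_))
      conv_lhs => rw [← h2, hinv _ (sub_mem a.2 b.2)]
    obtain ⟨w, hw⟩ := Finite.surjective_of_injective hD ⟨z, hz⟩
    exact ⟨w, congrArg Subtype.val hw⟩
  obtain ⟨b, hb⟩ := exists_param hstar hF P.ee (P.herm_W w.2).1
  obtain ⟨y, hy⟩ : ∃ y, y = eich hstar e w.1 b := ⟨_, rfl⟩
  refine ⟨y, hy ▸ mem_rad P w.2 hb, ?_⟩
  obtain ⟨b', hb', e'⟩ := conj_rad hstar P (inv_mem htP) w.2 hb
  rw [inv_inv, ← hy] at e'
  have hsum : rho e f t⁻¹ w.1 + z = w.1 := by rw [← hwz]; abel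
  obtain ⟨c, hc, hc'⟩ : ∃ c, EOk e w.1 c ∧ t⁻¹ * y * t * eich hstar e z a = eich hstar e w.1 c := by
    refine ⟨_, hsum ▸ hb'.add ha, ?_⟩
    rw [e', eich_mul hstar hb' ha, hsum]
  obtain ⟨h1, h2⟩ := zel_split (hstar := hstar) P hc hb
  have hk : t * zel hstar e (c - b) ∈ cj y H := by
    rw [mem_cj]
    have : y⁻¹ * (t * zel hstar e (c - b)) * y = t * eich hstar e z a := by
      rw [show zel hstar e (c - b) = t⁻¹ * y * t * eich hstar e z a * y⁻¹ by
        rw [hc', h1, hy, mul_inv_cancel_right]]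
      group
    rwa [this]
  intro l hl hcomm
  obtain ⟨x', hx', hlx⟩ := (hall y).cover l ⟨1, by rw [hl, one_smul]⟩
  obtain ⟨z', a', hz', ha', rfl⟩ := hx'
  obtain ⟨a'', ha'', e''⟩ := conj_rad hstar P htP hz' ha'
  have hconj : t * zel hstar e (c - b) * (l * eich hstar e z' a') * (t * zel hstar e (c - b))⁻¹ =
      l * eich hstar e (rho e f t z') a'' := by
    have c1 : Commute (zel hstar e (c - b)) (l * eich hstar e z' a') :=
      (zel_comm_fix P hl h2).mul_right (zel_commute P h2 (mem_rad P hz' ha'))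
    rw [← e'', _root_.mul_inv_rev, mul_assoc t, c1.eq]
    rw [show l * (t * eich hstar e z' a' * t⁻¹) = l * t * eich hstar e z' a' * t⁻¹ by group, hcomm.symm.eq]
    group
  have hin : (eich hstar e z' a')⁻¹ * eich hstar e (rho e f t z') a'' ∈ cj y H := by
    have := mul_mem (inv_mem hlx) (mul_mem (mul_mem hk hlx) (inv_mem hk))
    rw [hconj] at this
    simpa [mul_assoc] using this
  have heq := inv_mul_eq_one.1 ((hall y).rad_triv
    (mul_mem (inv_mem (mem_rad P hz' ha')) (mem_rad P (rho_mem P _ _) ha'')) hin)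
  obtain ⟨hp1, -⟩ := rad_params (hstar := hstar) P hz' (rho_mem P _ _) ha' ha'' heq
  have hz0 := hfp z' hz' hp1.symm
  subst hz0
  exact ⟨a', (EOk_zero_iff P.ee).1 ha', hlx⟩

theorem root_large (hn : 5 ≤ n) (hq : 3 ≤ q) : False := by
  classical
  obtain ⟨θ, hθ0, hθ⟩ := exists_skew hstar hF
  obtain ⟨lam, hl0, hl1, hls⟩ : ∃ lam : F, lam ≠ 0 ∧ lam ≠ 1 ∧ star lam = lam := by
    by_contra! hc
    have h1 : Nat.card {s : F // star s = -s} ≤ Nat.card ({0, θ} : Finset F) :=
      Nat.card_le_card_of_injective (fun s => ⟨s.1, by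
        by_contra hm
        simp only [Finset.mem_insert, Finset.mem_singleton, not_or] at hm
        refine hc (s.1 / θ) (div_ne_zero hm.1 hθ0) (fun h => hm.2 ((div_eq_one_iff_eq hθ0).1 h)) ?_
        rw [star_div₀, s.2, hθ, neg_div_neg_eq]⟩) fun a b h => Subtype.ext (congrArg Subtype.val h :)
    rw [card_skew hstar hF, Nat.card_eq_finsetCard] at h1
    have := h1.trans Finset.card_le_two
    omega
  obtain ⟨t, hte, htf, htW, htc⟩ := exists_tor hstar P (n := n) (μ := lam) (lam := 1)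
    ⟨hl0, by simp, by rw [one_pow, one_pow, hls, mul_inv_cancel₀ hl0, one_mul]⟩
  have htP : t ∈ par1 q P := ⟨lam, hte⟩
  have hfp : ∀ z ∈ Wsub i j, rho e f t z = z → z = 0 := fun z hz h => by
    rw [rho, sc, hte, herm_smul_right, P.fe, mul_one, hls, htW z hz, one_smul, projW_of_mem P hz] at h
    have : (lam - 1) • z = 0 := by rw [sub_smul, one_smul, h, sub_self]
    exact (smul_eq_zero.1 this).resolve_left (sub_ne_zero.2 hl1)
  obtain ⟨y, -, hlift⟩ := exists_central_lift hF P hall htP hfp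
  obtain ⟨k, l, m, hk, hl, hm, hkl, hkm, hlm⟩ : ∃ k l m, k ∈ (Finset.univ : Finset (Fin n)) \ {i, j} ∧
      l ∈ (Finset.univ : Finset (Fin n)) \ {i, j} ∧ m ∈ (Finset.univ : Finset (Fin n)) \ {i, j} ∧
      k ≠ l ∧ k ≠ m ∧ l ≠ m := by
    refine Finset.two_lt_card_iff.1 ?_
    rw [Finset.card_sdiff_of_subset (Finset.subset_univ _), Finset.card_univ, Fintype.card_fin, Finset.card_pair P.ne]
    omega
  simp only [Finset.mem_sdiff, Finset.mem_univ, true_and, Finset.mem_insert, Finset.mem_singleton, not_or] at hk hl hm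
  obtain ⟨u, v, P1⟩ := exists_pair hstar hF hkl
  have huW : u ∈ Wsub i j := ⟨P1.supp_e i (by simp [Ne.symm hk.1, Ne.symm hl.1]), P1.supp_e j (by simp [Ne.symm hk.2, Ne.symm hl.2])⟩
  set z : Fin n → F := Pi.single m 1 with hzdef
  have hzW : z ∈ Wsub i j := ⟨Pi.single_eq_of_ne (Ne.symm hm.1) _, Pi.single_eq_of_ne (Ne.symm hm.2) _⟩
  have hzz : herm z z = 1 := by rw [hzdef, herm_single_left]; simp
  have huz : herm u z = 0 := by
    rw [hzdef, herm_single_right, P1.supp_e m (by simp [Ne.symm hkm, Ne.symm hlm]), star_zero, zero_mul]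
  obtain ⟨s, hs⟩ := exists_trace hstar hF (r := (1 : F)) (star_one F)
  obtain ⟨a, ha⟩ := exists_param hstar hF P1.ee huz
  have huw : herm u ((s * θ) • z) = 0 := by rw [herm_smul_right, huz, mul_zero]
  obtain ⟨b, hb⟩ := exists_param hstar hF P1.ee huw
  obtain ⟨he1, hf1⟩ := fix_eich hstar P huW hzW ha
  obtain ⟨he2, hf2⟩ := fix_eich hstar P huW (Submodule.smul_mem _ (s * θ) hzW) hb
  obtain ⟨a1, hu1, hm1⟩ := hlift _ he1 (htc _ he1 hf1)
  obtain ⟨a2, hu2, hm2⟩ := hlift _ he2 (htc _ he2 hf2)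
  have hcc : ⁅eich hstar u z a * zel hstar e a1, eich hstar u ((s * θ) • z) b * zel hstar e a2⁆ =
      ⁅eich hstar u z a, eich hstar u ((s * θ) • z) b⁆ := by
    have c1 := zel_comm_fix (hstar := hstar) P he2 hu1
    have c2 := zel_comm_fix (hstar := hstar) P he1 hu2
    have c3 : Commute (zel hstar e a1) (zel hstar e a2) := zel_commute P hu1 (zel_mem P hu2)
    simp only [commutatorElement_def, _root_.mul_inv_rev]
    rw [show eich hstar u z a * zel hstar e a1 * (eich hstar u ((s * θ) • z) b * zel hstar e a2) =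
      eich hstar u z a * eich hstar u ((s * θ) • z) b * (zel hstar e a2 * zel hstar e a1) by
        rw [mul_assoc, ← mul_assoc (zel hstar e a1), c1.eq, mul_assoc (eich hstar u ((s * θ) • z) b), c3.eq]
        simp only [mul_assoc]]
    have c4 := (c2.inv_left).inv_right
    calc eich hstar u z a * eich hstar u ((s * θ) • z) b * (zel hstar e a2 * zel hstar e a1) *
          ((zel hstar e a1)⁻¹ * (eich hstar u z a)⁻¹) * ((zel hstar e a2)⁻¹ * (eich hstar u ((s * θ) • z) b)⁻¹)
        = eich hstar u z a * eich hstar u ((s * θ) • z) b * zel hstar e a2 *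
            ((eich hstar u z a)⁻¹ * (zel hstar e a2)⁻¹) * (eich hstar u ((s * θ) • z) b)⁻¹ := by group
      _ = _ := by rw [← c4.eq]; group
  have hmem : zel hstar u (herm ((s * θ) • z) z - herm z ((s * θ) • z)) ∈ cj y H := by
    rw [← eich_comm (hstar := hstar) ha hb, ← hcc, commutatorElement_def]
    exact mul_mem (mul_mem (mul_mem hm1 hm2) (inv_mem hm1)) (inv_mem hm2)
  rw [herm_smul_left, herm_smul_right, hzz, mul_one, mul_one, star_mul', hθ,
    show star s * -θ - s * θ = -θ by linear_combination (-θ) * hs] at hmem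
  exact hθ0 (neg_eq_zero.1 (not_root hF P hall (by omega) y (Pair.ne_zero P1) P1.ee (by rw [star_neg, hθ]) hmem))

end Finite

theorem exists_diag_two {hstar : ∀ x : F, star x = x ^ 2} (hF : Fintype.card F = 2 ^ 2) (hn : 5 ≤ n)
    {i j k l : Fin n} (hij : i ≠ j) (hkl : k ≠ l) (hki : k ≠ i) (hkj : k ≠ j) (hli : l ≠ i) (hlj : l ≠ j) :
    ∃ d : Fin n → F, DOk d ∧ d i = 1 ∧ d j = 1 ∧ d l = d k ∧ ∀ c, c ≠ i → c ≠ j → d c ≠ 1 := by
  classical
  obtain ⟨ω, hω1, hω⟩ := exists_norm_one_ne hstar hF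
  have hω0 : ω ≠ 0 := fun h => by rw [h, mul_zero] at hω; exact zero_ne_one hω
  have h3 : ω ^ 3 = 1 := cube_eq_one (hstar := hstar) hF hω0
  have hω2 : ω ^ 2 ≠ 1 := fun h => hω1 (by rw [pow_succ, h, one_mul] at h3; exact h3)
  let S : Finset (Fin n) := Finset.univ \ {i, j, k, l}
  have hS : S.card = n - 4 := by
    rw [Finset.card_sdiff_of_subset (Finset.subset_univ _), Finset.card_univ, Fintype.card_fin]
    rw [Finset.card_insert_of_notMem (by simp [hij, Ne.symm hki, Ne.symm hli]),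
      Finset.card_insert_of_notMem (by simp [Ne.symm hkj, Ne.symm hlj]), Finset.card_pair hkl]
  obtain ⟨m, hm⟩ : S.Nonempty := Finset.card_pos.1 (by omega)
  obtain ⟨a, b, ha, hb, hab⟩ : ∃ a b : ℕ, (a = 1 ∨ a = 2) ∧ (b = 1 ∨ b = 2) ∧ (2 + a * (n - 5) + b) % 3 = 0 := by
    rcases (show (n - 5) % 3 = 0 ∨ (n - 5) % 3 = 1 ∨ (n - 5) % 3 = 2 by omega) with h | h | h
    · exact ⟨1, 1, Or.inl rfl, Or.inl rfl, by omega⟩
    · exact ⟨2, 2, Or.inr rfl, Or.inr rfl, by omega⟩
    · exact ⟨1, 2, Or.inl rfl, Or.inr rfl, by omega⟩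
  let ε : Fin n → ℕ := fun c => if c = i ∨ c = j then 0 else if c = k ∨ c = l then 1 else if c = m then b else a
  refine ⟨fun c => ω ^ ε c, ⟨fun c => ?_, ?_⟩, by simp [ε], by simp [ε], by simp [ε, hki, hkj, hli, hlj], fun c hci hcj => ?_⟩
  · rw [star_pow, ← mul_pow, hω, one_pow]
  · rw [Finset.prod_pow_eq_pow_sum]
    have hm' : m ≠ i ∧ m ≠ j ∧ m ≠ k ∧ m ≠ l := by simpa [S] using hm
    have hsum : ∑ c, ε c = 2 + a * (n - 5) + b := by
      rw [← Finset.sum_sdiff (Finset.subset_univ ({i, j, k, l} : Finset (Fin n))),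
        ← Finset.add_sum_erase S _ hm]
      rw [Finset.sum_congr rfl (g := fun _ => a) fun c hc => by
        simp only [Finset.mem_erase, S, Finset.mem_sdiff, Finset.mem_univ, true_and, Finset.mem_insert,
          Finset.mem_singleton, not_or] at hc
        simp [ε, hc.1, hc.2.1, hc.2.2.1, hc.2.2.2.1, hc.2.2.2.2]]
      rw [Finset.sum_const, Finset.card_erase_of_mem hm, hS, smul_eq_mul,
        Finset.sum_insert (by simp [hij, Ne.symm hki, Ne.symm hli]),
        Finset.sum_insert (by simp [Ne.symm hkj, Ne.symm hlj]), Finset.sum_pair hkl,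
        show n - 4 - 1 = n - 5 by omega]
      simp [ε, hm'.1, hm'.2.1, hm'.2.2.1, hm'.2.2.2, hki, hkj, hli, hlj]
      ring
    rw [hsum, ← Nat.div_add_mod (2 + a * (n - 5) + b) 3, hab, add_zero, pow_mul, h3, one_pow]
  · simp only [ε]
    split_ifs with h1 h2 h4
    · exact absurd h1 (by simp [hci, hcj])
    · rwa [pow_one]
    · rcases hb with rfl | rfl
      · rwa [pow_one]
      · exact hω2
    · rcases ha with rfl | rfl
      · rwa [pow_one]
      · exact hω2

theorem root_two {hstar : ∀ x : F, star x = x ^ 2} (hF : Fintype.card F = 2 ^ 2) (P : Pair i j e f) (hn : 5 ≤ n)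
    {H : Subgroup (Cfsg.SU n F 2)} (hall : ∀ g : Cfsg.SU n F 2, Reg hstar P (cj g H)) : False := by
  classical
  haveI : CharP F 2 := char_two (hstar := hstar) hF
  obtain ⟨k, hk, l, hl, hkl⟩ : ∃ k ∈ (Finset.univ : Finset (Fin n)) \ {i, j},
      ∃ l ∈ (Finset.univ : Finset (Fin n)) \ {i, j}, k ≠ l := by
    refine Finset.one_lt_card.1 ?_
    rw [Finset.card_sdiff_of_subset (Finset.subset_univ _), Finset.card_univ, Fintype.card_fin, Finset.card_pair P.ne]
    omega
  simp only [Finset.mem_sdiff, Finset.mem_univ, true_and, Finset.mem_insert, Finset.mem_singleton, not_or] at hk hl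
  obtain ⟨d, hd, hdi, hdj, hdl, hd1⟩ := exists_diag_two (hstar := hstar) hF hn P.ne hkl hk.1 hk.2 hl.1 hl.2
  obtain ⟨t, ht⟩ : ∃ t, t = dg hstar d := ⟨_, rfl⟩
  have hact : ∀ x, act t x = fun c => d c * x c := ht ▸ act_dg' hd
  have hsupp : ∀ x : Fin n → F, Supp {i, j} x → act t x = x := fun x hx => by
    rw [hact]; funext c
    by_cases hc : c ∈ ({i, j} : Finset (Fin n))
    · rcases Finset.mem_insert.1 hc with rfl | hc
      · rw [hdi, one_mul]
      · rw [Finset.mem_singleton] at hc; rw [hc, hdj, one_mul]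
    · rw [hx c hc, mul_zero]
  have hte := hsupp e P.supp_e
  obtain ⟨htP, htW⟩ := of_fix hstar P hte (hsupp f P.supp_f)
  have hfp : ∀ z ∈ Wsub i j, rho e f t z = z → z = 0 := fun z hz h => by
    rw [(htW z hz).2.1, hact] at h
    funext c
    by_cases hci : c = i
    · rw [hci]; exact hz.1
    by_cases hcj : c = j
    · rw [hcj]; exact hz.2
    have h1 : (d c - 1) * z c = 0 := by rw [sub_mul, one_mul, sub_eq_zero]; exact congrFun h c
    exact (mul_eq_zero.1 h1).resolve_left (sub_ne_zero.2 (hd1 c hci hcj))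
  obtain ⟨y, hy, hlift⟩ := exists_central_lift hF P hall htP hfp
  obtain ⟨u, v, P1⟩ := exists_pair hstar hF hkl
  have huW : u ∈ Wsub i j := ⟨P1.supp_e i (by simp [Ne.symm hk.1, Ne.symm hl.1]), P1.supp_e j (by simp [Ne.symm hk.2, Ne.symm hl.2])⟩
  have h1s : star (1 : F) = -1 := by rw [star_one, CharTwo.neg_eq]
  have htu : act t u = d k • u := by
    rw [hact]; funext c
    by_cases hc : c ∈ ({k, l} : Finset (Fin n))
    · rcases Finset.mem_insert.1 hc with rfl | hc
      · rfl
      · rw [Finset.mem_singleton] at hc; rw [hc]; show _ = d k * u l; rw [hdl]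
    · show _ = d k * u c; rw [P1.supp_e c hc, mul_zero, mul_zero]
  have hcomm : Commute t (trans hstar u P1.ee 1 h1s) := by
    have h := conj_trans_scale hstar t u P1.ee htu (t := 1) (ht := h1s)
    have h2 : star (d k) * d k * 1 = 1 := by rw [hd.1 k, one_mul]
    refine (mul_inv_eq_iff_eq_mul.1 (h.trans ?_))
    exact eq_of_act fun x => by rw [act_trans, act_trans, h2]
  obtain ⟨he, -⟩ := fix_trans hstar P huW P1.ee h1s
  obtain ⟨ε, hε, hm⟩ := hlift _ he hcomm
  rw [trans_eq_eich hstar P1.ee h1s] at hm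
  rcases skew_two (hstar := hstar) hF hε with rfl | rfl
  · rw [show zel hstar e (0 : F) = 1 from eich_zero_zero hstar P.ee, mul_one] at hm
    exact one_ne_zero (not_root hF P hall (by omega) y (Pair.ne_zero P1) P1.ee h1s hm)
  -- the product of two root elements is a radical element at a third point of the line
  obtain ⟨w, hw⟩ : ∃ w, w = u + (1 : F) • e := ⟨_, rfl⟩
  have hue : herm u e = 0 := (P.W_herm huW).1
  have heu : herm e u = 0 := (P.herm_W huW).1
  have hww : herm w w = 0 := by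
    rw [hw]; simp [herm_add_left, herm_add_right, herm_smul_left, herm_smul_right, P1.ee, P.ee, hue, heu]
  have hwe : herm w e = 0 := by rw [hw]; simp [herm_add_left, herm_smul_left, P.ee, hue]
  have hu' : e + (1 : F) • w = u := by
    rw [hw, one_smul, one_smul, add_comm u e, ← add_assoc, ← two_smul F e, CharTwo.two_eq_zero, zero_smul, zero_add]
  obtain ⟨a, ha, hprod⟩ := trans_pair hstar hww P.ee hwe h1s (1 : F) 0
    (by rw [hu']; exact P1.ee) (by rw [zero_smul, add_zero]; exact P.ee) (by rw [star_neg, h1s])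
  have hm' : eich hstar w ((1 * star ((1 : F) - 0)) • e) a ∈ cj y H := by
    rw [← hprod]
    convert hm using 2
    · exact eq_of_act fun x => by rw [act_trans, hu', ← trans_eq_eich hstar P1.ee h1s, act_trans]
    · exact eq_of_act fun x => by
        rw [act_trans, zel, ← trans_eq_eich hstar P.ee h1s, act_trans, CharTwo.neg_eq, zero_smul, add_zero]
  have hw0 : w ≠ 0 := fun h => by
    have h2 := congrArg (herm f) (hw ▸ h)
    simp [herm_add_right, (P.herm_W huW).2, P.fe, herm_zero_right] at h2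
  obtain ⟨c, hc⟩ := not_eich hF P hall (by omega) y hw0 ha hm'
  have h3 := congrArg (herm v) hc
  have hve : herm v e = 0 := (P.W_herm ⟨P1.supp_f i (by simp [Ne.symm hk.1, Ne.symm hl.1]), P1.supp_f j (by simp [Ne.symm hk.2, Ne.symm hl.2])⟩).1
  rw [hw] at h3
  simp [herm_add_right, herm_smul_right, P1.fe, hve] at h3
  rw [← h3, zero_smul, sub_zero, star_one, one_mul, one_smul] at hc
  exact Pair.ne_zero P hc

/-- No subgroup is regular at all points. -/
theorem not_regular (hF : Fintype.card F = q ^ 2) (P : Pair i j e f) (hn : 5 ≤ n) {H : Subgroup (Cfsg.SU n F q)}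
    (hall : ∀ g : Cfsg.SU n F q, Reg hstar P (cj g H)) : False := by
  rcases (show q = 2 ∨ 3 ≤ q by have := Hermitian.q_two_le hF; omega) with rfl | h
  · exact root_two hF P hn hall
  · exact root_large hF P hall hn h

end Cfsg.Agent.Small.UMinIndex
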