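import Cfsg.Agent.Lib.Small.UMinIndex.FourCover
import Cfsg.Agent.Lib.Small.UMinIndex.Root

/-!
Dimension four: no subgroup meets every point stabiliser as much as possible.
-/

set_option autoImplicit false
set_option linter.unusedSectionVars false
set_option linter.style.haveILetI false

namespace Cfsg.Agent.Small.UMinIndex

open Matrix Cfsg.Agent.Small.Unitary Cfsg.Agent.Small.UCover
open scoped commutatorElement

theorem comm_central {G : Type*} [Group G] {l1 l2 x y : G} (h1 : Commute x l1) (h2 : Commute x l2)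
    (h3 : Commute y l1) (h4 : Commute y l2) (h5 : Commute x y) : ⁅l1 * x, l2 * y⁆ = ⁅l1, l2⁆ := by
  simp only [commutatorElement_def, _root_.mul_inv_rev]
  calc l1 * x * (l2 * y) * (x⁻¹ * l1⁻¹) * (y⁻¹ * l2⁻¹)
      = l1 * (x * l2) * y * x⁻¹ * l1⁻¹ * y⁻¹ * l2⁻¹ := by group
    _ = l1 * l2 * (x * y) * x⁻¹ * l1⁻¹ * y⁻¹ * l2⁻¹ := by rw [h2.eq]; group
    _ = l1 * l2 * (y * l1⁻¹) * y⁻¹ * l2⁻¹ := by rw [h5.eq]; group
    _ = l1 * l2 * l1⁻¹ * l2⁻¹ := by rw [(h3.inv_right).eq]; group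

variable {F : Type*} [Field F] [Fintype F] [StarRing F] {q : ℕ} {i j : Fin 4} {e f : Fin 4 → F}

/-- Two root elements on a line as one. -/
theorem trans_line (hstar : ∀ x : F, star x = x ^ q) {e u : Fin 4 → F} (hee : herm e e = 0) (huu : herm u u = 0)
    (heu : herm e u = 0) {c : F} (hc : star c = -c) (γ : F) (hv : herm (u + γ • e) (u + γ • e) = 0) :
    ∃ _ : EOk e ((c * star γ) • u) (c * (star γ * γ)),
      trans hstar (u + γ • e) hv c hc = trans hstar u huu c hc * eich hstar e ((c * star γ) • u) (c * (star γ * γ)) := by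
  have hue : herm u e = 0 := by rw [← star_herm, heu, star_zero]
  have hok : EOk e ((c * star γ) • u) (c * (star γ * γ)) := by
    refine ⟨hee, by rw [herm_smul_right, heu, mul_zero], ?_⟩
    rw [herm_smul_left, herm_smul_right, huu, mul_zero, mul_zero, add_zero, star_mul', star_mul', star_star, hc]
    ring
  refine ⟨hok, eq_of_act fun x => ?_⟩
  rw [act_mul, act_trans, act_eich hstar hok, act_trans]
  simp only [herm_add_left, herm_add_right, herm_smul_left, herm_smul_right, huu, hue, star_mul', star_star, hc]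
  module

variable {hstar : ∀ x : F, star x = x ^ q}

theorem prm_cj_rad (P : Pair i j e f) {y : Cfsg.SU 4 F q} (hy : y ∈ rad hstar P) (K : Subgroup (Cfsg.SU 4 F q))
    {z : Fin 4 → F} : z ∈ prm hstar P (cj y K) ↔ z ∈ prm hstar P K := by
  have key : ∀ (y : Cfsg.SU 4 F q) (K : Subgroup (Cfsg.SU 4 F q)) (z : Fin 4 → F), y ∈ rad hstar P →
      z ∈ prm hstar P K → z ∈ prm hstar P (cj y K) := by
    rintro y K z hy ⟨hz, a, ha, hm⟩
    obtain ⟨a', ha', e'⟩ := conj_rad hstar P (rad_le_par P hy) hz ha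
    rw [rho_rad P hy hz] at ha' e'
    refine ⟨hz, a', ha', ?_⟩
    rw [← e', mem_cj]
    simpa [mul_assoc] using hm
  refine ⟨fun h => ?_, key y K z hy⟩
  have := key y⁻¹ (cj y K) z (inv_mem hy) h
  rwa [cj_cj, inv_mul_cancel, cj_one] at this

theorem mem_prmStab_of (P : Pair i j e f) {K : Subgroup (Cfsg.SU 4 F q)} {g : Cfsg.SU 4 F q} (hg : g ∈ par1 q P)
    (h : ∀ x ∈ prm hstar P K, rho e f g x ∈ prm hstar P K) : g ∈ prmStab hstar P K := by
  refine ⟨hg, h, fun x hx => ?_⟩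
  have hinj : Function.Injective fun z : prm hstar P K => (⟨_, h z.1 z.2⟩ : prm hstar P K) := by
    intro a b hab
    have h1 : rho e f g a.1 = rho e f g b.1 := congrArg Subtype.val hab
    have key : ∀ z ∈ prm hstar P K, rho e f g⁻¹ (rho e f g z) = z := fun z hz => by
      rw [← rho_mul hstar P (inv_mem hg) hg (prm_le P K hz), inv_mul_cancel, rho, sc, act_one, P.fe, star_one,
        one_smul, act_one, projW_of_mem P (prm_le P K hz)]
    exact Subtype.ext (by rw [← key a.1 a.2, h1, key b.1 b.2])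
  obtain ⟨w, hw⟩ := Finite.surjective_of_injective hinj ⟨x, hx⟩
  have h1 : rho e f g w.1 = x := congrArg Subtype.val hw
  rw [← h1, ← rho_mul hstar P (inv_mem hg) hg (prm_le P K w.2), inv_mul_cancel, rho, sc, act_one, P.fe, star_one,
    one_smul, act_one, projW_of_mem P (prm_le P K w.2)]
  exact w.2

theorem smul_real_mem (P : Pair i j e f) {K : Subgroup (Cfsg.SU 4 F q)} (hK : Shape hstar P K) {c : F}
    (hc : star c = c) {z : Fin 4 → F} (hz : z ∈ prm hstar P K) : c • z ∈ prm hstar P K := by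
  rcases hK with ⟨u, hu, hu0, huu, hA⟩ | ⟨-, u, v, hu, hv, huu, hvv, huv, hA⟩
  · obtain ⟨d, rfl⟩ := (hA z).1 hz
    exact (hA _).2 ⟨c * d, smul_smul _ _ _⟩
  · obtain ⟨h1, h2, h3⟩ := (hA z).1 hz
    exact (hA _).2 ⟨Submodule.smul_mem _ _ h1, by rw [herm_smul_right, star_mul', hc, h2],
      by rw [herm_smul_right, star_mul', hc, h3]⟩

theorem param_unique (P : Pair i j e f) {K : Subgroup (Cfsg.SU 4 F q)} (h0 : NoRoot hstar e K) {z : Fin 4 → F}
    {a b : F} (ha : EOk e z a) (hb : EOk e z b) (hma : eich hstar e z a ∈ K) (hmb : eich hstar e z b ∈ K) : a = b := by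
  obtain ⟨h1, h2⟩ := zel_split (hstar := hstar) P ha hb
  refine sub_eq_zero.1 (h0 _ h2 ?_)
  have h3 : zel hstar e (a - b) = eich hstar e z a * (eich hstar e z b)⁻¹ := by rw [h1, mul_inv_cancel_right]
  rw [h3]
  exact mul_mem hma (inv_mem hmb)

section Finite

variable (hF : Fintype.card F = q ^ 2) (P : Pair i j e f) {H : Subgroup (Cfsg.SU 4 F q)}
  (hall : ∀ g : Cfsg.SU 4 F q, Four hstar P (cj g H))
include hF hall

theorem root_all (g : Cfsg.SU 4 F q) {v : Fin 4 → F} (hv0 : v ≠ 0) (hv : herm v v = 0) {t : F}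
    (ht : star t = -t) (hm : zel hstar v t ∈ cj g H) : t = 0 := by
  obtain ⟨g', hg'⟩ := exists_move_point hstar hF P (by norm_num) hv0 hv
  subst hg'
  refine (hall (g'⁻¹ * g)).noRoot t ht ?_
  rwa [← cj_zel hstar g' P.ee ht, cj_cj, mul_inv_cancel_left]

theorem trans_not_mem (g : Cfsg.SU 4 F q) {v : Fin 4 → F} (hv0 : v ≠ 0) (hv : herm v v = 0) {t : F}
    (ht : star t = -t) (ht0 : t ≠ 0) (hm : trans hstar v hv t ht ∈ cj g H) : False :=
  ht0 (root_all hF P hall g hv0 hv ht (by rwa [zel, ← trans_eq_eich hstar hv ht]))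

/-- Lifts of the centraliser of an element without fixed vectors in the complement. -/
theorem four_lift (g : Cfsg.SU 4 F q) {t : Cfsg.SU 4 F q} (ht : t ∈ prmStab hstar P (cj g H))
    (hfp : ∀ z ∈ Wsub i j, rho e f t z = z → z = 0) :
    ∃ y ∈ rad hstar P, (∃ u : F, star u = -u ∧ t * zel hstar e u ∈ cj y (cj g H)) ∧
      ∀ l ∈ prmStab hstar P (cj g H), act l e = e → Commute t l →
        ∃ u : F, star u = -u ∧ l * zel hstar e u ∈ cj y (cj g H) := by
  classical
  obtain ⟨K, hK⟩ : ∃ K, K = cj g H := ⟨_, rfl⟩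
  rw [← hK] at ht ⊢
  have hKF : Four hstar P K := hK ▸ hall g
  have htP := prmStab_le P K ht
  obtain ⟨x, hx, htx⟩ := hKF.cover t ht
  obtain ⟨z, a, hz, ha, rfl⟩ := hx
  have hinv : ∀ w ∈ Wsub i j, rho e f t (rho e f t⁻¹ w) = w := fun w hw => by
    rw [← rho_mul hstar P htP (inv_mem htP) hw, mul_inv_cancel, rho, sc, act_one, P.fe, star_one, one_smul,
      act_one, projW_of_mem P hw]
  obtain ⟨w, hwz⟩ : ∃ w : (Wsub i j : Submodule F (Fin 4 → F)), w.1 - rho e f t⁻¹ w.1 = z := by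
    let D : ↥(Wsub i j : Submodule F (Fin 4 → F)) → ↥(Wsub i j : Submodule F (Fin 4 → F)) :=
      fun w => ⟨w.1 - rho e f t⁻¹ w.1, sub_mem w.2 (rho_mem P _ _)⟩
    have hD : Function.Injective D := by
      intro a b h
      have h1 : a.1 - rho e f t⁻¹ a.1 = b.1 - rho e f t⁻¹ b.1 := congrArg Subtype.val h
      have h2 : rho e f t⁻¹ (a.1 - b.1) = a.1 - b.1 := by
        have h3 : rho e f t⁻¹ (a.1 - b.1) + rho e f t⁻¹ b.1 = rho e f t⁻¹ a.1 := by rw [← rho_add, sub_add_cancel]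
        linear_combination (norm := module) h3 - h1
      refine Subtype.ext (sub_eq_zero.1 (hfp _ (sub_mem a.2 b.2) ?_))
      conv_lhs => rw [← h2, hinv _ (sub_mem a.2 b.2)]
    obtain ⟨w, hw⟩ := Finite.surjective_of_injective hD ⟨z, hz⟩
    exact ⟨w, congrArg Subtype.val hw⟩
  obtain ⟨b, hb⟩ := exists_param hstar hF P.ee (P.herm_W w.2).1
  obtain ⟨y, hy⟩ : ∃ y, y = eich hstar e w.1 b := ⟨_, rfl⟩
  have hyR : y ∈ rad hstar P := hy ▸ mem_rad P w.2 hb
  obtain ⟨b', hb', e'⟩ := conj_rad hstar P (inv_mem htP) w.2 hb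
  rw [inv_inv, ← hy] at e'
  have hsum : rho e f t⁻¹ w.1 + z = w.1 := by rw [← hwz]; abel
  obtain ⟨c, hc, hc'⟩ : ∃ c, EOk e w.1 c ∧ t⁻¹ * y * t * eich hstar e z a = eich hstar e w.1 c := by
    refine ⟨_, hsum ▸ hb'.add ha, ?_⟩
    rw [e', eich_mul hstar hb' ha, hsum]
  obtain ⟨h1, h2⟩ := zel_split (hstar := hstar) P hc hb
  have hk : t * zel hstar e (c - b) ∈ cj y K := by
    rw [mem_cj]
    have : y⁻¹ * (t * zel hstar e (c - b)) * y = t * eich hstar e z a := by
      rw [show zel hstar e (c - b) = t⁻¹ * y * t * eich hstar e z a * y⁻¹ by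
        rw [hc', h1, hy, mul_inv_cancel_right]]
      group
    rwa [this]
  refine ⟨y, hyR, ⟨_, h2, hk⟩, fun l hl hle hcomm => ?_⟩
  have hK' : Four hstar P (cj y K) := by rw [hK, cj_cj]; exact hall _
  have hA : ∀ z, z ∈ prm hstar P (cj y K) ↔ z ∈ prm hstar P K := fun z => prm_cj_rad P hyR K
  have hl' : l ∈ prmStab hstar P (cj y K) :=
    mem_prmStab_of P hl.1 fun x hx => (hA _).2 (hl.2.1 x ((hA x).1 hx))
  obtain ⟨x', hx', hlx⟩ := hK'.cover l hl'
  obtain ⟨z', a', hz', ha', rfl⟩ := hx'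
  obtain ⟨a'', ha'', e''⟩ := conj_rad hstar P htP hz' ha'
  have hconj : t * zel hstar e (c - b) * (l * eich hstar e z' a') * (t * zel hstar e (c - b))⁻¹ =
      l * eich hstar e (rho e f t z') a'' := by
    have c1 : Commute (zel hstar e (c - b)) (l * eich hstar e z' a') :=
      (zel_comm_fix P hle h2).mul_right (zel_commute P h2 (mem_rad P hz' ha'))
    rw [← e'', _root_.mul_inv_rev, mul_assoc t, c1.eq]
    rw [show l * (t * eich hstar e z' a' * t⁻¹) = l * t * eich hstar e z' a' * t⁻¹ by group, hcomm.symm.eq]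
    group
  have hin : (eich hstar e z' a')⁻¹ * eich hstar e (rho e f t z') a'' ∈ cj y K := by
    have := mul_mem (inv_mem hlx) (mul_mem (mul_mem hk hlx) (inv_mem hk))
    rw [hconj] at this
    simpa [mul_assoc] using this
  have hneg : EOk e (-z') (star a') := by
    refine ⟨P.ee, by rw [← neg_one_smul F z', herm_smul_right, ha'.2.1, mul_zero], ?_⟩
    rw [star_star, ← neg_one_smul F z', herm_smul_left, herm_smul_right, star_neg, star_one]
    linear_combination ha'.2.2
  have hinvE : (eich hstar e z' a')⁻¹ = eich hstar e (-z') (star a') := by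
    refine inv_eq_of_mul_eq_one_right ?_
    rw [eich_mul hstar ha' hneg, add_neg_cancel]
    convert eich_zero_zero hstar P.ee using 2
    rw [← neg_one_smul F z', herm_smul_right]
    linear_combination ha'.2.2
  rw [hinvE, eich_mul hstar hneg ha''] at hin
  have hd : -z' + rho e f t z' ∈ prm hstar P K :=
    (hA _).1 ⟨add_mem (neg_mem hz') (rho_mem P _ _), _, hneg.add ha'', hin⟩
  obtain ⟨z'', hz''A, hz''⟩ : ∃ z'' ∈ prm hstar P K, -z'' + rho e f t z'' = -z' + rho e f t z' := by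
    let D : prm hstar P K → prm hstar P K := fun z => ⟨-z.1 + rho e f t z.1, add_mem (neg_mem z.2) (ht.2.1 z.1 z.2)⟩
    have hD : Function.Injective D := by
      intro a b h
      have h1 : -a.1 + rho e f t a.1 = -b.1 + rho e f t b.1 := congrArg Subtype.val h
      have h3 : rho e f t (a.1 - b.1) + rho e f t b.1 = rho e f t a.1 := by rw [← rho_add, sub_add_cancel]
      exact Subtype.ext (sub_eq_zero.1 (hfp _ (sub_mem (prm_le P K a.2) (prm_le P K b.2))
        (by linear_combination (norm := module) h3 + h1)))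
    obtain ⟨u, hu⟩ := Finite.surjective_of_injective hD ⟨_, hd⟩
    exact ⟨u.1, u.2, congrArg Subtype.val hu⟩
  have hzz : z' = z'' := by
    have h3 : rho e f t (z' - z'') + rho e f t z'' = rho e f t z' := by rw [← rho_add, sub_add_cancel]
    exact sub_eq_zero.1 (hfp _ (sub_mem hz' (prm_le P K hz''A)) (by linear_combination (norm := module) h3 - hz''))
  obtain ⟨-, a3, ha3, hm3⟩ := (hA _).2 (neg_mem (hzz ▸ hz''A) : -z' ∈ prm hstar P K)
  have h4 := mul_mem hlx hm3
  rw [mul_assoc, eich_mul hstar ha' ha3, add_neg_cancel] at h4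
  have h5 := ha'.add ha3
  rw [add_neg_cancel] at h5
  exact ⟨_, (EOk_zero_iff P.ee).1 h5, h4⟩

theorem four_large (hq : 4 ≤ q) : False := by
  classical
  haveI : Fintype {s : F // star s = -s} := Fintype.ofFinite _
  obtain ⟨θ, hθ0, hθ⟩ := exists_skew hstar hF
  obtain ⟨lam, hl0, hl1, hl2, hls⟩ : ∃ lam : F, lam ≠ 0 ∧ lam ≠ 1 ∧ lam ≠ -1 ∧ star lam = lam := by
    by_contra! hc
    have h1 : Nat.card {s : F // star s = -s} ≤ Nat.card ({0, θ, -θ} : Finset F) :=
      Nat.card_le_card_of_injective (fun s => ⟨s.1, by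
        by_contra hm
        simp only [Finset.mem_insert, Finset.mem_singleton, not_or] at hm
        refine hc (s.1 / θ) (div_ne_zero hm.1 hθ0) (fun h => hm.2.1 ((div_eq_one_iff_eq hθ0).1 h))
          (fun h => hm.2.2 ?_) ?_
        · rw [div_eq_iff hθ0, neg_one_mul] at h; exact h
        · rw [star_div₀, s.2, hθ, neg_div_neg_eq]⟩) fun a b h => Subtype.ext (congrArg Subtype.val h :)
    rw [card_skew hstar hF, Nat.card_eq_finsetCard] at h1
    have := h1.trans Finset.card_le_three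
    omega
  obtain ⟨t, hte, -, htW, htc⟩ := exists_tor hstar P (n := 4) (μ := lam) (lam := 1)
    ⟨hl0, by simp, by rw [one_pow, one_pow, hls, mul_inv_cancel₀ hl0, one_mul]⟩
  have hrho : ∀ z ∈ Wsub i j, rho e f t z = lam • z := fun z hz => by
    rw [rho, sc, hte, herm_smul_right, P.fe, mul_one, hls, htW z hz, one_smul, projW_of_mem P hz]
  obtain ⟨K, hK⟩ : ∃ K, K = cj (1 : Cfsg.SU 4 F q) H := ⟨_, rfl⟩
  have hS : Shape hstar P K := hK ▸ (hall 1).shape
  have htS : t ∈ prmStab hstar P K := mem_prmStab_of P ⟨lam, hte⟩ fun x hx => by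
    rw [hrho x (prm_le P K hx)]; exact smul_real_mem P hS hls hx
  have hfp : ∀ z ∈ Wsub i j, rho e f t z = z → z = 0 := fun z hz h => by
    rw [hrho z hz] at h
    have : (lam - 1) • z = 0 := by rw [sub_smul, one_smul, h, sub_self]
    exact (smul_eq_zero.1 this).resolve_left (sub_ne_zero.2 hl1)
  obtain ⟨y, -, -, hlift⟩ := four_lift hF P hall 1 (hK ▸ htS) hfp
  rw [← hK] at hlift
  -- a pair adapted to the parameters
  obtain ⟨u, v, hu, hv, huu, hvv, huv, hu0, hsh⟩ : ∃ u v, u ∈ Wsub i j ∧ v ∈ Wsub i j ∧ herm u u = 0 ∧ herm v v = 0 ∧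
      herm u v = 1 ∧ u ≠ 0 ∧ ((∀ z, z ∈ prm hstar P K ↔ ∃ c : F, z = c • u) ∨
      ((2 : F) = 0 ∧ ∀ z, z ∈ prm hstar P K ↔ (z ∈ Wsub i j ∧ star (herm u z) = herm u z ∧ star (herm v z) = herm v z))) := by
    rcases hS with ⟨u, hu, hu0, huu, hA⟩ | ⟨h2, u, v, hu, hv, huu, hvv, huv, hA⟩
    · obtain ⟨v, hv, hvv, huv⟩ := exists_partner hstar hF P hu hu0 huu
      exact ⟨u, v, hu, hv, huu, hvv, huv, hu0, Or.inl hA⟩
    · exact ⟨u, v, hu, hv, huu, hvv, huv, fun h => zero_ne_one ((herm_zero_left v).symm.trans (h ▸ huv)), Or.inr ⟨h2, hA⟩⟩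
  have hvu : herm v u = 1 := by rw [← star_herm, huv, star_one]
  have hθi : star (-θ⁻¹) = -(-θ⁻¹) := by rw [star_neg, star_inv₀, hθ, inv_neg]
  obtain ⟨φ, hφ⟩ : ∃ φ, φ = lam / θ := ⟨_, rfl⟩
  have hφ0 : φ ≠ 0 := hφ ▸ div_ne_zero hl0 hθ0
  have hφs : star φ = -φ := by rw [hφ, star_div₀, hls, hθ, div_neg]
  have hφi : star (-φ⁻¹) = -(-φ⁻¹) := by rw [star_neg, star_inv₀, hφs, inv_neg]
  obtain ⟨d, hd⟩ : ∃ d, d = trans hstar v hvv (-φ⁻¹) hφi * trans hstar u huu φ hφs *
      (trans hstar u huu (-θ⁻¹) hθi * trans hstar v hvv θ hθ) := ⟨_, rfl⟩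
  have hde : act d e = e ∧ act d f = f := by
    rw [hd]
    constructor <;> simp only [act_mul, (fix_trans hstar P hu huu hφs).1, (fix_trans hstar P hv hvv hφi).1,
      (fix_trans hstar P hu huu hθi).1, (fix_trans hstar P hv hvv hθ).1, (fix_trans hstar P hu huu hφs).2,
      (fix_trans hstar P hv hvv hφi).2, (fix_trans hstar P hu huu hθi).2, (fix_trans hstar P hv hvv hθ).2]
  have hdu : act d u = lam • u := by
    have e1 : act (trans hstar u huu (-θ⁻¹) hθi * trans hstar v hvv θ hθ) u = θ • v := by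
      rw [act_mul, act_trans hstar v hvv, hvu, mul_one, act_add, act_smul, act_trans, act_trans, huu, huv, mul_zero,
        zero_smul, add_zero, mul_one, smul_add, smul_smul, ← add_assoc, add_right_comm, mul_neg, mul_inv_cancel₀ hθ0]
      module
    have e2 : act (trans hstar v hvv (-φ⁻¹) hφi * trans hstar u huu φ hφs) v = φ • u := by
      rw [act_mul, act_trans hstar u huu, huv, mul_one, act_add, act_smul, act_trans, act_trans, hvv, hvu, mul_zero,
        zero_smul, add_zero, mul_one, smul_add, smul_smul, ← add_assoc, add_right_comm, mul_neg, mul_inv_cancel₀ hφ0]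
      module
    rw [hd, act_mul, e1, act_smul, e2, smul_smul, hφ, mul_div_cancel₀ _ hθ0]
  obtain ⟨T, hT⟩ : ∃ T, T = trans hstar u huu θ hθ := ⟨_, rfl⟩
  have hTe : act T e = e ∧ act T f = f := hT ▸ fix_trans hstar P hu huu hθ
  have hmem : d ∈ prmStab hstar P K ∧ T ∈ prmStab hstar P K := by
    have one : ∀ l : Cfsg.SU 4 F q, act l e = e → act l f = f → (∀ x ∈ prm hstar P K, act l x ∈ prm hstar P K) →
        l ∈ prmStab hstar P K := fun l h1 h2 h3 => by
      obtain ⟨hP, hW⟩ := of_fix hstar P h1 h2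
      exact mem_prmStab_of P hP fun x hx => by rw [(hW x (prm_le P K hx)).2.1]; exact h3 x hx
    rcases hsh with hA | ⟨h2, hA⟩
    · refine ⟨one d hde.1 hde.2 fun x hx => ?_, one T hTe.1 hTe.2 fun x hx => ?_⟩
      · obtain ⟨c, rfl⟩ := (hA x).1 hx
        exact (hA _).2 ⟨c * lam, by rw [act_smul, hdu, smul_smul]⟩
      · obtain ⟨c, rfl⟩ := (hA x).1 hx
        exact (hA _).2 ⟨c, by rw [hT, act_smul, act_trans, huu, mul_zero, zero_smul, add_zero]⟩
    · haveI : CharP F 2 := CharTwo.of_one_ne_zero_of_two_eq_zero one_ne_zero h2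
      have real : ∀ (w : Fin 4 → F) (hww : herm w w = 0), (w = u ∨ w = v) → ∀ (c : F) (hc : star c = -c),
          trans hstar w hww c hc ∈ prmStab hstar P K := by
        intro w hww hw c hc
        have hwW : w ∈ Wsub i j := by rcases hw with rfl | rfl <;> assumption
        obtain ⟨h1, h2'⟩ := fix_trans hstar P hwW hww hc
        refine one _ h1 h2' fun x hx => ?_
        obtain ⟨hxW, hxu, hxv⟩ := (hA x).1 hx
        have hcr : star c = c := by rw [hc, CharTwo.neg_eq]
        rw [act_trans]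
        refine (hA _).2 ⟨add_mem hxW (Submodule.smul_mem _ _ hwW), ?_, ?_⟩ <;>
          rcases hw with rfl | rfl <;>
          simp [herm_add_right, herm_smul_right, huu, hvv, huv, hvu, hcr, hxu, hxv]
      refine ⟨hd ▸ mul_mem (mul_mem (real v hvv (Or.inr rfl) _ _) (real u huu (Or.inl rfl) _ _))
        (mul_mem (real u huu (Or.inl rfl) _ _) (real v hvv (Or.inr rfl) _ _)), hT ▸ real u huu (Or.inl rfl) _ _⟩
  obtain ⟨a1, hu1, hm1⟩ := hlift d hmem.1 hde.1 (htc d hde.1 hde.2)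
  obtain ⟨a2, hu2, hm2⟩ := hlift T hmem.2 hTe.1 (htc T hTe.1 hTe.2)
  have hcc : ⁅d * zel hstar e a1, T * zel hstar e a2⁆ = ⁅d, T⁆ :=
    comm_central (zel_comm_fix P hde.1 hu1) (zel_comm_fix P hTe.1 hu1) (zel_comm_fix P hde.1 hu2)
      (zel_comm_fix P hTe.1 hu2) (zel_commute P hu1 (zel_mem P hu2))
  have hts : star ((lam * lam - 1) * θ) = -((lam * lam - 1) * θ) := by
    rw [star_mul', star_sub, star_mul', hls, star_one, hθ]; ring
  have hcom : ⁅d, T⁆ = trans hstar u huu ((lam * lam - 1) * θ) hts := by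
    rw [hT, commutatorElement_def, conj_trans_scale hstar d u huu hdu, mul_inv_eq_iff_eq_mul, ← trans_add]
    refine eq_of_act fun x => ?_
    rw [act_trans, act_trans, hls]
    congr 2
    ring
  have hm : trans hstar u huu ((lam * lam - 1) * θ) hts ∈ cj (y * 1) H := by
    rw [← cj_cj, ← hK, ← hcom, ← hcc, commutatorElement_def]
    exact mul_mem (mul_mem (mul_mem hm1 hm2) (inv_mem hm1)) (inv_mem hm2)
  refine trans_not_mem hF P hall _ hu0 huu hts (mul_ne_zero (fun h => ?_) hθ0) hm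
  rcases mul_self_eq_one_iff.1 (sub_eq_zero.1 h) with h | h
  exacts [hl1 h, hl2 h]

/-- A line of parameters with a scalar of norm one. -/
theorem small_line (g : Cfsg.SU 4 F q) {u : Fin 4 → F} (hu : u ∈ Wsub i j) (hu0 : u ≠ 0) (huu : herm u u = 0)
    (hA : ∀ z, z ∈ prm hstar P (cj g H) ↔ ∃ c : F, z = c • u) {μ lam : F} (hT : TOk 4 μ lam)
    (hμ : star μ * μ = 1) (hs1 : star μ * lam ≠ 1)
    (hcalc : ∀ (K : Subgroup (Cfsg.SU 4 F q)), NoRoot hstar e K →
      (∀ c : F, ∃ a, EOk e (c • u) a ∧ eich hstar e (c • u) a ∈ K ∧ eich hstar e ((star μ * lam * c) • u) a ∈ K) →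
      ∀ c : F, eich hstar e (c • u) 0 ∈ K) : False := by
  classical
  obtain ⟨K, hK⟩ : ∃ K, K = cj g H := ⟨_, rfl⟩
  rw [← hK] at hA
  obtain ⟨t, hte, -, htW, htc⟩ := exists_tor hstar P hT
  have hrho : ∀ z ∈ Wsub i j, rho e f t z = (star μ * lam) • z := fun z hz => by
    rw [rho, sc, hte, herm_smul_right, P.fe, mul_one, htW z hz, projW_of_mem P (Submodule.smul_mem _ _ hz), smul_smul]
  have htS : t ∈ prmStab hstar P K := mem_prmStab_of P ⟨μ, hte⟩ fun x hx => by
    obtain ⟨c, rfl⟩ := (hA x).1 hx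
    rw [hrho _ (Submodule.smul_mem _ _ hu), smul_smul]
    exact (hA _).2 ⟨_, rfl⟩
  have hfp : ∀ z ∈ Wsub i j, rho e f t z = z → z = 0 := fun z hz h => by
    rw [hrho z hz] at h
    have : (star μ * lam - 1) • z = 0 := by rw [sub_smul, one_smul, h, sub_self]
    exact (smul_eq_zero.1 this).resolve_left (sub_ne_zero.2 hs1)
  obtain ⟨y, hy, ⟨ε, hε, hh⟩, hlift⟩ := four_lift hF P hall g (hK ▸ htS) hfp
  rw [← hK] at hh hlift
  have hK' : cj y K = cj (y * g) H := by rw [hK, cj_cj]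
  have h0 : NoRoot hstar e (cj y K) := hK' ▸ (hall _).noRoot
  have hzero : ∀ c : F, eich hstar e (c • u) 0 ∈ cj y K := hcalc _ h0 fun c => by
    obtain ⟨-, a, ha, hm⟩ := (prm_cj_rad P hy K).2 ((hA _).2 ⟨c, rfl⟩ : c • u ∈ prm hstar P K)
    refine ⟨a, ha, hm, ?_⟩
    obtain ⟨ha2, e2⟩ := conj_eich hstar t ha
    rw [hte, act_smul, htW u hu, smul_smul] at ha2 e2
    have hμ0 : μ ≠ 0 := fun h => by rw [h, mul_zero] at hμ; exact zero_ne_one hμ
    rw [eich_smul hstar ha2 hμ0, smul_smul, hμ, one_mul] at e2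
    have hc : t * zel hstar e ε * eich hstar e (c • u) a * (t * zel hstar e ε)⁻¹ =
        t * eich hstar e (c • u) a * t⁻¹ := by
      rw [_root_.mul_inv_rev, mul_assoc t, (zel_commute P hε (mem_rad P (Submodule.smul_mem _ _ hu) ha)).eq]
      group
    rw [show star μ * lam * c = star μ * (c * lam) by ring, ← e2, ← hc]
    exact mul_mem (mul_mem hh hm) (inv_mem hh)
  obtain ⟨θ, hθ0, hθ⟩ := exists_skew hstar hF
  obtain ⟨hTe, hTf⟩ := fix_trans hstar P hu huu hθ
  obtain ⟨hTP, hTW⟩ := of_fix hstar P hTe hTf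
  have hTS : trans hstar u huu θ hθ ∈ prmStab hstar P K := mem_prmStab_of P hTP fun x hx => by
    obtain ⟨c, rfl⟩ := (hA x).1 hx
    rw [(hTW _ (Submodule.smul_mem _ _ hu)).2.1, act_trans, herm_smul_right, huu, mul_zero, mul_zero, zero_smul, add_zero]
    exact hx
  obtain ⟨η, hη, hm⟩ := hlift _ hTS hTe (htc _ hTe hTf)
  by_cases hη0 : η = 0
  · rw [hη0, show zel hstar e (0 : F) = 1 from eich_zero_zero hstar P.ee, mul_one, hK'] at hm
    exact trans_not_mem hF P hall _ hu0 huu hθ hθ0 hm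
  · obtain ⟨γ, -, hγ⟩ := Hermitian.exists_norm hstar hF (a := η / θ) (div_ne_zero hη0 hθ0)
      (by rw [star_div₀, hη, hθ, neg_div_neg_eq])
    have hue : herm u e = 0 := (P.W_herm hu).1
    have heu : herm e u = 0 := (P.herm_W hu).1
    have hv : herm (u + γ • e) (u + γ • e) = 0 := by
      simp [herm_add_left, herm_add_right, herm_smul_left, herm_smul_right, huu, P.ee, hue, heu]
    obtain ⟨-, he⟩ := trans_line hstar P.ee huu heu hθ γ hv
    have hok : EOk e ((θ * star γ) • u) 0 := ⟨P.ee, by rw [herm_smul_right, heu, mul_zero], by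
      rw [herm_smul_left, herm_smul_right, huu]; simp⟩
    have hprod : zel hstar e η * eich hstar e ((θ * star γ) • u) 0 =
        eich hstar e ((θ * star γ) • u) (θ * (star γ * γ)) := by
      rw [zel, eich_mul hstar ((EOk_zero_iff P.ee).2 hη) hok, zero_add, herm_zero_left, sub_zero, add_zero, hγ,
        mul_div_cancel₀ _ hθ0]
    have hne : u + γ • e ≠ 0 := fun h => hu0 (by
      have h1 : γ • e = -u := eq_neg_of_add_eq_zero_right h
      have h2 := congrArg (herm f) h1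
      rw [herm_smul_right, P.fe, ← neg_one_smul F u, herm_smul_right, (P.herm_W hu).2, mul_zero, mul_one] at h2
      rwa [h2, zero_smul, add_zero] at h)
    refine trans_not_mem hF P hall (y * g) hne hv hθ hθ0 ?_
    rw [← hK', he, ← hprod, ← mul_assoc]
    exact mul_mem hm (hzero _)

end Finite

end Cfsg.Agent.Small.UMinIndex
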