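import Cfsg.Agent.Lib.Small.UMinIndex.FourRoot

/-!
Dimension four over the small fields.
-/

set_option autoImplicit false
set_option linter.unusedSectionVars false
set_option linter.style.haveILetI false

namespace Cfsg.Agent.Small.UMinIndex

open Matrix Cfsg.Agent.Small.Unitary Cfsg.Agent.Small.UCover

variable {F : Type*} [Field F] [Fintype F] [StarRing F] {i j : Fin 4} {e f : Fin 4 → F}

theorem four_three {hstar : ∀ x : F, star x = x ^ 3} (hF : Fintype.card F = 3 ^ 2) (P : Pair i j e f)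
    {H : Subgroup (Cfsg.SU 4 F 3)} (hall : ∀ g : Cfsg.SU 4 F 3, Four hstar P (cj g H)) : False := by
  have h9 : ((Fintype.card F : ℕ) : F) = 0 := FiniteField.cast_card_eq_zero F
  rw [hF] at h9
  have h2 : (2 : F) ≠ 0 := fun h => one_ne_zero (α := F) (by push_cast at h9; linear_combination h9 - 4 * h)
  rcases (hall 1).shape with ⟨u, hu, hu0, huu, hA⟩ | ⟨h, -⟩
  swap
  · exact h2 h
  refine small_line hF P hall 1 hu hu0 huu hA (μ := -1) (lam := 1) ⟨by simp, by simp, by simp⟩ (by simp)
    (fun h => h2 (by rw [star_neg, star_one, mul_one] at h; linear_combination -h)) ?_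
  intro K h0 hK c
  obtain ⟨a, ha, hm, hm'⟩ := hK c
  rw [show (star (-1 : F) * 1 * c) = -c by simp] at hm'
  have hz : herm (c • u) (c • u) = 0 := by rw [herm_smul_left, herm_smul_right, huu]; ring
  have ha' : EOk e ((-c) • u) a := ⟨P.ee, by rw [herm_smul_right, (P.herm_W hu).1, mul_zero], by
    have h3 := ha.2.2
    rw [hz] at h3
    rw [herm_smul_left, herm_smul_right, huu]
    linear_combination h3⟩
  have h3 := ha.2.2
  rw [hz] at h3
  have hp := mul_mem hm hm'
  rw [eich_mul hstar ha ha', neg_smul, add_neg_cancel, ← neg_smul, herm_smul_left, herm_smul_right, huu, mul_zero,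
    mul_zero, sub_zero] at hp
  have h4 := h0 (a + a) (by rw [star_add]; linear_combination (2 : F) * h3) hp
  have ha0 : a = 0 := by
    have h5 : (2 : F) * a = 0 := by linear_combination h4
    exact (mul_eq_zero.1 h5).resolve_left h2
  exact ha0 ▸ hm

section Two

variable {hstar : ∀ x : F, star x = x ^ 2} (hF : Fintype.card F = 2 ^ 2) (P : Pair i j e f)
  {H : Subgroup (Cfsg.SU 4 F 2)} (hall : ∀ g : Cfsg.SU 4 F 2, Four hstar P (cj g H))
include hF hall

theorem two_line (g : Cfsg.SU 4 F 2) {u : Fin 4 → F} (hu : u ∈ Wsub i j) (hu0 : u ≠ 0) (huu : herm u u = 0)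
    (hA : ∀ z, z ∈ prm hstar P (cj g H) ↔ ∃ c : F, z = c • u) : False := by
  haveI : CharP F 2 := char_two (hstar := hstar) hF
  obtain ⟨ω, hω1, hω⟩ := exists_norm_one_ne hstar hF
  have hω0 : ω ≠ 0 := fun h => by rw [h, mul_zero] at hω; exact zero_ne_one hω
  have h3 := cube_eq_one (hstar := hstar) hF hω0
  have hs : star ω = ω ^ 2 := hstar ω
  have hsω : star ω * ω ^ 2 = ω := by rw [hs]; linear_combination ω * h3
  refine small_line hF P hall g hu hu0 huu hA (μ := ω) (lam := ω ^ 2) ⟨hω0, norm_two (hstar := hstar) hF (pow_ne_zero 2 hω0), ?_⟩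
    (norm_two (hstar := hstar) hF hω0) (by rw [hsω]; exact hω1) ?_
  · rw [hs]
    field_simp
    first | linear_combination h3 | linear_combination -h3
  intro K h0 hK c
  obtain ⟨c', hc'⟩ : ∃ c', c' + ω * c' = c := ⟨c / (1 + ω), by
    have : 1 + ω ≠ 0 := fun h => hω1 (by
      rw [add_comm, add_eq_zero_iff_eq_neg, CharTwo.neg_eq] at h; exact h)
    field_simp⟩
  obtain ⟨a, ha, hm, hm'⟩ := hK c'
  rw [hsω] at hm'
  have ha' : EOk e ((ω * c') • u) a := ⟨P.ee, by rw [herm_smul_right, (P.herm_W hu).1, mul_zero], by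
    have h4 := ha.2.2
    rw [herm_smul_left, herm_smul_right, huu] at h4 ⊢
    linear_combination h4⟩
  have hp := mul_mem hm hm'
  rw [eich_mul hstar ha ha', ← add_smul, hc', herm_smul_left, herm_smul_right, huu, mul_zero, mul_zero, sub_zero,
    CharTwo.add_self_eq_zero] at hp
  exact hp

theorem eich_to_prm (K : Subgroup (Cfsg.SU 4 F 2)) (g : Cfsg.SU 4 F 2) {z : Fin 4 → F} {a : F}
    (h : EOk (act g e) z a) (hm : eich hstar (act g e) z a ∈ K) :
    projW e f (act g⁻¹ z) ∈ prm hstar P (cj g⁻¹ K) := by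
  obtain ⟨h1, h2⟩ := conj_eich hstar g⁻¹ h
  rw [act_inv_act] at h1 h2
  rw [inv_inv] at h2
  have hm' : eich hstar e (act g⁻¹ z) a ∈ cj g⁻¹ K := by
    rw [mem_cj, inv_inv, ← h2]
    simpa [mul_assoc] using hm
  have hdec : act g⁻¹ z = projW e f (act g⁻¹ z) + herm f (act g⁻¹ z) • e := by
    conv_lhs => rw [eq_projW_add e f (act g⁻¹ z), h1.2.1, zero_smul, add_zero, add_comm]
  rw [hdec] at h1 hm'
  have h3 := h1.shift (-(herm f (act g⁻¹ z)))
  rw [neg_smul, add_neg_cancel_right] at h3
  rw [eich_shift hstar _ h3] at hm'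
  exact ⟨P.projW_mem _, _, ⟨h3.1, h3.2.1, by rw [star_sub, star_add, star_star]; linear_combination h3.2.2⟩, hm'⟩

theorem two_plane {u v : Fin 4 → F} (hu : u ∈ Wsub i j) (hv : v ∈ Wsub i j) (huu : herm u u = 0)
    (hvv : herm v v = 0) (huv : herm u v = 1)
    (hA : ∀ z, z ∈ prm hstar P (cj (1 : Cfsg.SU 4 F 2) H) ↔
      (z ∈ Wsub i j ∧ star (herm u z) = herm u z ∧ star (herm v z) = herm v z)) : False := by
  classical
  haveI : CharP F 2 := char_two (hstar := hstar) hF
  have h2 : (2 : F) = 0 := CharTwo.two_eq_zero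
  have hww : ∀ w : Fin 4 → F, w + w = 0 := fun w => by rw [← two_smul F w, h2, zero_smul]
  have hone : ∀ c : F, star c = c → c = 0 ∨ c = 1 := fun c hc =>
    skew_two (hstar := hstar) hF (by rw [hc, CharTwo.neg_eq])
  obtain ⟨ω, hω1, hω⟩ := exists_norm_one_ne hstar hF
  have hω0 : ω ≠ 0 := fun h => by rw [h, mul_zero] at hω; exact zero_ne_one hω
  have h3 := cube_eq_one (hstar := hstar) hF hω0
  have hωω : ω ^ 2 + ω + 1 = 0 := by
    have h4 : (ω - 1) * (ω ^ 2 + ω + 1) = 0 := by linear_combination h3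
    exact (mul_eq_zero.1 h4).resolve_left (sub_ne_zero.2 hω1)
  have hω1' : 1 + ω ≠ 0 := fun h => hω1 (by rw [add_comm, add_eq_zero_iff_eq_neg, CharTwo.neg_eq] at h; exact h)
  have hvu : herm v u = 1 := by rw [← star_herm, huv, star_one]
  have h1s : star (1 : F) = -1 := by rw [star_one, CharTwo.neg_eq]
  have hu0 : u ≠ 0 := fun h => zero_ne_one ((herm_zero_left v).symm.trans (h ▸ huv))
  have hue : herm u e = 0 := (P.W_herm hu).1
  have heu : herm e u = 0 := (P.herm_W hu).1
  obtain ⟨t, ht⟩ : ∃ t, t = trans hstar u huu 1 h1s * trans hstar v hvv 1 h1s := ⟨_, rfl⟩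
  have hte : act t e = e := by rw [ht, act_mul, (fix_trans hstar P hv hvv h1s).1, (fix_trans hstar P hu huu h1s).1]
  have htf : act t f = f := by rw [ht, act_mul, (fix_trans hstar P hv hvv h1s).2, (fix_trans hstar P hu huu h1s).2]
  have htu : act t u = v := by
    rw [ht, act_mul, act_trans hstar v hvv, hvu, mul_one, one_smul, act_add, act_trans, act_trans, huu, huv, mul_zero,
      zero_smul, add_zero, mul_one, one_smul, add_comm v u, ← add_assoc, hww u, zero_add]
  have htv : act t v = v + u := by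
    rw [ht, act_mul, act_trans hstar v hvv, hvv, mul_zero, zero_smul, add_zero, act_trans, huv, mul_one, one_smul]
  obtain ⟨htP, htW⟩ := of_fix hstar P hte htf
  have hdec : ∀ z ∈ Wsub i j, z = herm v z • u + herm u z • v := fun z hz => plane_span hstar hF P hu hv huu hvv huv hz
  have hfp : ∀ z ∈ Wsub i j, rho e f t z = z → z = 0 := fun z hz h => by
    rw [(htW z hz).2.1] at h
    obtain ⟨α, hα⟩ : ∃ α, α = herm v z := ⟨_, rfl⟩
    obtain ⟨β, hβ⟩ : ∃ β, β = herm u z := ⟨_, rfl⟩
    have hz' := hdec z hz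
    rw [← hα, ← hβ] at hz'
    rw [hz', act_add, act_smul, act_smul, htu, htv] at h
    have e1 := congrArg (herm v) h
    have e2 := congrArg (herm u) h
    simp [herm_add_right, herm_smul_right, huu, hvv, huv, hvu] at e1 e2
    subst e1
    rw [hz', e2, zero_smul, zero_smul, add_zero]
  have hmemu : u ∈ prm hstar P (cj (1 : Cfsg.SU 4 F 2) H) :=
    (hA u).2 ⟨hu, by rw [huu, star_zero], by rw [hvu, star_one]⟩
  have htS : t ∈ prmStab hstar P (cj (1 : Cfsg.SU 4 F 2) H) := mem_prmStab_of P htP fun x hx => by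
    obtain ⟨hxW, hxu, hxv⟩ := (hA x).1 hx
    rw [(htW x hxW).2.1]
    refine (hA _).2 ⟨(htW x hxW).1, ?_, ?_⟩ <;>
      rw [hdec x hxW, act_add, act_smul, act_smul, htu, htv] <;>
      simp [herm_add_right, herm_smul_right, huu, hvv, huv, hvu, hxu, hxv]
  obtain ⟨y, hy, ⟨ε, hε, hh⟩, -⟩ := four_lift hF P hall 1 htS hfp
  obtain ⟨g0, hg0⟩ : ∃ g0, g0 = y * 1 := ⟨_, rfl⟩
  rw [cj_cj, ← hg0] at hh
  have hA' : ∀ z, z ∈ prm hstar P (cj g0 H) ↔
      (z ∈ Wsub i j ∧ star (herm u z) = herm u z ∧ star (herm v z) = herm v z) := fun z => by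
    rw [hg0, ← cj_cj, prm_cj_rad P hy, hA]
  obtain ⟨K, hK⟩ : ∃ K, K = cj g0 H := ⟨_, rfl⟩
  rw [← hK] at hh hA'
  have hKF : Four hstar P K := hK ▸ hall g0
  have h0 := hKF.noRoot
  have hconj : ∀ {z : Fin 4 → F} {a : F}, z ∈ Wsub i j → EOk e z a → eich hstar e z a ∈ K →
      EOk e (act t z) a ∧ eich hstar e (act t z) a ∈ K := by
    intro z a hz ha hm
    obtain ⟨ha', e'⟩ := conj_eich hstar t ha
    rw [hte] at ha' e'
    refine ⟨ha', ?_⟩
    have hc : t * zel hstar e ε * eich hstar e z a * (t * zel hstar e ε)⁻¹ = t * eich hstar e z a * t⁻¹ := by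
      rw [_root_.mul_inv_rev, mul_assoc t, (zel_commute P hε (mem_rad P hz ha)).eq]
      group
    rw [← e', ← hc]
    exact mul_mem (mul_mem hh hm) (inv_mem hh)
  obtain ⟨hu1, hv1⟩ : (EOk e u 1 ∧ eich hstar e u 1 ∈ K) ∧ (EOk e v 1 ∧ eich hstar e v 1 ∈ K) := by
    obtain ⟨-, a, ha, hm⟩ := (hA' u).2 ⟨hu, by rw [huu, star_zero], by rw [hvu, star_one]⟩
    obtain ⟨ha1, hm1⟩ := hconj hu ha hm
    rw [htu] at ha1 hm1
    obtain ⟨ha2, hm2⟩ := hconj hv ha1 hm1
    rw [htv, add_comm v u] at ha2 hm2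
    have hp := mul_mem hm hm1
    rw [eich_mul hstar ha ha1, huv, CharTwo.add_self_eq_zero, zero_sub, CharTwo.neg_eq] at hp
    have hp' := ha.add ha1
    rw [huv, CharTwo.add_self_eq_zero, zero_sub, CharTwo.neg_eq] at hp'
    obtain rfl := param_unique P h0 ha2 hp' hm2 hp
    exact ⟨⟨ha, hm⟩, ha1, hm1⟩
  obtain ⟨T, hT⟩ : ∃ T, T = trans hstar u huu 1 h1s := ⟨_, rfl⟩
  have hTe : act T e = e ∧ act T f = f := hT ▸ fix_trans hstar P hu huu h1s
  obtain ⟨hTP, hTW⟩ := of_fix hstar P hTe.1 hTe.2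
  have hTS : T ∈ prmStab hstar P K := mem_prmStab_of P hTP fun x hx => by
    obtain ⟨hxW, hxu, hxv⟩ := (hA' x).1 hx
    rw [(hTW x hxW).2.1, hT, act_trans, one_mul]
    exact (hA' _).2 ⟨add_mem hxW (Submodule.smul_mem _ _ hu), by simp [herm_add_right, herm_smul_right, huu, hxu],
      by simp [herm_add_right, herm_smul_right, hvu, hxu, hxv]⟩
  have hTT : T * T = 1 := eq_of_act fun x => by
    rw [act_mul, hT, act_trans, act_trans, act_one, herm_add_right, herm_smul_right, huu, mul_zero, add_zero,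
      add_assoc, hww, add_zero]
  obtain ⟨x', hx', hTx⟩ := hKF.cover T hTS
  obtain ⟨w, b, hw, hb, rfl⟩ := hx'
  have hwA : star (herm u w) = herm u w := by
    obtain ⟨hb', e'⟩ := conj_eich hstar T hb
    rw [hTe.1] at hb' e'
    have hsq := mul_mem hTx hTx
    rw [show T * eich hstar e w b * (T * eich hstar e w b) = T * eich hstar e w b * T⁻¹ * eich hstar e w b by
      rw [inv_eq_of_mul_eq_one_right hTT, mul_assoc _ T], e', eich_mul hstar hb' hb] at hsq
    have hTw : act T w + w = herm u w • u := by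
      rw [hT, act_trans, one_mul, add_comm w, add_assoc, hww, add_zero]
    obtain ⟨-, -, h4⟩ := (hA' _).1 ⟨hTw ▸ Submodule.smul_mem _ _ hu, _, hb'.add hb, hsq⟩
    rw [hTw, herm_smul_right, hvu, mul_one] at h4
    exact h4
  obtain ⟨α, b1, hb1, hTb⟩ : ∃ α b1, EOk e (α • u) b1 ∧ T * eich hstar e (α • u) b1 ∈ K := by
    rcases hone _ hwA with h | h
    · have hd := hdec w hw
      rw [h, zero_smul, add_zero] at hd
      exact ⟨_, b, hd ▸ hb, hd ▸ hTx⟩
    · have hd : w + v = herm v w • u := by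
        conv_lhs => rw [hdec w hw, h, one_smul, add_assoc, hww, add_zero]
      have hm := mul_mem hTx hv1.2
      rw [mul_assoc, eich_mul hstar hb hv1.1, hd] at hm
      exact ⟨_, _, hd ▸ hb.add hv1.1, hm⟩
  have finish : ∀ γ : F, T * eich hstar e ((1 * star γ) • u) (1 * (star γ * γ)) ∈ K → False := by
    intro γ hm
    have hv' : herm (u + γ • e) (u + γ • e) = 0 := by
      simp [herm_add_left, herm_add_right, herm_smul_left, herm_smul_right, huu, P.ee, hue, heu]
    obtain ⟨-, he⟩ := trans_line hstar P.ee huu heu h1s γ hv'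
    have hne : u + γ • e ≠ 0 := fun h => hu0 (by
      have h1 : γ • e = -u := eq_neg_of_add_eq_zero_right h
      have h2 := congrArg (herm f) h1
      rw [herm_smul_right, P.fe, ← neg_one_smul F u, herm_smul_right, (P.herm_W hu).2, mul_zero, mul_one] at h2
      rwa [h2, zero_smul, add_zero] at h)
    refine trans_not_mem hF P hall g0 hne hv' h1s one_ne_zero ?_
    rw [← hK, he, ← hT]
    exact hm
  obtain ⟨η, hη, hTη⟩ : ∃ η : F, star η = -η ∧ T * zel hstar e η ∈ K := by
    have hshift : ∀ β b2 : F, EOk e (β • u) b2 → T * eich hstar e (β • u) b2 ∈ K →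
        ∃ b3, EOk e ((β + 1) • u) b3 ∧ T * eich hstar e ((β + 1) • u) b3 ∈ K := fun β b2 hb2 hm => by
      have hm' := mul_mem hm hu1.2
      rw [mul_assoc, eich_mul hstar hb2 hu1.1] at hm'
      have hs : β • u + u = (β + 1) • u := by rw [add_smul, one_smul]
      exact ⟨_, hs ▸ hb2.add hu1.1, hs ▸ hm'⟩
    have hom : ∀ b2 : F, EOk e (ω • u) b2 → T * eich hstar e (ω • u) b2 ∈ K → False := by
      intro b2 hb2 hm
      have hb3 := hb2.2.2
      rw [herm_smul_left, herm_smul_right, huu, mul_zero, mul_zero, add_zero] at hb3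
      rcases skew_two (hstar := hstar) hF (u := b2) (by linear_combination hb3) with rfl | rfl
      · refine finish (star (ω + 1)) ?_
        have hm' := mul_mem hm hu1.2
        rw [mul_assoc, eich_mul hstar hb2 hu1.1, herm_smul_left, huu, mul_zero, sub_zero, zero_add,
          show ω • u + u = (ω + 1) • u by rw [add_smul, one_smul]] at hm'
        rw [star_star, one_mul, one_mul, mul_comm, norm_two (hstar := hstar) hF (by rw [add_comm]; exact hω1')]
        exact hm'
      · refine finish (star ω) ?_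
        rw [star_star, one_mul, one_mul, mul_comm, hω]
        exact hm
    rcases f4_cases (hstar := hstar) hF hω0 hω1 α with rfl | rfl | rfl | rfl
    · rw [zero_smul] at hb1 hTb
      exact ⟨b1, (EOk_zero_iff P.ee).1 hb1, hTb⟩
    · obtain ⟨b3, hb3, hm3⟩ := hshift _ _ hb1 hTb
      rw [show (1 : F) + 1 = 0 from CharTwo.add_self_eq_zero 1, zero_smul] at hb3 hm3
      exact ⟨b3, (EOk_zero_iff P.ee).1 hb3, hm3⟩
    · exact (hom _ hb1 hTb).elim
    · obtain ⟨b3, hb3, hm3⟩ := hshift _ _ hb1 hTb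
      rw [show (1 : F) + ω + 1 = ω by linear_combination h2] at hb3 hm3
      exact (hom _ hb3 hm3).elim
  rcases skew_two (hstar := hstar) hF hη with rfl | rfl
  · rw [show zel hstar e (0 : F) = 1 from eich_zero_zero hstar P.ee, mul_one, hT, hK] at hTη
    exact trans_not_mem hF P hall g0 hu0 huu h1s one_ne_zero hTη
  -- a third point of the line gets a line of parameters
  obtain ⟨p, hp⟩ : ∃ p, p = u + ω • e := ⟨_, rfl⟩
  have hpp : herm p p = 0 := by
    rw [hp]; simp [herm_add_left, herm_add_right, herm_smul_left, herm_smul_right, huu, P.ee, hue, heu]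
  have hpe : herm p e = 0 := by rw [hp]; simp [herm_add_left, herm_smul_left, P.ee, hue]
  have hp0 : p ≠ 0 := fun h => by
    have h4 := congrArg (herm v) (hp ▸ h)
    simp [herm_add_right, herm_smul_right, hvu, (P.W_herm hv).1, herm_zero_right] at h4
  obtain ⟨g, hg⟩ := exists_move_point hstar hF P (by norm_num) hp0 hpp
  subst hg
  have hline : ∀ s s' : F, ∀ (hs : herm (e + s • act g e) (e + s • act g e) = 0)
      (hs' : herm (e + s' • act g e) (e + s' • act g e) = 0),
      trans hstar (e + s • act g e) hs 1 h1s * trans hstar (e + s' • act g e) hs' 1 h1s ∈ K →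
      projW e f (act g⁻¹ ((star (s - s')) • e)) ∈ prm hstar P (cj g⁻¹ K) := by
    intro s s' hs hs' hm
    obtain ⟨a, ha, hprod⟩ := trans_pair hstar hpp P.ee hpe h1s s s' hs hs' (by rw [star_neg, h1s])
    rw [one_mul] at ha hprod
    refine eich_to_prm hF P hall K g ha ?_
    rw [← hprod]
    convert hm using 2
    exact eq_of_act fun x => by rw [act_trans, act_trans, CharTwo.neg_eq]
  have hs0 : ∀ s : F, herm (e + s • act g e) (e + s • act g e) = 0 := fun s => by
    simp [herm_add_left, herm_add_right, herm_smul_left, herm_smul_right, hpp, P.ee, hpe,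
      show herm e (act g e) = 0 by rw [← star_herm, hpe, star_zero]]
  have hscale : ∀ (w : Fin 4 → F) (hw : herm w w = 0) (c : F) (hc : c ≠ 0) (w' : Fin 4 → F) (hw' : herm w' w' = 0),
      w' = c • w → trans hstar w' hw' 1 h1s = trans hstar w hw 1 h1s := by
    rintro w hw c hc w' hw' rfl
    refine eq_of_act fun x => ?_
    rw [act_trans, act_trans, herm_smul_left, smul_smul, one_mul, one_mul, mul_comm (star c) (herm w x), mul_assoc,
      norm_two (hstar := hstar) hF hc, mul_one]
  have hsω : star ω = ω ^ 2 := hstar ω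
  have hz1 : projW e f (act g⁻¹ (ω • e)) ∈ prm hstar P (cj g⁻¹ K) := by
    have h := hline (ω ^ 2) 0 (hs0 _) (hs0 _) ?_
    · rwa [sub_zero, show star (ω ^ 2) = ω by rw [star_pow, hsω]; linear_combination ω * h3] at h
    · convert hTη using 2
      · rw [hT]
        refine hscale u huu (ω ^ 2) (pow_ne_zero 2 hω0) _ _ ?_
        rw [hp, smul_add, smul_smul, show ω ^ 2 * ω = 1 by linear_combination h3, one_smul, add_comm, add_assoc, hww, add_zero]
      · rw [zel, ← trans_eq_eich hstar P.ee h1s]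
        exact eq_of_act fun x => by rw [act_trans, act_trans, zero_smul, add_zero]
  have hz2 : projW e f (act g⁻¹ e) ∈ prm hstar P (cj g⁻¹ K) := by
    have h := hline (ω ^ 2) ω (hs0 _) (hs0 _) ?_
    · rwa [show ω ^ 2 - ω = 1 by linear_combination hωω - (ω + 1) * h2, star_one, one_smul] at h
    · have hue' : herm (u + (1 : F) • e) (u + (1 : F) • e) = 0 := by
        simp [herm_add_left, herm_add_right, herm_smul_left, herm_smul_right, huu, P.ee, hue, heu]
      obtain ⟨-, he⟩ := trans_line hstar P.ee huu heu h1s (1 : F) hue'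
      have he' := he.trans (show _ = trans hstar u huu 1 h1s * eich hstar e u 1 by
        rw [star_one, mul_one, one_mul, one_smul])
      convert hu1.2 using 1
      rw [hscale u huu (ω ^ 2) (pow_ne_zero 2 hω0) (e + ω ^ 2 • act g e) (hs0 _) (by
        rw [hp, smul_add, smul_smul, show ω ^ 2 * ω = 1 by linear_combination h3, one_smul, add_comm, add_assoc,
          hww, add_zero]),
        hscale (u + (1 : F) • e) hue' ω hω0 (e + ω • act g e) (hs0 _) (by
          rw [hp, one_smul, smul_add, smul_add, smul_smul, show ω * ω = ω + 1 by linear_combination hωω - (ω + 1) * h2,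
            add_smul, one_smul]
          linear_combination (norm := module) hww e), he', ← hT, ← mul_assoc, hTT, one_mul]
  obtain ⟨z0, hz0⟩ : ∃ z0, z0 = projW e f (act g⁻¹ e) := ⟨_, rfl⟩
  rw [act_smul, projW_smul, ← hz0] at hz1
  rw [← hz0] at hz2
  have hK2 : cj g⁻¹ K = cj (g⁻¹ * g0) H := by rw [hK, cj_cj]
  rw [hK2] at hz1 hz2
  rcases (hall (g⁻¹ * g0)).shape with ⟨u2, hu2, hu20, huu2, hA2⟩ | ⟨-, u2, v2, hu2, hv2, huu2, hvv2, huv2, hA2⟩
  · exact two_line hF P hall _ hu2 hu20 huu2 hA2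
  obtain ⟨hzW, hzu, hzv⟩ := (hA2 _).1 hz2
  obtain ⟨-, hωu, hωv⟩ := (hA2 _).1 hz1
  have hreal : ∀ c : F, star c = c → star (ω * c) = ω * c → c = 0 := fun c hc hωc => by
    rcases hone c hc with rfl | rfl
    · rfl
    · rw [mul_one, hsω] at hωc
      exact absurd (mul_left_cancel₀ hω0 (by rw [mul_one, ← pow_two, hωc] : ω * ω = ω * 1)) hω1
  rw [herm_smul_right] at hωu hωv
  have hzero : z0 = 0 := by
    rw [plane_span hstar hF P hu2 hv2 huu2 hvv2 huv2 hzW, hreal _ hzu hωu, hreal _ hzv hωv, zero_smul, zero_smul, add_zero]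
  have hge : act g⁻¹ e = herm f (act g⁻¹ e) • e := by
    have h4 : herm e (act g⁻¹ e) = 0 := by rw [← herm_act hstar g, act_act_inv]; exact hpe
    conv_lhs => rw [eq_projW_add e f (act g⁻¹ e), h4, zero_smul, add_zero, ← hz0, hzero, add_zero]
  have h5 := congrArg (fun x => herm v (act g x)) hge
  simp only [act_act_inv, act_smul, herm_smul_right, (P.W_herm hv).1, hp, herm_add_right, hvu] at h5
  rw [mul_zero, add_zero, mul_one] at h5
  rw [← h5, zero_smul] at hge
  exact Pair.ne_zero P (act_injective g⁻¹ (hge.trans (Matrix.mulVec_zero _).symm))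

theorem four_two : False := by
  rcases (hall 1).shape with ⟨u, hu, hu0, huu, hA⟩ | ⟨-, u, v, hu, hv, huu, hvv, huv, hA⟩
  · exact two_line hF P hall 1 hu hu0 huu hA
  · exact two_plane hF P hall hu hv huu hvv huv hA

end Two

/-- No subgroup of dimension four is everywhere of the exact shape. -/
theorem not_four {q : ℕ} {hstar : ∀ x : F, star x = x ^ q} (hF : Fintype.card F = q ^ 2) (P : Pair i j e f)
    {H : Subgroup (Cfsg.SU 4 F q)} (hall : ∀ g : Cfsg.SU 4 F q, Four hstar P (cj g H)) : False := by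
  rcases (show q = 2 ∨ q = 3 ∨ 4 ≤ q by have := Hermitian.q_two_le hF; omega) with rfl | rfl | h
  · exact four_two hF P hall
  · exact four_three hF P hall
  · exact four_large hF P hall h

end Cfsg.Agent.Small.UMinIndex
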