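import Cfsg.Agent.Lib.Small.UMinIndex.CoverZero
import Cfsg.Agent.Lib.Small.UMinIndex.Root

/-!
The minimal index of proper subgroups of unitary groups of dimension at least five.
-/

set_option autoImplicit false
set_option linter.unusedSectionVars false
set_option linter.style.haveILetI false

namespace Cfsg.Agent.Small.UMinIndex

open Matrix Cfsg.Agent.Small.Unitary Cfsg.Agent.Small.UCover

variable {F : Type*} [Field F] [Fintype F] [StarRing F] {n q : ℕ} {i j : Fin n} {e f : Fin n → F}
  (hstar : ∀ x : F, star x = x ^ q) (hF : Fintype.card F = q ^ 2) (P : Pair i j e f)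
include hstar hF P

omit P in
theorem card_rad_eq (P : Pair i j e f) (hn : 2 ≤ n) : Nat.card (rad hstar P) = q ^ (2 * n - 3) := by
  rw [card_rad hstar hF P, ← pow_mul, ← pow_succ]
  congr 1
  omega

/-- A subgroup of small index without root elements at a point is regular there. -/
theorem exact_of_noRoot (hn : 5 ≤ n) {K : Subgroup (Cfsg.SU n F q)} (hK : K.index < pts q n)
    (h0 : NoRoot hstar e K) : Reg hstar P K ∧ K.relIndex (par1 q P) = q ^ (2 * n - 3) := by
  have hq := Hermitian.q_two_le hF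
  have hle := orbit_le K (par1 q P) 1
  rw [cj_one] at hle
  have hz : ∀ z ∈ prm hstar P K, z = 0 := by
    intro z hz
    by_contra hz0
    have := bound_nonregular hstar hF P hn K h0 ⟨z, hz, hz0⟩
    omega
  have htriv : ∀ x ∈ rad hstar P, x ∈ K → x = 1 := by
    rintro _ ⟨z, a, hzW, ha, rfl⟩ hxK
    have hz0 := hz z ⟨hzW, a, ha, hxK⟩
    subst hz0
    rw [h0 a ((EOk_zero_iff P.ee).1 ha) hxK, eich_zero_zero hstar P.ee]
  rcases regular_cases K (par1 q P) (rad hstar P) (rad_le_par P) htriv
    (fun p hp x hx => rad_conj_mem hstar hF P hp hx) with h | ⟨h, hs⟩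
  · rw [card_rad_eq hstar hF P (by omega)] at h
    have := pts_le_twice hq (show 2 ≤ n by omega)
    omega
  · exact ⟨⟨h0, hz, hs⟩, by rw [h, card_rad_eq hstar hF P (by omega)]⟩

/-- Parameters filling the complement give the radical. -/
theorem rad_le_of_prm_full (hn : 3 ≤ n) {K : Subgroup (Cfsg.SU n F q)}
    (hA : ∀ z ∈ Wsub i j, z ∈ prm hstar P K) : rad hstar P ≤ K := by
  classical
  obtain ⟨k, hk⟩ : ((Finset.univ : Finset (Fin n)) \ {i, j}).Nonempty := by
    rw [← Finset.card_pos, Finset.card_sdiff_of_subset (Finset.subset_univ _), Finset.card_univ, Fintype.card_fin,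
      Finset.card_pair P.ne]
    omega
  simp only [Finset.mem_sdiff, Finset.mem_univ, true_and, Finset.mem_insert, Finset.mem_singleton, not_or] at hk
  set w : Fin n → F := Pi.single k 1 with hw
  have hW : w ∈ Wsub i j := ⟨Pi.single_eq_of_ne (Ne.symm hk.1) _, Pi.single_eq_of_ne (Ne.symm hk.2) _⟩
  have hww : herm w w = 1 := by rw [hw, herm_single_left]; simp
  have hZ : ∀ u : F, star u = -u → zel hstar e u ∈ K := by
    intro u hu
    obtain ⟨s, hs⟩ := exists_trace hstar hF (r := (1 : F)) (star_one F)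
    obtain ⟨-, a, ha, hm⟩ := hA w hW
    obtain ⟨-, b, hb, hm'⟩ := hA ((-(u * s)) • w) (Submodule.smul_mem _ _ hW)
    have h := eich_comm (hstar := hstar) ha hb
    rw [herm_smul_left, herm_smul_right, hww, mul_one, mul_one, star_neg, star_mul', hu,
      show -(-u * star s) - -(u * s) = u by linear_combination u * hs] at h
    rw [← h, commutatorElement_def]
    exact mul_mem (mul_mem (mul_mem hm hm') (inv_mem hm)) (inv_mem hm')
  rintro _ ⟨z, a, hz, ha, rfl⟩
  obtain ⟨-, b, hb, hm⟩ := hA z hz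
  obtain ⟨h1, h2⟩ := zel_split (hstar := hstar) P ha hb
  rw [h1]
  exact mul_mem (hZ _ h2) hm

/-- An orbit with the radical inside makes the index large. -/
theorem bound_of_rad_le (hn : 5 ≤ n) {H : Subgroup (Cfsg.SU n F q)} (hReg : Reg hstar P H)
    {g : Cfsg.SU n F q} (hg : ∀ p ∈ par1 q P, g⁻¹ * p ∉ H) (hQ : rad hstar P ≤ cj g H) :
    (par1 q P).relIndex H ≤ q ^ (2 * n - 3) := by
  rw [← card_rad_eq hstar hF P (by omega), relIndex_eq_card]
  have hne : ∀ h ∈ H, herm e (act (g * h) e) ≠ 0 := by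
    intro h hh h0
    obtain ⟨y, hy⟩ : ∃ y, y = act (g * h) e := ⟨_, rfl⟩
    rw [← hy] at h0
    have hyy : herm y y = 0 := by rw [hy, herm_act hstar]; exact P.ee
    have hdec : y = projW e f y + herm f y • e := by
      conv_lhs => rw [eq_projW_add e f y, h0, zero_smul, add_zero, add_comm]
    have hok : EOk e y 0 := ⟨P.ee, h0, by rw [star_zero, hyy, add_zero, add_zero]⟩
    have hmem : eich hstar e y 0 ∈ cj g H := by
      refine hQ ?_
      have h1 := hok.shift (-(herm f y))
      rw [neg_smul, hdec] at h1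
      simp only [herm_add_right, herm_smul_right] at h1
      have h2 : EOk e (projW e f y) 0 := by
        have := hok.shift (-(herm f y))
        rwa [show y + -herm f y • e = projW e f y by rw [neg_smul]; exact sub_eq_of_eq_add hdec ▸ (sub_eq_add_neg _ _).symm] at this
      rw [hdec, eich_shift hstar _ h2]
      exact mem_rad P (P.projW_mem _) ⟨h2.1, h2.2.1, by rw [star_sub, star_add, star_star]; linear_combination h2.2.2⟩
    obtain ⟨e', he'⟩ : ∃ e', e' = act (g * h)⁻¹ e := ⟨_, rfl⟩
    obtain ⟨h3, h4⟩ := conj_eich hstar (g * h)⁻¹ hok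
    rw [hy, act_inv_act, ← he'] at h3 h4
    rw [inv_inv] at h4
    have hm2 : eich hstar e' e 0 ∈ H := by
      rw [← h4]
      have h5 := mem_cj.1 hmem
      rw [hy] at h5
      simpa [mul_assoc] using mul_mem (mul_mem (inv_mem hh) h5) hh
    have hee' : herm e e' = 0 := by rw [← star_herm, h3.2.1, star_zero]
    have hok' : EOk e (-e') 0 := ⟨P.ee, by rw [← neg_one_smul F e', herm_smul_right, hee', mul_zero], by
      rw [← neg_one_smul F e', herm_smul_left, herm_smul_right, h3.1]; simp⟩
    have heq : eich hstar e' e 0 = eich hstar e (-e') 0 := eq_of_act fun x => by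
      rw [act_eich hstar h3, act_eich hstar hok', ← neg_one_smul F e', herm_smul_left, star_neg, star_one]
      module
    rw [heq] at hm2
    obtain ⟨z, hz⟩ : ∃ z, z = projW e f (-e') := ⟨_, rfl⟩
    have hdec' : -e' = z + herm f (-e') • e := by
      rw [hz]
      conv_lhs => rw [eq_projW_add e f (-e'), hok'.2.1, zero_smul, add_zero, add_comm]
    have h6 : EOk e z 0 := by
      have := hok'.shift (-(herm f (-e')))
      rwa [show -e' + -herm f (-e') • e = z by rw [neg_smul]; exact sub_eq_of_eq_add hdec' ▸ (sub_eq_add_neg _ _).symm] at this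
    rw [hdec', eich_shift hstar _ h6] at hm2
    have hz0 := hReg.prm_zero z ⟨hz ▸ P.projW_mem _, _, ⟨h6.1, h6.2.1, by
      rw [star_sub, star_add, star_star]; linear_combination h6.2.2⟩, hm2⟩
    refine hg (g * h) ?_ (by simpa using hh)
    have hpar : (g * h)⁻¹ ∈ par1 q P := ⟨-herm f (-e'), by
      rw [← he', neg_smul, ← zero_add (herm f (-e') • e), ← hz0, ← hdec', neg_neg]⟩
    simpa using inv_mem hpar
  have hrad : ∀ x : H, ∃ r : rad hstar P, herm e (act (g * x.1) e) • act r.1 f = act (g * x.1) e := by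
    intro x
    obtain ⟨c, hc⟩ : ∃ c, c = herm e (act (g * x.1) e) := ⟨_, rfl⟩
    obtain ⟨y, hy⟩ : ∃ y, y = c⁻¹ • act (g * x.1) e := ⟨_, rfl⟩
    have hc0 : c ≠ 0 := hc ▸ hne x.1 x.2
    have hey : herm e y = 1 := by rw [hy, herm_smul_right, ← hc, inv_mul_cancel₀ hc0]
    have hyy : herm y y = 0 := by rw [hy, herm_smul_left, herm_smul_right, herm_act hstar, P.ee]; ring
    obtain ⟨z, hz⟩ : ∃ z, z = projW e f y := ⟨_, rfl⟩
    have hzW : z ∈ Wsub i j := hz ▸ P.projW_mem y
    have hdec : y = herm f y • e + f + z := by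
      conv_lhs => rw [eq_projW_add e f y, hey, one_smul, ← hz]
    obtain ⟨a, ha⟩ : ∃ a, a = herm f y := ⟨_, rfl⟩
    rw [← ha] at hdec
    have hok : EOk e z a := by
      refine ⟨P.ee, (P.herm_W hzW).1, ?_⟩
      rw [hdec] at hyy
      simp only [herm_add_left, herm_add_right, herm_smul_left, herm_smul_right, P.ee, P.ff, P.ef, P.fe,
        (P.herm_W hzW).1, (P.herm_W hzW).2, (P.W_herm hzW).1, (P.W_herm hzW).2] at hyy
      linear_combination hyy
    refine ⟨⟨_, mem_rad P hzW hok⟩, ?_⟩
    rw [← hc, act_eich hstar hok, P.ef, (P.W_herm hzW).2]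
    rw [show f + (1 : F) • z + (a * 1 - 0) • e = y by rw [hdec]; module, hy, smul_smul, mul_inv_cancel₀ hc0, one_smul]
  choose r hr using hrad
  refine Nat.card_le_card_of_injective (fun x => r x.out) fun x y h => ?_
  rw [← QuotientGroup.out_eq' x, ← QuotientGroup.out_eq' y, QuotientGroup.eq, Subgroup.mem_subgroupOf]
  have h1 := hr x.out
  have h2 := hr y.out
  rw [show r x.out = r y.out from h] at h1
  have hx0 := hne _ x.out.2
  obtain ⟨cx, hcx⟩ : ∃ cx, cx = herm e (act (g * x.out.1) e) := ⟨_, rfl⟩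
  obtain ⟨cy, hcy⟩ : ∃ cy, cy = herm e (act (g * y.out.1) e) := ⟨_, rfl⟩
  rw [← hcx] at h1 hx0
  rw [← hcy] at h2
  have key : act (g * y.out.1) e = (cy / cx) • act (g * x.out.1) e := by
    rw [← h2, ← h1, smul_smul, div_mul_cancel₀ _ hx0]
  refine ⟨cy / cx, ?_⟩
  show act (x.out.1⁻¹ * y.out.1) e = _
  rw [show x.out.1⁻¹ * y.out.1 = (g * x.out.1)⁻¹ * (g * y.out.1) by group, act_mul, key, act_smul, act_inv_act]

omit P in
/-- The bound in dimension at least five. -/
theorem bound_main (hn : 5 ≤ n) {H : Subgroup (Cfsg.SU n F q)} (hH : H ≠ ⊤) :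
    pts q n ≤ H.index ∨ q = 2 ∧ nip q n ≤ H.index := by
  classical
  have hq := Hermitian.q_two_le hF
  by_cases hlt : pts q n ≤ H.index
  · exact Or.inl hlt
  push Not at hlt
  obtain ⟨e, f, P⟩ := exists_pair hstar hF (i := (⟨0, by omega⟩ : Fin n)) (j := ⟨1, by omega⟩) (by simp [Fin.ext_iff])
  obtain ⟨g0, hg0⟩ : ∃ g0, NoRoot hstar e (cj g0 H) := by
    by_contra! hc
    refine hH (top_of_all_root hstar hF (by omega) fun v hv0 hv hno => ?_)
    obtain ⟨g, hg⟩ := exists_move_point hstar hF P (by omega) hv0 hv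
    refine hc g⁻¹ ?_
    rwa [← noRoot_cj hstar g P.ee, cj_cj, mul_inv_cancel, cj_one, hg]
  obtain ⟨H0, hH0⟩ : ∃ H0, H0 = cj g0 H := ⟨_, rfl⟩
  rw [← hH0] at hg0
  have hi : H0.index = H.index := hH0 ▸ cj_index g0 H
  rw [← hi] at hlt ⊢
  obtain ⟨hReg, hr0⟩ := exact_of_noRoot hstar hF P hn hlt hg0
  have hkey := index_mul_relIndex H0 (par1 q P)
  rw [index_par hstar hF P (by omega), hr0] at hkey
  by_cases htrans : ∀ g : Cfsg.SU n F q, ∃ p ∈ par1 q P, g⁻¹ * p ∈ H0
  · refine (not_regular (hstar := hstar) hF P hn (H := H0) fun g => ?_).elim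
    obtain ⟨p, hp, hpH⟩ := htrans g
    have hcj : cj g H0 = cj p H0 := by
      rw [show p = g * (g⁻¹ * p) by group, ← cj_cj g]
      congr 1
      ext x
      rw [mem_cj]
      exact ⟨fun hx => mul_mem (mul_mem (inv_mem hpH) hx) hpH, fun hx => by
        simpa [mul_assoc] using mul_mem (mul_mem hpH hx) (inv_mem hpH)⟩
    refine (exact_of_noRoot hstar hF P hn (by rw [cj_index]; exact hlt) fun u hu hm => ?_).1
    rw [hcj, mem_cj] at hm
    obtain ⟨c, hc⟩ := inv_mem hp
    have hc0 : c ≠ 0 := fun h => Pair.ne_zero P (act_injective p⁻¹ (by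
      rw [hc, h, zero_smul]; exact (Matrix.mulVec_zero _).symm))
    have h1 := eich_conj hstar p⁻¹ ((EOk_zero_iff P.ee).2 hu)
    rw [inv_inv, hc, show act p⁻¹ (0 : Fin n → F) = 0 from Matrix.mulVec_zero _] at h1
    have h2 : EOk (c • e) 0 u := (EOk_zero_iff (by simp [herm_smul_left, herm_smul_right, P.ee])).2 hu
    rw [zel, h1, eich_smul hstar h2 hc0, smul_zero] at hm
    have h3 := hg0 _ (by rw [star_mul', star_mul', star_star, hu]; ring) hm
    exact (mul_eq_zero.1 h3).resolve_left (mul_ne_zero (star_ne_zero.2 hc0) hc0)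
  · push Not at htrans
    obtain ⟨g, hg⟩ := htrans
    have h2 := two_orbits H0 (par1 q P) (g := 1) (g' := g) (fun p hp h => hg p hp (by simpa using h))
    rw [cj_one, hr0] at h2
    have hroot : ¬ NoRoot hstar e (cj g H0) := fun h => by
      obtain ⟨-, hr⟩ := exact_of_noRoot hstar hF P hn (by rw [cj_index]; exact hlt) h
      rw [hr] at h2
      have := pts_le_twice hq (show 2 ≤ n by omega)
      omega
    by_cases hQ : rad hstar P ≤ cj g H0
    · have h3 := bound_of_rad_le hstar hF P hn hReg hg hQ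
      have h4 : H0.index * (par1 q P).relIndex H0 ≤ H0.index * q ^ (2 * n - 3) := Nat.mul_le_mul_left _ h3
      rw [hkey] at h4
      exact absurd (Nat.le_of_mul_le_mul_right h4 (pow_pos (by omega) _)) (not_le.2 hlt)
    · have hA : Nat.card (prm hstar P (cj g H0)) < q ^ (2 * (n - 2)) := by
        rw [← card_W hF P.ne]
        by_contra hge
        push Not at hge
        refine hQ (rad_le_of_prm_full hstar hF P (by omega) fun z hz => ?_)
        let ι : prm hstar P (cj g H0) → ↥(Wsub _ _ : Submodule F (Fin n → F)) := fun x => ⟨x.1, prm_le P _ x.2⟩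
        have hι : Function.Injective ι := fun a b h => Subtype.ext (congrArg Subtype.val h :)
        obtain ⟨x, hx⟩ := ((Nat.bijective_iff_injective_and_card ι).2
          ⟨hι, le_antisymm (Nat.card_le_card_of_injective ι hι) hge⟩).2 ⟨z, hz⟩
        have : x.1 = z := congrArg Subtype.val hx
        exact this ▸ x.2
      have hpos := pts_pos hq (show 2 ≤ n - 2 by omega)
      obtain ⟨m, rfl⟩ : ∃ m, n = m + 2 := ⟨n - 2, by omega⟩
      rw [Nat.add_sub_cancel] at hpos
      have e1 : 2 * (m + 2) - 3 = 2 * m + 1 := by omega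
      rw [e1] at h2 hkey
      rcases bound_proper hstar hF P hn (cj g H0) hA with h3 | ⟨hq2, h3⟩
      · rw [Nat.add_sub_cancel] at h3
        exfalso
        have hI : pts q (m + 2) = 1 + q ^ 2 * pts q m + q ^ (2 * m + 1) := rfl
        have hN : H0.index + 1 = pts q (m + 2) := by omega
        have hd : H0.index ∣ q ^ (2 * m + 1) := by
          have h5 : H0.index ∣ pts q (m + 2) * q ^ (2 * m + 1) := hkey ▸ dvd_mul_right _ _
          rw [← hN, add_mul, one_mul] at h5
          exact (Nat.dvd_add_iff_right (dvd_mul_right _ _)).2 h5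
        have := Nat.le_of_dvd (pow_pos (by omega) _) hd
        have : 0 < q ^ 2 * pts q m := Nat.mul_pos (pow_pos (by omega) _) hpos
        omega
      · subst hq2
        rw [Nat.add_sub_cancel] at h3
        refine Or.inr ⟨rfl, ?_⟩
        rw [nip]
        omega

end Cfsg.Agent.Small.UMinIndex
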