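import Cfsg.Agent.Lib.Small.UCover.Step
import Cfsg.Agent.Lib.Small.UCover.Torus
import Cfsg.Agent.Lib.Small.Unitary.Simple

/-!
Frames of unitary spaces, the stabiliser of an isotropic point and its action on the complement of a pair.
-/

set_option autoImplicit false
set_option linter.unusedSectionVars false

namespace Cfsg.Agent.Small.UMinIndex

open Matrix Cfsg.Agent.Small.Unitary Cfsg.Agent.Small.UCover

variable {F : Type*} [Field F] [Fintype F] [StarRing F] {n q : ℕ}

/-! ### Frames -/

/-- Orthogonal hyperbolic pairs and unit vectors. -/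
structure Frame {k l : ℕ} (a b : Fin k → Fin n → F) (c : Fin l → Fin n → F) : Prop where
  aa : ∀ r s, herm (a r) (a s) = 0
  bb : ∀ r s, herm (b r) (b s) = 0
  ab : ∀ r s, herm (a r) (b s) = if r = s then 1 else 0
  ac : ∀ r t, herm (a r) (c t) = 0
  bc : ∀ r t, herm (b r) (c t) = 0
  cc : ON c

section Frames

variable (hstar : ∀ x : F, star x = x ^ q) (hF : Fintype.card F = q ^ 2)
include hstar hF

theorem exists_move_frame {k l : ℕ} {a b a' b' : Fin k → Fin n → F} {c c' : Fin l → Fin n → F}
    (h : Frame a b c) (h' : Frame a' b' c') (hn : k + k + l < n) :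
    ∃ g : Cfsg.SU n F q, (∀ r, act g (a r) = a' r) ∧ (∀ r, act g (b r) = b' r) ∧ ∀ t, act g (c t) = c' t := by
  obtain ⟨s, hs⟩ := exists_trace hstar hF (r := (1 : F)) (star_one F)
  obtain ⟨d, hd0, hd⟩ := Hermitian.exists_norm hstar hF (a := (-1 : F)) (by norm_num) (by simp)
  have key : ∀ {a b : Fin k → Fin n → F} {c : Fin l → Fin n → F}, Frame a b c →
      ON (Fin.append (Fin.append (fun r => s • a r + b r) (fun r => d • (b r - star s • a r))) c) := by
    intro a b c h
    have ba : ∀ r t, herm (b r) (a t) = if r = t then 1 else 0 := fun r t => by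
      rw [← star_herm, h.ab, apply_ite star, star_one, star_zero, if_congr eq_comm rfl rfl]
    have ca : ∀ r t, herm (c t) (a r) = 0 := fun r t => by rw [← star_herm, h.ac, star_zero]
    have cb : ∀ r t, herm (c t) (b r) = 0 := fun r t => by rw [← star_herm, h.bc, star_zero]
    intro x y
    induction x using Fin.addCases with
    | left x =>
      induction y using Fin.addCases with
      | left y =>
        induction x using Fin.addCases with
        | left x =>
          induction y using Fin.addCases with
          | left y =>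
            simp only [Fin.append_left, herm_add_left, herm_add_right, herm_smul_left, herm_smul_right,
              h.aa, h.bb, h.ab, ba]
            rcases eq_or_ne x y with rfl | hxy
            · simp; linear_combination hs
            · simp [hxy, (Fin.castAdd_injective _ _).ne_iff]
          | right y =>
            simp only [Fin.append_left, Fin.append_right, herm_add_left, herm_sub_right, herm_smul_left, herm_smul_right,
              h.aa, h.bb, h.ab, ba]
            have := x.isLt
            rcases eq_or_ne x y with rfl | hxy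
            · simp [Fin.ext_iff, show k ≠ 0 by omega]
            · simp [hxy, Fin.ext_iff]; omega
        | right x =>
          induction y using Fin.addCases with
          | left y =>
            simp only [Fin.append_left, Fin.append_right, herm_sub_left, herm_add_right, herm_smul_left, herm_smul_right,
              h.aa, h.bb, h.ab, ba, star_star]
            have := y.isLt
            rcases eq_or_ne x y with rfl | hxy
            · simp [Fin.ext_iff, show k ≠ 0 by omega]; ring
            · simp [hxy, Fin.ext_iff]; omega
          | right y =>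
            simp only [Fin.append_left, Fin.append_right, herm_sub_left, herm_sub_right, herm_smul_left, herm_smul_right,
              h.aa, h.bb, h.ab, ba, star_star]
            rcases eq_or_ne x y with rfl | hxy
            · simp; linear_combination (-(star s + s)) * hd + hs
            · simp [hxy, (Fin.natAdd_injective _ _).ne_iff, (Fin.castAdd_injective _ _).ne_iff]
      | right y =>
        rw [if_neg (fun e => by simp [Fin.ext_iff] at e; have := x.isLt; omega)]
        induction x using Fin.addCases <;>
          simp only [Fin.append_left, Fin.append_right, herm_add_left, herm_sub_left, herm_smul_left, h.ac, h.bc] <;> simp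
    | right x =>
      induction y using Fin.addCases with
      | left y =>
        rw [if_neg (fun e => by simp [Fin.ext_iff] at e; have := y.isLt; omega)]
        induction y using Fin.addCases <;>
          simp only [Fin.append_left, Fin.append_right, herm_add_right, herm_sub_right, herm_smul_right, ca, cb] <;> simp
      | right y =>
        rw [Fin.append_right, Fin.append_right, h.cc, if_congr (Fin.natAdd_injective _ _).eq_iff rfl rfl]
  obtain ⟨g, hg⟩ := exists_move hstar hF (key h) (key h') hn
  have h1 : ∀ r, s • act g (a r) + act g (b r) = s • a' r + b' r := fun r => by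
    have := hg (Fin.castAdd l (Fin.castAdd k r))
    simpa only [Fin.append_left, act_add, act_smul] using this
  have h2 : ∀ r, act g (b r) - star s • act g (a r) = b' r - star s • a' r := fun r => by
    have := hg (Fin.castAdd l (Fin.natAdd k r))
    simp only [Fin.append_left, Fin.append_right, act_smul, act_sub] at this
    exact smul_right_injective _ hd0 this
  have h3 : ∀ r, act g (a r) = a' r := fun r => by
    have h12 : (s + star s) • act g (a r) = (s + star s) • a' r := by
      linear_combination (norm := module) h1 r - h2 r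
    rwa [hs, one_smul, one_smul] at h12
  refine ⟨g, h3, fun r => ?_, fun t => ?_⟩
  · have := h1 r
    rw [h3 r] at this
    exact add_left_cancel this
  · have := hg (Fin.natAdd (k + k) t)
    simpa only [Fin.append_right] using this

omit hstar hF in
theorem exists_herm_eq_one {p : Fin n → F} (hp : p ≠ 0) : ∃ w, herm p w = 1 := by
  obtain ⟨i, hi⟩ := Function.ne_iff.1 hp
  refine ⟨(star (p i))⁻¹ • Pi.single i 1, ?_⟩
  rw [herm_smul_right, herm_single_right, mul_one, inv_mul_cancel₀ (star_ne_zero.2 hi)]

/-- A hyperbolic partner perpendicular to the given vectors. -/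
theorem exists_partner {i j : Fin n} {e f : Fin n → F} (P : Pair i j e f) {x : Fin n → F}
    (hxW : x ∈ Wsub i j) (hx0 : x ≠ 0) (hx : herm x x = 0) :
    ∃ y ∈ Wsub i j, herm y y = 0 ∧ herm x y = 1 := by
  obtain ⟨w, hw⟩ := exists_herm_eq_one hx0
  have hwx : herm x (projW e f w) = 1 := by
    rw [projW, herm_sub_right, herm_sub_right, herm_smul_right, herm_smul_right, (P.W_herm hxW).1,
      (P.W_herm hxW).2, hw]; ring
  obtain ⟨t, ht⟩ := exists_trace hstar hF (r := -herm (projW e f w) (projW e f w)) (by rw [star_neg, star_herm])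
  have hxw : herm (projW e f w) x = 1 := by rw [← star_herm, hwx, star_one]
  refine ⟨projW e f w + t • x, add_mem (P.projW_mem w) (Submodule.smul_mem _ _ hxW), ?_, ?_⟩
  · simp only [herm_add_left, herm_add_right, herm_smul_left, herm_smul_right, hx, hwx, hxw]
    linear_combination ht
  · rw [herm_add_right, herm_smul_right, hx, hwx]; ring

end Frames

/-! ### The stabiliser of a point -/


variable {i j : Fin n} {e f : Fin n → F}

theorem Pair.ne_zero (P : Pair i j e f) : e ≠ 0 := fun h => by
  have := P.ef
  rw [h, herm_zero_left] at this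
  exact zero_ne_one this

/-- The stabiliser of the point of a pair. -/
def par1 (q : ℕ) (P : Pair i j e f) : Subgroup (Cfsg.SU n F q) := lineFix q (Pair.ne_zero P)

/-- The scalar on the point. -/
def sc (e f : Fin n → F) (g : Cfsg.SU n F q) : F := herm f (act g e)

/-- The action on the radical modulo its centre. -/
def rho (e f : Fin n → F) (g : Cfsg.SU n F q) (x : Fin n → F) : Fin n → F :=
  star (sc e f g) • projW e f (act g x)

/-- The contragredient action. -/
def tw (e f : Fin n → F) (g : Cfsg.SU n F q) (x : Fin n → F) : Fin n → F :=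
  (sc e f g)⁻¹ • projW e f (act g x)

theorem act_point (P : Pair i j e f) {g : Cfsg.SU n F q} (hg : g ∈ par1 q P) : act g e = sc e f g • e := by
  obtain ⟨c, hc⟩ := hg
  rw [sc, hc, herm_smul_right, P.fe, mul_one]

theorem sc_ne_zero (P : Pair i j e f) {g : Cfsg.SU n F q} (hg : g ∈ par1 q P) : sc e f g ≠ 0 := fun h => by
  have h1 := act_point P hg
  rw [h, zero_smul] at h1
  exact Pair.ne_zero P (act_injective g (h1.trans (Matrix.mulVec_zero _).symm))

theorem sc_mul (P : Pair i j e f) {g h : Cfsg.SU n F q} (hg : g ∈ par1 q P) (hh : h ∈ par1 q P) :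
    sc e f (g * h) = sc e f g * sc e f h := by
  conv_lhs => rw [sc, act_mul, act_point P hh, act_smul, act_point P hg, smul_smul, herm_smul_right, P.fe, mul_one]
  rw [mul_comm]

theorem projW_of_mem (P : Pair i j e f) {x : Fin n → F} (hx : x ∈ Wsub i j) : projW e f x = x := by
  rw [projW, (P.herm_W hx).1, (P.herm_W hx).2]; simp

theorem projW_smul (c : F) (x : Fin n → F) : projW e f (c • x) = c • projW e f x := by
  simp only [projW, herm_smul_right]; module

theorem projW_add (x y : Fin n → F) : projW e f (x + y) = projW e f x + projW e f y := by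
  simp only [projW, herm_add_right]; module

theorem herm_perp (hstar : ∀ x : F, star x = x ^ q) (P : Pair i j e f) {g : Cfsg.SU n F q}
    (hg : g ∈ par1 q P) {x : Fin n → F} (hx : x ∈ Wsub i j) : herm e (act g x) = 0 := by
  have h := herm_act hstar g e x
  rw [act_point P hg, herm_smul_left, (P.herm_W hx).1] at h
  exact (mul_eq_zero.1 h).resolve_left (star_ne_zero.2 (sc_ne_zero P hg))

theorem act_decomp (hstar : ∀ x : F, star x = x ^ q) (P : Pair i j e f) {g : Cfsg.SU n F q}
    (hg : g ∈ par1 q P) {x : Fin n → F} (hx : x ∈ Wsub i j) :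
    act g x = projW e f (act g x) + herm f (act g x) • e := by
  conv_lhs => rw [eq_projW_add e f (act g x), herm_perp hstar P hg hx, zero_smul, add_zero, add_comm]

theorem herm_rho (hstar : ∀ x : F, star x = x ^ q) (P : Pair i j e f) {g : Cfsg.SU n F q}
    (hg : g ∈ par1 q P) {x y : Fin n → F} (hx : x ∈ Wsub i j) (hy : y ∈ Wsub i j) :
    herm (projW e f (act g x)) (projW e f (act g y)) = herm x y := by
  conv_rhs => rw [← herm_act hstar g, act_decomp hstar P hg hx, act_decomp hstar P hg hy]
  simp only [herm_add_left, herm_add_right, herm_smul_left, herm_smul_right, P.ee,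
    (P.herm_W (P.projW_mem _)).1, (P.W_herm (P.projW_mem _)).1]
  ring

theorem proj_mul (hstar : ∀ x : F, star x = x ^ q) (P : Pair i j e f) {g h : Cfsg.SU n F q}
    (hg : g ∈ par1 q P) (hh : h ∈ par1 q P) {x : Fin n → F} (hx : x ∈ Wsub i j) :
    projW e f (act (g * h) x) = projW e f (act g (projW e f (act h x))) := by
  rw [act_mul]
  conv_lhs => rw [act_decomp hstar P hh hx, act_add, act_smul, act_point P hg, smul_smul, projW_add, projW_smul]
  have : projW e f e = 0 := by rw [projW, P.fe, P.ee]; simp
  rw [this, smul_zero, add_zero]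

theorem rho_mem (P : Pair i j e f) (g : Cfsg.SU n F q) (x : Fin n → F) : rho e f g x ∈ Wsub i j :=
  Submodule.smul_mem _ _ (P.projW_mem _)

theorem tw_mem (P : Pair i j e f) (g : Cfsg.SU n F q) (x : Fin n → F) : tw e f g x ∈ Wsub i j :=
  Submodule.smul_mem _ _ (P.projW_mem _)

theorem rho_mul (hstar : ∀ x : F, star x = x ^ q) (P : Pair i j e f) {g h : Cfsg.SU n F q}
    (hg : g ∈ par1 q P) (hh : h ∈ par1 q P) {x : Fin n → F} (hx : x ∈ Wsub i j) :
    rho e f (g * h) x = rho e f g (rho e f h x) := by
  rw [rho, rho, rho, sc_mul P hg hh, proj_mul hstar P hg hh hx, act_smul, projW_smul, smul_smul, star_mul', mul_comm]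

theorem tw_mul (hstar : ∀ x : F, star x = x ^ q) (P : Pair i j e f) {g h : Cfsg.SU n F q}
    (hg : g ∈ par1 q P) (hh : h ∈ par1 q P) {x : Fin n → F} (hx : x ∈ Wsub i j) :
    tw e f (g * h) x = tw e f g (tw e f h x) := by
  rw [tw, tw, tw, sc_mul P hg hh, proj_mul hstar P hg hh hx, act_smul, projW_smul, smul_smul, mul_inv, mul_comm]

theorem rho_add (g : Cfsg.SU n F q) (x y : Fin n → F) : rho e f g (x + y) = rho e f g x + rho e f g y := by
  rw [rho, act_add, projW_add, smul_add]; rfl

theorem herm_tw_rho (hstar : ∀ x : F, star x = x ^ q) (P : Pair i j e f) {g : Cfsg.SU n F q}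
    (hg : g ∈ par1 q P) {x y : Fin n → F} (hx : x ∈ Wsub i j) (hy : y ∈ Wsub i j) :
    herm (tw e f g x) (rho e f g y) = herm x y := by
  rw [tw, rho, herm_smul_left, herm_smul_right, herm_rho hstar P hg hx hy, ← mul_assoc, ← star_mul',
    inv_mul_cancel₀ (sc_ne_zero P hg), star_one, one_mul]

theorem herm_rho_rho (hstar : ∀ x : F, star x = x ^ q) (P : Pair i j e f) {g : Cfsg.SU n F q}
    (hg : g ∈ par1 q P) {x y : Fin n → F} (hx : x ∈ Wsub i j) (hy : y ∈ Wsub i j) :
    herm (rho e f g x) (rho e f g y) = star (sc e f g) * sc e f g * herm x y := by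
  rw [rho, rho, herm_smul_left, herm_smul_right, herm_rho hstar P hg hx hy, star_star]; ring

theorem conj_eich (hstar : ∀ x : F, star x = x ^ q) (g : Cfsg.SU n F q) {e z : Fin n → F} {a : F}
    (h : EOk e z a) :
    EOk (act g e) (act g z) a ∧ g * eich hstar e z a * g⁻¹ = eich hstar (act g e) (act g z) a := by
  have h' : EOk (act g e) (act g z) a := by
    refine ⟨?_, ?_, ?_⟩ <;> simp only [herm_act hstar]
    exacts [h.1, h.2.1, h.2.2]
  refine ⟨h', mul_inv_eq_iff_eq_mul.2 (eq_of_act fun x => ?_)⟩
  rw [act_mul, act_mul, act_eich hstar h, act_eich hstar h', act_add, act_add, act_smul, act_smul,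
    herm_act hstar, herm_act hstar]

/-- The action on the radical. -/
theorem conj_rad (hstar : ∀ x : F, star x = x ^ q) (P : Pair i j e f) {g : Cfsg.SU n F q}
    (hg : g ∈ par1 q P) {z : Fin n → F} {a : F} (hz : z ∈ Wsub i j) (h : EOk e z a) :
    ∃ a', EOk e (rho e f g z) a' ∧ g * eich hstar e z a * g⁻¹ = eich hstar e (rho e f g z) a' := by
  obtain ⟨h1, h2⟩ := conj_eich hstar g h
  rw [h2]
  rw [act_point P hg] at h1 ⊢
  have h3 := h1.smul _ (sc_ne_zero P hg)
  rw [eich_smul hstar h1 (sc_ne_zero P hg)]
  rw [act_decomp hstar P hg hz, smul_add, smul_smul] at h3 ⊢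
  have h4 : EOk e (rho e f g z) (star (sc e f g) * sc e f g * a) := by
    have h5 := h3.shift (-(star (sc e f g) * herm f (act g z)))
    rwa [neg_smul, add_neg_cancel_right] at h5
  refine ⟨_, ?_, eich_shift hstar _ h4⟩
  refine ⟨h4.1, h4.2.1, ?_⟩
  have := h4.2.2
  rw [star_sub, star_add, star_star]
  linear_combination this

theorem card_W (hF : Fintype.card F = q ^ 2) (hij : i ≠ j) :
    Nat.card (Wsub i j : Submodule F (Fin n → F)) = q ^ (2 * (n - 2)) := by
  classical
  let ψ : (Wsub i j : Submodule F (Fin n → F)) ≃ ({m : Fin n // m ≠ i ∧ m ≠ j} → F) :=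
    { toFun := fun z m => z.1 m.1
      invFun := fun g => ⟨fun m => if h : m ≠ i ∧ m ≠ j then g ⟨m, h⟩ else 0, by simp [mem_Wsub]⟩
      left_inv := fun z => by
        refine Subtype.ext (funext fun m => ?_)
        show (if h : m ≠ i ∧ m ≠ j then z.1 m else 0) = z.1 m
        split_ifs with h
        · rfl
        · rcases not_and_or.1 h with h | h <;> rw [not_not] at h <;> subst h
          exacts [z.2.1.symm, z.2.2.symm]
      right_inv := fun g => funext fun m => dif_pos m.2 }
  rw [Nat.card_congr ψ, Nat.card_fun, Nat.card_eq_fintype_card, hF, Nat.card_eq_fintype_card,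
    Fintype.card_subtype, pow_mul]
  congr 1
  rw [show (Finset.univ.filter fun m : Fin n => m ≠ i ∧ m ≠ j) = Finset.univ \ {i, j} by ext; simp,
    Finset.card_sdiff, Finset.inter_univ, Finset.card_univ, Fintype.card_fin, Finset.card_pair hij]

end Cfsg.Agent.Small.UMinIndex
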