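import Cfsg.Agent.Lib.Small.UMinIndex.ThreeTorus

/-!
No subgroup of small index in dimension three meets the stabiliser of a point in a complement of the radical.
-/

set_option autoImplicit false
set_option linter.unusedSectionVars false
set_option linter.style.haveILetI false

namespace Cfsg.Agent.Small.UMinIndex.Three

open Matrix Cfsg.Agent.Small Cfsg.Agent.Small.Unitary Cfsg.Agent.Small.UCover

variable {F : Type*} [Field F] [Fintype F] [StarRing F] {q : ℕ} {i j : Fin 3} {e f : Fin 3 → F}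
  {hstar : ∀ x : F, star x = x ^ q}

section Finite

variable (hF : Fintype.card F = q ^ 2) (P : Pair i j e f)
include hF hstar

omit hstar hF in
/-- Conjugation by the stabiliser keeps the scalars. -/
theorem torD_cj {p : Cfsg.SU 3 F q} (hp : p ∈ par1 q P) (H : Subgroup (Cfsg.SU 3 F q)) {μ : Fˣ}
    (hμ : μ ∈ torD P H) : μ ∈ torD P (cj p H) := by
  obtain ⟨g, hgH, hgP, hgs⟩ := (mem_torD P).1 hμ
  refine (mem_torD P).2 ⟨p * g * p⁻¹, mem_cj.2 (by simpa [mul_assoc] using hgH),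
    mul_mem (mul_mem hp hgP) (inv_mem hp), ?_⟩
  have h1 := sc_mul P (mul_mem (mul_mem hp hgP) (inv_mem hp)) hp
  rw [inv_mul_cancel_right, sc_mul P hp hgP, mul_comm] at h1
  rw [← hgs]
  exact (mul_right_cancel₀ (sc_ne_zero P hp) h1).symm

/-- A transitive subgroup with a large torus on the lines of its involutions and without root elements. -/
theorem no_torus_case (hq : Odd q) (hq7 : 7 ≤ q) {H : Subgroup (Cfsg.SU 3 F q)}
    (hs : (par1 q P).relIndex H = q ^ 3 + 1) (h0 : NoRoot hstar e H) {y : Cfsg.SU 3 F q} (hyH : y ∈ H)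
    (hyP : y ∈ par1 q P) (hys : sc e f y = -1) (hy2 : y * y = 1) {μ : Fˣ} (hμ : μ ∈ torD P H)
    (hμr : star (μ : F) = μ) {h : ℕ} (hh : orderOf ((μ : F) ^ 2) = h) (h4 : 4 ≤ h) (h5 : h = 5 → 13 ≤ q) :
    False := by
  have h2 : (2 : F) ≠ 0 := by
    rcases two_or hF with ⟨-, he⟩ | ⟨h, -⟩
    · exact absurd he (Nat.not_even_iff_odd.2 hq)
    · exact h
  obtain ⟨L, θ, C⟩ := exists_chart hstar hF P
  obtain ⟨c, hc⟩ : ∃ c : Matrix.SpecialLinearGroup (Fin 2) L, c.1 = (-1 : L) • (1 : Matrix (Fin 2) (Fin 2) L) :=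
    ⟨⟨_, by rw [Matrix.det_smul, Matrix.det_one, mul_one, Fintype.card_fin]; norm_num⟩, rfl⟩
  obtain ⟨v, hvr, hv, -⟩ := conj_to_phi (hstar := hstar) hF P hq C hc hyP hys hy2
  have hcH : phi C c ∈ cj v H := by rw [mem_cj, hv]; exact hyH
  have hall : ∀ g, ∃ p ∈ par1 q P, cj g H = cj p H := trans_cj (hstar := hstar) hF P hs
  refine no_line_torus hF C h2 h4 hq7 h5 (H := cj v H) (fun g => ?_) hc hcH fun g hg => ?_
  · obtain ⟨p, hp, he⟩ := hall (g * v)
    rw [cj_cj, he]
    exact noRoot_par P hp h0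
  · obtain ⟨p, hp, he⟩ := hall (g * v)
    rw [cj_cj, he] at hg ⊢
    obtain ⟨x, hx, hxP, hxc, hxs⟩ := torus_elem (hstar := hstar) hF P hq C hc hg (torD_cj P hp H hμ)
    exact ⟨x, hx, hxP, hxc, by rw [hxs, hμr], by rw [hxs, hh]⟩

/-- Real units of prescribed order. -/
theorem exists_real_units : ∃ l : Fˣ, star (l : F) = l ∧ orderOf l = q - 1 := by
  have hq := Hermitian.q_two_le hF
  obtain ⟨ν, hν⟩ := exists_primitive hstar hF
  have hfac := Hermitian.sq_sub_one q
  refine ⟨ν ^ (q + 1), ?_, ?_⟩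
  · rw [hstar, ← Units.val_pow_eq_pow_val]
    congr 1
    rw [← pow_mul, pow_eq_pow_iff_modEq, hν, show (q + 1) * q = (q + 1) + (q + 1) * (q - 1) by
      obtain ⟨k, rfl⟩ : ∃ k, q = k + 1 := ⟨q - 1, by omega⟩
      simp; ring, ← hfac]
    exact Nat.add_modEq_right
  · rw [orderOf_pow' _ (by omega), hν, hfac, Nat.gcd_mul_right_left, Nat.mul_div_cancel_left _ (by omega)]

/-- The second fixed point of a torus element. -/
theorem exists_second {g : Cfsg.SU 3 F q} (hg : g ∈ par1 q P) {μ : F} (hs : sc e f g = μ)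
    (h1 : μ ^ (q + 1) ≠ 1) (h2 : μ ^ (2 * q - 1) ≠ 1) :
    ∃ v : Fin 3 → F, herm e v = 1 ∧ herm v v = 0 ∧ act g v = (star μ)⁻¹ • v ∧
      ∀ y, act g y = (star μ)⁻¹ • y → y = herm e y • v := by
  obtain ⟨w, hw, hww⟩ := exists_w0 P
  have hq := Hermitian.q_two_le hF
  have hμ0 : μ ≠ 0 := hs ▸ sc_ne_zero P hg
  have hμs : star μ ≠ 0 := star_ne_zero.2 hμ0
  obtain ⟨ν, hν⟩ : ∃ ν, ν = star μ / μ := ⟨_, rfl⟩
  have hne1 : (star μ)⁻¹ ≠ μ := fun h => h1 (by
    rw [pow_succ, ← hstar]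
    nth_rw 2 [← h]
    exact mul_inv_cancel₀ hμs)
  have hne2 : (star μ)⁻¹ ≠ ν := fun h => h2 (by
    rw [hν, eq_div_iff hμ0, inv_mul_eq_iff_eq_mul₀ hμs] at h
    have h3 : μ ^ (2 * q - 1) * μ = 1 * μ := by
      rw [← pow_succ, show 2 * q - 1 + 1 = q + q by omega, pow_add, ← hstar, one_mul]
      exact h.symm
    exact mul_right_cancel₀ hμ0 h3)
  have hge := act_point P hg
  rw [hs] at hge
  have hgw : act g w = ν • w + herm f (act g w) • e := by
    conv_lhs => rw [act_decomp hstar P hg hw]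
    have h3 := rho_formula hstar hF P hg hw
    rw [rho, hs, mul_smul] at h3
    rw [smul_right_injective (Fin 3 → F) hμs h3, hν]
  obtain ⟨γ, hγ⟩ : ∃ γ, γ = herm f (act g w) := ⟨_, rfl⟩
  rw [← hγ] at hgw
  obtain ⟨A, hA⟩ : ∃ A, A = herm f (act g f) := ⟨_, rfl⟩
  obtain ⟨ζ, hζ⟩ : ∃ ζ, ζ = herm w (projW e f (act g f)) := ⟨_, rfl⟩
  have hgf : act g f = A • e + (star μ)⁻¹ • f + ζ • w := by
    have he : herm e (act g f) = (star μ)⁻¹ := by
      have h3 := herm_act hstar g e f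
      rw [hge, herm_smul_left, P.ef] at h3
      exact eq_inv_of_mul_eq_one_right h3
    rw [hA, ← he, hζ, ← W_eq hF P hw hww (P.projW_mem _)]
    exact eq_projW_add e f _
  obtain ⟨β, hβ⟩ : ∃ β, β = ζ / ((star μ)⁻¹ - ν) := ⟨_, rfl⟩
  obtain ⟨α, hα⟩ : ∃ α, α = (A + β * γ) / ((star μ)⁻¹ - μ) := ⟨_, rfl⟩
  have eβ : ζ + β * ν = (star μ)⁻¹ * β := by
    have h3 : β * ((star μ)⁻¹ - ν) = ζ := by rw [hβ]; exact div_mul_cancel₀ _ (sub_ne_zero.2 hne2)
    linear_combination -h3
  have eα : A + α * μ + β * γ = (star μ)⁻¹ * α := by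
    have h3 : α * ((star μ)⁻¹ - μ) = A + β * γ := by rw [hα]; exact div_mul_cancel₀ _ (sub_ne_zero.2 hne1)
    linear_combination -h3
  obtain ⟨v, hv⟩ : ∃ v, v = α • e + f + β • w := ⟨_, rfl⟩
  have hgv : act g v = (star μ)⁻¹ • v := by
    rw [hv, act_add, act_add, act_smul, act_smul, hge, hgf, hgw]
    match_scalars
    · linear_combination eα
    · ring
    · linear_combination eβ
  refine ⟨v, ?_, ?_, hgv, fun y hy => ?_⟩
  · rw [hv, herm_add_right, herm_add_right, herm_smul_right, herm_smul_right, P.ee, P.ef, (P.herm_W hw).1]; ring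
  · have h3 := herm_act hstar g v v
    rw [hgv, herm_smul_left, herm_smul_right, star_inv₀, star_star, ← mul_assoc] at h3
    by_contra hvv
    refine h1 ?_
    have h4 : μ⁻¹ * (star μ)⁻¹ = 1 := (mul_eq_right₀ hvv).1 h3
    rw [← mul_inv, inv_eq_one] at h4
    rw [pow_succ', ← hstar]
    exact h4
  · obtain ⟨z, hz⟩ : ∃ z, z = y - herm e y • v := ⟨_, rfl⟩
    have hgz : act g z = (star μ)⁻¹ • z := by
      rw [hz, act_sub, act_smul, hy, hgv, smul_sub, smul_comm]
    have hez : herm e z = 0 := by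
      rw [hz, hv, herm_sub_right, herm_smul_right, herm_add_right, herm_add_right, herm_smul_right, herm_smul_right,
        P.ee, P.ef, (P.herm_W hw).1]
      ring
    obtain ⟨a, ha⟩ : ∃ a, a = herm f z := ⟨_, rfl⟩
    obtain ⟨b, hb⟩ : ∃ b, b = herm w (projW e f z) := ⟨_, rfl⟩
    have hdec : z = a • e + b • w := by
      rw [hb, ← W_eq hF P hw hww (P.projW_mem z), ha]
      conv_lhs => rw [eq_projW_add e f z, hez, zero_smul, add_zero]
    rw [hdec, act_add, act_smul, act_smul, hge, hgw] at hgz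
    have hb0 : b = 0 := by
      have h3 := congrArg (herm w) hgz
      simp only [herm_add_right, herm_smul_right, hww, (P.W_herm hw).1, mul_zero, add_zero, zero_add, mul_one] at h3
      by_contra hb0
      exact hne2 (mul_right_cancel₀ hb0 (by linear_combination -h3))
    have ha0 : a = 0 := by
      rw [hb0] at hgz
      have h3 := congrArg (herm f) hgz
      simp only [herm_add_right, herm_smul_right, P.fe, zero_mul, mul_zero, add_zero, mul_one, zero_smul,
        herm_zero_right] at h3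
      by_contra ha0
      exact hne1 (mul_right_cancel₀ ha0 (by linear_combination -h3))
    rw [ha0, hb0, zero_smul, zero_smul, add_zero] at hdec
    rw [hdec] at hz
    exact sub_eq_zero.1 hz.symm

/-- In even characteristic the fixed points of a torus element get exchanged by an element of odd order. -/
theorem no_even (hq : Even q) (hq4 : 3 ≤ q) {H : Subgroup (Cfsg.SU 3 F q)}
    (hs : (par1 q P).relIndex H = q ^ 3 + 1) (hodd : Odd (Nat.card H))
    (hX : ∀ x ∈ H, x ∈ rad hstar P → x = 1) (hD : torD P H = ⊤) : False := by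
  obtain ⟨ν, hν⟩ := exists_primitive hstar hF
  have hfac := Hermitian.sq_sub_one q
  have hsq : 3 * q ≤ q * q := Nat.mul_le_mul_right q hq4
  have hne : ∀ k : ℕ, 0 < k → k < q ^ 2 - 1 → (ν : F) ^ k ≠ 1 := fun k hk hk' h => by
    have := Nat.le_of_dvd hk ((pow_eq_one_iff hstar hF hν k).1 h)
    omega
  have key1 : (ν : F) ^ (q + 1) ≠ 1 := hne _ (by omega) (by rw [pow_two]; omega)
  have key2 : (ν : F) ^ (2 * q - 1) ≠ 1 := hne _ (by omega) (by rw [pow_two]; omega)
  obtain ⟨g, hgH, hgP, hgs⟩ := (mem_torD P).1 (hD ▸ Subgroup.mem_top ν)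
  obtain ⟨v, hev, hvv, hgv, hvu⟩ := exists_second (hstar := hstar) hF P hgP hgs key1 key2
  have hv0 : v ≠ 0 := fun h => by rw [h, herm_zero_right] at hev; exact zero_ne_one hev
  have hcomm : ∀ x ∈ H, x ∈ par1 q P → x * g = g * x := by
    intro x hx hxP
    refine inv_mul_eq_one.1 (hX _ (mul_mem (inv_mem (mul_mem hx hgH)) (mul_mem hgH hx)) ?_)
    refine mem_rad_of_sc hstar hF P (mul_mem (inv_mem (mul_mem hxP hgP)) (mul_mem hgP hxP)) ?_
    have h1 := sc_mul P (mul_mem hxP hgP) (mul_mem (inv_mem (mul_mem hxP hgP)) (mul_mem hgP hxP))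
    rw [mul_inv_cancel_left, sc_mul P hgP hxP, sc_mul P hxP hgP, mul_comm (sc e f g)] at h1
    exact (mul_eq_left₀ (mul_ne_zero (sc_ne_zero P hxP) (sc_ne_zero P hgP))).1 h1.symm
  have hfix : ∀ x ∈ H, x ∈ par1 q P → act x v = (star (sc e f x))⁻¹ • v := by
    intro x hx hxP
    have h1 : act g (act x v) = (star (ν : F))⁻¹ • act x v := by
      rw [← act_mul, ← hcomm x hx hxP, act_mul, hgv, act_smul]
    have h2 := hvu _ h1
    have h3 := herm_act hstar x e v
    rw [act_point P hxP, herm_smul_left, hev] at h3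
    rwa [eq_inv_of_mul_eq_one_right h3] at h2
  obtain ⟨g0, hg0⟩ := exists_move_point hstar hF P le_rfl hv0 hvv
  obtain ⟨p, hp, h, hh, hg0'⟩ := trans_decomp (hstar := hstar) hF P hs g0
  have hhe : ∃ c : F, act h e = c • v := by
    refine ⟨(sc e f p)⁻¹, ?_⟩
    rw [← hg0, hg0', act_mul, act_point P hp, act_smul, smul_smul, inv_mul_cancel₀ (sc_ne_zero P hp), one_smul]
  obtain ⟨c, hc⟩ := hhe
  obtain ⟨g', hg'⟩ : ∃ g', g' = h⁻¹ * g * h := ⟨_, rfl⟩
  have hg'H : g' ∈ H := hg' ▸ mul_mem (mul_mem (inv_mem hh) hgH) hh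
  have hg'e : act g' e = (star (ν : F))⁻¹ • e := by
    rw [hg', act_mul, act_mul, hc, act_smul, hgv, smul_comm, act_smul, ← hc, act_inv_act]
  have hg'P : g' ∈ par1 q P := ⟨_, hg'e⟩
  have hg's : sc e f g' = (star (ν : F))⁻¹ := by rw [sc, hg'e, herm_smul_right, P.fe, mul_one]
  have key1' : ((star (ν : F))⁻¹) ^ (q + 1) ≠ 1 := fun h => key1 (by
    rw [← star_inv₀, ← star_pow] at h
    have h' := congrArg star h
    rwa [star_star, star_one, inv_pow, inv_eq_one] at h')
  have key2' : ((star (ν : F))⁻¹) ^ (2 * q - 1) ≠ 1 := fun h => key2 (by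
    rw [← star_inv₀, ← star_pow] at h
    have h' := congrArg star h
    rwa [star_star, star_one, inv_pow, inv_eq_one] at h')
  obtain ⟨v', -, -, -, hvu'⟩ := exists_second (hstar := hstar) hF P hg'P hg's key1' key2'
  rw [star_inv₀, star_star, inv_inv] at hvu'
  have hv' : v = v' := by
    have h1 := hvu' v (by rw [hfix _ hg'H hg'P, hg's, star_inv₀, star_star, inv_inv])
    rwa [hev, one_smul] at h1
  have hy : act g' (act h⁻¹ e) = (ν : F) • act h⁻¹ e := by
    rw [hg', act_mul, act_mul, act_act_inv, act_point P hgP, hgs, act_smul]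
  have hhv : ∃ d : F, act h v = d • e := by
    have h1 := hvu' _ hy
    rw [← hv'] at h1
    have hd0 : herm e (act h⁻¹ e) ≠ 0 := fun h0 => Pair.ne_zero P (act_injective h⁻¹ (by
      rw [h1, h0, zero_smul]; exact (Matrix.mulVec_zero _).symm))
    have h4 := congrArg (act h) h1
    rw [act_act_inv, act_smul] at h4
    exact ⟨(herm e (act h⁻¹ e))⁻¹, ((inv_smul_eq_iff₀ hd0).2 h4).symm⟩
  obtain ⟨d, hd⟩ := hhv
  have halt : ∀ k : ℕ, (Even k → ∃ a : F, act (h ^ k) e = a • e) ∧ (Odd k → ∃ a : F, act (h ^ k) e = a • v) := by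
    intro k
    induction k with
    | zero => exact ⟨fun _ => ⟨1, by rw [pow_zero, act_one, one_smul]⟩, fun h => absurd h (by simp)⟩
    | succ k ih =>
      refine ⟨fun hk => ?_, fun hk => ?_⟩
      · obtain ⟨a, ha⟩ := ih.2 (Nat.not_even_iff_odd.1 fun h' => by simp [Nat.even_add_one, h'] at hk)
        exact ⟨a * d, by rw [pow_succ', act_mul, ha, act_smul, hd, smul_smul]⟩
      · obtain ⟨a, ha⟩ := ih.1 (Nat.not_odd_iff_even.1 fun h' => by simp [Nat.odd_add_one, h'] at hk)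
        exact ⟨a * c, by rw [pow_succ', act_mul, ha, act_smul, hc, smul_smul]⟩
  obtain ⟨a, ha⟩ := (halt _).2 hodd
  have hone : h ^ Nat.card H = 1 := congrArg Subtype.val (pow_card_eq_one' (x := (⟨h, hh⟩ : H)))
  rw [hone, act_one] at ha
  have h5 := congrArg (herm e) ha
  rw [P.ee, herm_smul_right, hev, mul_one] at h5
  rw [← h5, zero_smul] at ha
  exact Pair.ne_zero P ha

/-- The regular case. -/
theorem caseA (hq3 : 3 ≤ q) (hq5 : q ≠ 5) {H : Subgroup (Cfsg.SU 3 F q)} (hH : Hyp q H)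
    (h0 : NoRoot hstar e H) {w : Fin 3 → F} (hw : w ∈ Wsub i j) (hww : herm w w = 1)
    (hA : lineScal hstar P H w = ⊥) : False := by
  obtain ⟨hs, -, hc, -⟩ := orbit_facts (hstar := hstar) hF P H
  obtain ⟨hb, hbig⟩ := stab_big (hstar := hstar) hF P hH
  have hX : Nat.card (H ⊓ rad hstar P : Subgroup (Cfsg.SU 3 F q)) = 1 := by
    rw [card_inf_rad hF P hw hww, hA, (noRoot_iff P H).1 h0]
    simp
  rw [hX, one_mul] at hb hc
  have hu : Nat.card Fˣ = q ^ 2 - 1 := by rw [Nat.card_units, Nat.card_eq_fintype_card, hF]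
  have hδ : Nat.card (torD P H) = q ^ 2 - 1 := le_antisymm (hu ▸ (torD P H).card_le_card_group) hb
  have hD : torD P H = ⊤ := Subgroup.eq_top_of_card_eq _ (hδ.trans hu.symm)
  rw [hδ] at hc
  have h2 : 0 < q ^ 2 - 1 := by have := Nat.pow_le_pow_left hq3 2; omega
  have hs' : (par1 q P).relIndex H = q ^ 3 + 1 :=
    le_antisymm hs (Nat.le_of_mul_le_mul_right (hc ▸ hbig) h2)
  rw [hs'] at hc
  have hX1 : ∀ x ∈ H, x ∈ rad hstar P → x = 1 := fun x hx hxr => by
    have hbot := Subgroup.card_eq_one.1 hX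
    exact Subgroup.mem_bot.1 (hbot ▸ Subgroup.mem_inf.2 ⟨hx, hxr⟩)
  by_cases h3 : q = 3
  · subst h3
    exact no_order hstar hF P H (r := 7) (M := 32) (by norm_num) (by norm_num) (by rw [hc]; norm_num) (by norm_num)
      (by decide)
  by_cases h7 : q = 7
  · subst h7
    exact no_order hstar hF P H (r := 43) (M := 384) (by norm_num) (by norm_num) (by rw [hc]; norm_num) (by norm_num)
      (by decide +kernel)
  by_cases h11 : q = 11
  · subst h11
    exact no_order hstar hF P H (r := 37) (M := 4320) (by norm_num) (by norm_num) (by rw [hc]; norm_num) (by norm_num)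
      (by decide +kernel)
  rcases Nat.even_or_odd q with hev | hodd
  · refine no_even (hstar := hstar) hF P hev hq3 hs' ?_ hX1 hD
    rw [hc]
    refine Odd.mul ((hev.pow_of_ne_zero (by norm_num)).add_one) ?_
    exact Nat.Even.sub_odd (by omega) (hev.pow_of_ne_zero (by norm_num)) odd_one
  · obtain ⟨l, hlr, hlo⟩ := exists_real_units (hstar := hstar) hF
    obtain ⟨y, hyH, hyP, hys⟩ := (mem_torD P).1 (hD ▸ Subgroup.mem_top (-1 : Fˣ))
    have hys' : sc e f y = -1 := by simpa using hys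
    have hy2 : y * y = 1 := hX1 _ (mul_mem hyH hyH) (mem_rad_of_sc hstar hF P (mul_mem hyP hyP) (by
      rw [sc_mul P hyP hyP, hys']; ring))
    obtain ⟨m, hm⟩ := hodd
    have hh : orderOf ((l : F) ^ 2) = m := by
      rw [← Units.val_pow_eq_pow_val, orderOf_units, orderOf_pow' _ (by norm_num), hlo,
        show q - 1 = 2 * m by omega, Nat.gcd_mul_right_left, Nat.mul_div_cancel_left _ (by norm_num)]
    exact no_torus_case (hstar := hstar) hF P ⟨m, hm⟩ (by omega) hs' h0 hyH hyP hys' hy2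
      (hD ▸ Subgroup.mem_top l) hlr hh (by omega) (by omega)

end Finite

end Cfsg.Agent.Small.UMinIndex.Three
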