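import Cfsg.Agent.Lib.Small.UMinIndex.ThreeTorus

/-!
The exceptional arithmetic of the field with 121 elements for the minimal index in dimension three.
-/

set_option autoImplicit false
set_option linter.unusedSectionVars false
set_option linter.style.haveILetI false

namespace Cfsg.Agent.Small.UMinIndex.Three

open Matrix Cfsg.Agent.Small Cfsg.Agent.Small.Unitary Cfsg.Agent.Small.UCover

variable {F : Type*} [Field F] [Fintype F] [StarRing F] {q : ℕ} {i j : Fin 3} {e f : Fin 3 → F}
  {hstar : ∀ x : F, star x = x ^ q}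

section Generic

variable {G : Type*} [Group G] [Finite G]

theorem norm_idx {l : ℕ} [Fact l.Prime] (S : Sylow l G) :
    (Subgroup.normalizer ((S : Subgroup G) : Set G)).index = Nat.card (Sylow l G) :=
  (Sylow.card_eq_index_normalizer S).symm

/-- A normal complement moves the Sylow subgroups of another prime. -/
theorem dvd_normalizer {r l : ℕ} [Fact r.Prime] [Fact l.Prime] {K : Subgroup G} [K.Normal] (hK : K.index = r)
    (hl : Nat.card G / Nat.card K = r) {a : ℕ} (hGl : (Nat.card G).factorization l = a)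
    (hKl : (Nat.card K).factorization l = a) (S : Sylow l G) :
    r ∣ Nat.card (Subgroup.normalizer ((S : Subgroup G) : Set G)) := by
  let T : Sylow l K := default
  have hN := T.normalizer_sup_eq_top
  obtain ⟨N, hNd⟩ : ∃ N, N = Subgroup.normalizer ((((T : Subgroup K).map K.subtype) : Subgroup G) : Set G) := ⟨_, rfl⟩
  rw [← hNd] at hN
  have h1 : r ∣ Nat.card N := by
    rw [← hK, ← Subgroup.relIndex_top_right K, ← hN, Subgroup.relIndex_sup_right]
    exact Subgroup.relIndex_dvd_card _ _
  have hT : Nat.card ((T : Subgroup K).map K.subtype) = l ^ (Nat.card G).factorization l := by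
    rw [Subgroup.card_map_of_injective K.subtype_injective, Sylow.card_eq_multiplicity, hKl, hGl]
  let T' : Sylow l G := Sylow.ofCard _ hT
  have h2 : (Subgroup.normalizer ((T' : Subgroup G) : Set G)).index =
      (Subgroup.normalizer ((S : Subgroup G) : Set G)).index := by
    rw [norm_idx, norm_idx]
  have h3 := (Subgroup.normalizer ((S : Subgroup G) : Set G)).card_mul_index
  rw [← (Subgroup.normalizer ((T' : Subgroup G) : Set G)).card_mul_index, h2] at h3
  have h4 := Nat.eq_of_mul_eq_mul_right (Nat.pos_of_ne_zero Subgroup.index_ne_zero_of_finite) h3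
  rw [h4]
  rw [hNd] at h1
  exact h1

end Generic

section Finite

variable (hF : Fintype.card F = q ^ 2) (P : Pair i j e f)
include hF hstar

omit hF in
/-- The scalar of order three. -/
theorem exists_center_three (P : Pair i j e f) (hq : q % 3 = 2) (hF : Fintype.card F = q ^ 2) :
    ∃ z : Cfsg.SU 3 F q, z ∈ Subgroup.center (Cfsg.SU 3 F q) ∧ orderOf z = 3 := by
  obtain ⟨ν, hν⟩ := exists_primitive hstar hF
  have h3 : 3 ∣ q ^ 2 - 1 := by
    rw [Hermitian.sq_sub_one q]
    exact dvd_mul_of_dvd_left (by omega) _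
  have hpos : q ^ 2 - 1 ≠ 0 := by
    have := Nat.pow_le_pow_left (show 2 ≤ q by omega) 2
    omega
  obtain ⟨ω, hω⟩ : ∃ ω : Fˣ, ω = ν ^ ((q ^ 2 - 1) / 3) := ⟨_, rfl⟩
  have hω3 : orderOf ω = 3 := by
    rw [hω, ← hν, orderOf_pow_orderOf_div (hν ▸ hpos) (hν ▸ h3)]
  have hc : (ω : F) ^ 3 = 1 := by
    rw [← Units.val_pow_eq_pow_val, ← hω3, pow_orderOf_eq_one, Units.val_one]
  have hω0 : (ω : F) ≠ 0 := ω.ne_zero
  have hst : star (ω : F) = (ω : F) * ω := by
    rw [hstar, show q = 3 * (q / 3) + 2 by omega, pow_add, pow_mul, hc, one_pow, one_mul, pow_two]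
  have htok : TOk 3 (ω : F) (ω : F) := by
    refine ⟨hω0, by rw [hst, ← pow_three']; exact hc, ?_⟩
    rw [hc, one_mul, hst, mul_inv]
    field_simp
    rw [hc]
  obtain ⟨z, he, hf, hW, -⟩ := exists_tor hstar P htok
  have hsc : ∀ x, act z x = (ω : F) • x := by
    intro x
    have hf' : (star (ω : F))⁻¹ = (ω : F) := by
      rw [hst, inv_eq_of_mul_eq_one_left (show (ω : F) * ((ω : F) * ω) = 1 by rw [← pow_three]; exact hc)]
    rw [hf'] at hf
    conv_lhs => rw [eq_projW_add e f x]
    rw [act_add, act_add, act_smul, act_smul, he, hf, hW _ (P.projW_mem x)]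
    conv_rhs => rw [eq_projW_add e f x]
    module
  refine ⟨z, Subgroup.mem_center_iff.2 fun g => eq_of_act fun x => ?_, ?_⟩
  · rw [act_mul, act_mul, hsc, hsc, act_smul]
  · refine orderOf_eq_prime ?_ fun h => ?_
    · refine eq_of_act fun x => ?_
      rw [pow_three, act_mul, act_mul, hsc, hsc, hsc, smul_smul, smul_smul, act_one, ← pow_three', hc,
        one_smul]
    · have h1 := hsc e
      rw [h, act_one] at h1
      have h2 : (ω : F) = 1 := smul_left_injective F (Pair.ne_zero P) (h1.symm.trans (one_smul F e).symm)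
      rw [Units.val_eq_one] at h2
      rw [h2, orderOf_one] at hω3
      omega

/-- No such subgroup over the field with 121 elements. -/
theorem no_eleven (hq : q = 11) {H : Subgroup (Cfsg.SU 3 F q)} (hH : Hyp q H)
    (hX : Nat.card (H ⊓ rad hstar P : Subgroup (Cfsg.SU 3 F q)) = 11)
    (hHP : Nat.card (H ⊓ par1 q P : Subgroup (Cfsg.SU 3 F q)) = 330) (hc : Nat.card H = 439560) : False := by
  classical
  subst hq
  haveI : Fact (Nat.Prime 37) := ⟨by norm_num⟩
  haveI : Fact (Nat.Prime 11) := ⟨by norm_num⟩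
  let R : Sylow 37 H := default
  have hR : Nat.card (R : Subgroup H) = 37 := by
    rw [Sylow.card_eq_multiplicity, hc, show (439560 : ℕ) = 37 * 11880 by norm_num,
      Nat.factorization_mul (by norm_num) (by norm_num), Finsupp.add_apply, Nat.Prime.factorization_self (by norm_num),
      Nat.factorization_eq_zero_of_not_dvd (by norm_num), pow_one]
  have hRi : (R : Subgroup H).index = 11880 := by
    have := (R : Subgroup H).card_mul_index
    rw [hR, hc] at this
    omega
  obtain ⟨n, hn⟩ : ∃ n, n = Nat.card (Sylow 37 H) := ⟨_, rfl⟩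
  have hdvd : n ∣ 11880 := hn ▸ hRi ▸ R.card_dvd_index
  have hmod : n % 37 = 1 := hn ▸ card_sylow_modEq_one 37 H
  by_cases heven : 2 ∣ 11880 / n
  · have hNn := (Subgroup.normalizer ((R : Subgroup H) : Set H)).card_mul_index
    rw [norm_idx, hc, ← hn] at hNn
    have h2 : 2 ∣ Nat.card (Subgroup.normalizer ((R : Subgroup H) : Set H)) := by
      obtain ⟨b, hb⟩ := hdvd
      rw [hb, Nat.mul_div_cancel_left _ (Nat.pos_of_ne_zero fun h => by rw [h] at hmod; omega)] at heven
      have hpos : 0 < n := Nat.pos_of_ne_zero fun h => by rw [h] at hmod; omega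
      have : Nat.card (Subgroup.normalizer ((R : Subgroup H) : Set H)) = 37 * b :=
        Nat.eq_of_mul_eq_mul_right hpos (hNn.trans (by rw [show (439560 : ℕ) = 37 * 11880 by norm_num, hb]; ring))
      rw [this]
      exact heven.mul_left 37
    obtain ⟨x, hx⟩ := exists_prime_orderOf_dvd_card' 37 (G := ↥(R : Subgroup H)) (dvd_of_eq hR.symm)
    haveI : Fact (Nat.Prime 2) := ⟨Nat.prime_two⟩
    obtain ⟨t, ht⟩ := exists_prime_orderOf_dvd_card' 2 (G := ↥(Subgroup.normalizer ((R : Subgroup H) : Set H))) h2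
    have hzp : Subgroup.zpowers (x : H) = (R : Subgroup H) := by
      refine Subgroup.eq_of_le_of_card_ge (Subgroup.zpowers_le.2 x.2) ?_
      rw [Nat.card_zpowers, Subgroup.orderOf_coe, hx, hR]
    refine no_norm_invol hstar hF P (x := ((x : H) : Cfsg.SU 3 F 11)) (t := ((t : H) : Cfsg.SU 3 F 11)) (r := 37)
      (by norm_num) ?_ (by norm_num) ?_ ?_
    · rw [Subgroup.orderOf_coe, Subgroup.orderOf_coe, hx]
    · rw [Subgroup.orderOf_coe, Subgroup.orderOf_coe, ht]
    · have h := (Subgroup.mem_normalizer_iff.1 t.2 (x : H)).1 x.2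
      have h' : ((t : H) * (x : H) * (t : H)⁻¹) ∈ Subgroup.zpowers (x : H) := by rw [hzp]; exact h
      obtain ⟨m, hm⟩ := Subgroup.mem_zpowers_iff.1 h'
      refine Subgroup.mem_zpowers_iff.2 ⟨m, ?_⟩
      have h1 := congrArg (fun y : H => (y : Cfsg.SU 3 F 11)) hm
      simpa using h1
  have hn3 : n = 3960 := by
    have key : ∀ k ∈ Nat.divisors 11880, k % 37 = 1 → ¬ 2 ∣ 11880 / k → k = 3960 := by decide +kernel
    exact key n (Nat.mem_divisors.2 ⟨hdvd, by norm_num⟩) hmod heven
  obtain ⟨z, hzc, hz3⟩ := exists_center_three (hstar := hstar) P (by norm_num) hF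
  obtain ⟨zH, hzH⟩ : ∃ zH : H, zH.1 = z := ⟨⟨z, hH.center hzc⟩, rfl⟩
  have hzcomm : ∀ y : H, y * zH = zH * y := fun y => Subtype.ext (by
    show y.1 * zH.1 = zH.1 * y.1
    rw [hzH]; exact Subgroup.mem_center_iff.1 hzc y.1)
  have hzo : orderOf zH = 3 := by rw [← Subgroup.orderOf_coe, hzH, hz3]
  haveI : (Subgroup.zpowers zH).Normal := ⟨fun a ha g => by
    obtain ⟨k, rfl⟩ := Subgroup.mem_zpowers_iff.1 ha
    have : Commute g (zH ^ k) := (show Commute g zH from hzcomm g).zpow_right k
    rw [this.eq, mul_inv_cancel_right]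
    exact Subgroup.zpow_mem _ (Subgroup.mem_zpowers _) k⟩
  have hRcomm : IsMulCommutative (R : Subgroup H) := by
    haveI := isCyclic_of_prime_card hR
    exact inferInstance
  have hle : Subgroup.normalizer ((R : Subgroup H) : Set H) ≤ Subgroup.centralizer ((R : Subgroup H) : Set H) := by
    have h1 : (R : Subgroup H) ⊔ Subgroup.zpowers zH ≤ Subgroup.centralizer ((R : Subgroup H) : Set H) := by
      refine sup_le (fun a ha => ?_) (Subgroup.zpowers_le.2 ?_)
      · exact Subgroup.mem_centralizer_iff.2 fun b hb =>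
          congrArg Subtype.val (hRcomm.is_comm.comm (⟨b, hb⟩ : (R : Subgroup H)) ⟨a, ha⟩)
      · exact Subgroup.mem_centralizer_iff.2 fun b _ => hzcomm b
    refine le_trans (le_of_eq (Subgroup.eq_of_le_of_card_ge ?_ ?_).symm) h1
    · exact sup_le Subgroup.le_normalizer (Subgroup.zpowers_le.2 (Subgroup.mem_normalizer_iff.2 fun a => by
        rw [show zH * a * zH⁻¹ = a by rw [← hzcomm a, mul_inv_cancel_right]]))
    · have hN := (Subgroup.normalizer ((R : Subgroup H) : Set H)).card_mul_index
      rw [norm_idx, ← hn, hn3, hc] at hN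
      have h37 : 37 ∣ Nat.card ↥((R : Subgroup H) ⊔ Subgroup.zpowers zH) :=
        (dvd_of_eq hR.symm).trans (Subgroup.card_dvd_of_le le_sup_left)
      have h3 : 3 ∣ Nat.card ↥((R : Subgroup H) ⊔ Subgroup.zpowers zH) := by
        have := Subgroup.card_dvd_of_le (le_sup_right (a := (R : Subgroup H)) (b := Subgroup.zpowers zH))
        rwa [Nat.card_zpowers, hzo] at this
      have h111 := Nat.le_of_dvd Nat.card_pos ((show Nat.Coprime 37 3 by norm_num).mul_dvd_of_dvd_of_dvd h37 h3)
      omega
  have hcompl := MonoidHom.ker_transferSylow_isComplement' R hle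
  obtain ⟨K, hK⟩ : ∃ K, K = (MonoidHom.transferSylow R hle).ker := ⟨_, rfl⟩
  rw [← hK] at hcompl
  have hKc : Nat.card K = 11880 := by
    have := hcompl.card_mul
    rw [hR, hc] at this
    omega
  haveI : K.Normal := hK ▸ MonoidHom.normal_ker _
  have hKi : K.index = 37 := by
    have := K.card_mul_index
    rw [hKc, hc] at this
    omega
  have hfac : ∀ m, m = 439560 ∨ m = 11880 → m.factorization 11 = 1 := by
    intro m hm
    rcases hm with rfl | rfl
    · rw [show (439560 : ℕ) = 11 * 39960 by norm_num, Nat.factorization_mul (by norm_num) (by norm_num),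
        Finsupp.add_apply, Nat.Prime.factorization_self (by norm_num), Nat.factorization_eq_zero_of_not_dvd (by norm_num)]
    · rw [show (11880 : ℕ) = 11 * 1080 by norm_num, Nat.factorization_mul (by norm_num) (by norm_num),
        Finsupp.add_apply, Nat.Prime.factorization_self (by norm_num), Nat.factorization_eq_zero_of_not_dvd (by norm_num)]
  obtain ⟨X, hXd⟩ : ∃ X : Subgroup H, X = (H ⊓ rad hstar P).subgroupOf H := ⟨_, rfl⟩
  have hXc : Nat.card X = 11 ^ (Nat.card H).factorization 11 := by
    rw [hXd, Nat.card_congr (Subgroup.subgroupOfEquivOfLe inf_le_left).toEquiv, hX, hc, hfac _ (Or.inl rfl), pow_one]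
  have hd := dvd_normalizer (r := 37) (l := 11) hKi (by rw [hKc, hc]) (a := 1) (by rw [hc, hfac _ (Or.inl rfl)])
    (by rw [hKc, hfac _ (Or.inr rfl)]) (Sylow.ofCard X hXc)
  have hN : Subgroup.normalizer ((X : Subgroup H) : Set H) ≤ (H ⊓ par1 11 P).subgroupOf H := by
    intro t ht
    refine Subgroup.mem_subgroupOf.2 ⟨t.2, ?_⟩
    by_contra htP
    obtain ⟨x, hx⟩ := exists_prime_orderOf_dvd_card' 11 (G := X) (dvd_of_eq (by rw [hXc, hc, hfac _ (Or.inl rfl), pow_one]))
    have hxX : ((x : H) : Cfsg.SU 3 F 11) ∈ rad hstar P := by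
      have h1 := x.2
      simp only [hXd, Subgroup.mem_subgroupOf] at h1
      exact h1.2
    have h1 : t⁻¹ * (x : H) * t ∈ X := by
      have h2 := (Subgroup.mem_normalizer_iff.1 (inv_mem ht) (x : H)).1 x.2
      rwa [inv_inv] at h2
    simp only [hXd, Subgroup.mem_subgroupOf, Subgroup.coe_mul, Subgroup.coe_inv] at h1
    have hx1 : ((x : H) : Cfsg.SU 3 F 11) = 1 := rad_free (hstar := hstar) hF P hxX (rad_le_par P h1.2) htP
    rw [show x = 1 from Subtype.ext (Subtype.ext hx1), orderOf_one] at hx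
    omega
  have hd2 := hd.trans (Subgroup.card_dvd_of_le hN)
  rw [Nat.card_congr (Subgroup.subgroupOfEquivOfLe inf_le_left).toEquiv, hHP] at hd2
  omega

end Finite

end Cfsg.Agent.Small.UMinIndex.Three
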