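import Cfsg.Agent.Lib.Small.UMinIndex.ThreeA
import Cfsg.Agent.Lib.Small.UMinIndex.ThreeEleven

/-!
Subgroups of small index in dimension three without root elements at a point but with radical elements there.
-/

set_option autoImplicit false
set_option linter.unusedSectionVars false
set_option linter.style.haveILetI false

namespace Cfsg.Agent.Small.UMinIndex.Three

open Matrix Cfsg.Agent.Small Cfsg.Agent.Small.Unitary Cfsg.Agent.Small.UCover

variable {F : Type*} [Field F] [Fintype F] [StarRing F] {q : ℕ} {i j : Fin 3} {e f : Fin 3 → F}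
  {hstar : ∀ x : F, star x = x ^ q}

section Units

theorem kap_eq (hstar : ∀ x : F, star x = x ^ q) (hq : 1 ≤ q) (μ : Fˣ) :
    star (μ : F) * (star (μ : F) / μ) = (μ : F) ^ (2 * q - 1) := by
  rw [hstar, mul_div_assoc', div_eq_iff μ.ne_zero, ← pow_add, ← pow_succ]
  congr 1
  omega

/-- Units acting through a power on a finite additive group of scalars. -/
theorem card_pow_le (D : Subgroup Fˣ) (A : AddSubgroup F) (n : ℕ)
    (h : ∀ μ ∈ D, ∀ α ∈ A, (μ : F) ^ n * α ∈ A) :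
    Nat.card (D.map (powMonoidHom n)) ∣ Nat.card A - 1 := by
  classical
  refine (card_dvd_of_mul _ {x : Fˣ | (x : F) ∈ A} ?_).trans (dvd_of_eq ?_)
  · rintro _ ⟨μ, hμ, rfl⟩ x hx
    show ((μ ^ n * x : Fˣ) : F) ∈ A
    rw [Units.val_mul, Units.val_pow_eq_pow_val]
    exact h μ hμ x hx
  · haveI : Fintype A := Fintype.ofFinite _
    rw [show Nat.card {x : Fˣ | (x : F) ∈ A} = Nat.card {a : A // a ≠ 0} from Nat.card_congr
      { toFun := fun x => ⟨⟨(x.1 : F), x.2⟩, fun h => x.1.ne_zero (congrArg Subtype.val h)⟩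
        invFun := fun a => ⟨Units.mk0 a.1.1 (fun h => a.2 (Subtype.ext h)), a.1.2⟩
        left_inv := fun x => Subtype.ext (Units.ext rfl)
        right_inv := fun a => rfl },
      Nat.card_eq_fintype_card, Fintype.card_subtype_compl, Fintype.card_subtype_eq, Nat.card_eq_fintype_card]

theorem card_split (D : Subgroup Fˣ) (n : ℕ) :
    ∃ k, Nat.card D = k * Nat.card (D.map (powMonoidHom n)) ∧ k ∣ n ∧ k ∣ Nat.card D := by
  let φ : D →* Fˣ := (powMonoidHom n).comp D.subtype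
  refine ⟨Nat.card φ.ker, ?_, ?_, φ.ker.card_subgroup_dvd_card⟩
  · have h := φ.ker.card_mul_index
    rw [Subgroup.index_ker] at h
    rw [← h]
    congr 1
    rw [show φ.range = D.map (powMonoidHom n) by
      rw [MonoidHom.range_eq_map, ← Subgroup.map_map, ← MonoidHom.range_eq_map, Subgroup.range_subtype]]
  · rw [← Subgroup.card_map_of_injective D.subtype_injective (K := φ.ker)]
    refine card_dvd_of_pow _ ?_
    rintro _ ⟨x, hx, rfl⟩
    exact hx

/-- The unique subgroup of units of its order. -/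
theorem mem_of_pow (D : Subgroup Fˣ) {x : Fˣ} (h : x ^ Nat.card D = 1) : x ∈ D := by
  classical
  haveI : Fintype D := Fintype.ofFinite _
  have hsub : (Finset.univ.filter fun y : Fˣ => y ∈ D) ⊆ Finset.univ.filter fun y : Fˣ => y ^ Nat.card D = 1 := by
    intro y hy
    rw [Finset.mem_filter] at hy ⊢
    exact ⟨hy.1, congrArg Subtype.val (pow_card_eq_one' (x := (⟨y, hy.2⟩ : D)))⟩
  have hle := IsCyclic.card_pow_eq_one_le (α := Fˣ) (n := Nat.card D) Nat.card_pos
  have heq := Finset.eq_of_subset_of_card_le hsub (hle.trans (le_of_eq (by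
    rw [Nat.card_eq_fintype_card, Fintype.card_subtype])))
  have : x ∈ Finset.univ.filter fun y : Fˣ => y ∈ D := heq ▸ Finset.mem_filter.2 ⟨Finset.mem_univ x, h⟩
  exact (Finset.mem_filter.1 this).2

end Units

section Finite

variable (hF : Fintype.card F = q ^ 2) (P : Pair i j e f)
include hF hstar

/-- Without root elements the parameters lie on one real line. -/
theorem real_ratio {H : Subgroup (Cfsg.SU 3 F q)} (h0 : NoRoot hstar e H) {w : Fin 3 → F} (hw : w ∈ Wsub i j)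
    (hww : herm w w = 1) {α β : F} (hα : α ∈ lineScal hstar P H w) (hβ : β ∈ lineScal hstar P H w) (hα0 : α ≠ 0) :
    star (β / α) = β / α := by
  have h := comm_root (hstar := hstar) P hw hww hα hβ
  have h1 := h0 _ h.1 h.2
  rw [star_div₀, div_eq_div_iff (star_ne_zero.2 hα0) hα0]
  linear_combination h1

/-- The numbers of the irregular case. -/
theorem numbersB (hq3 : 3 ≤ q) (hq5 : q ≠ 5) {H : Subgroup (Cfsg.SU 3 F q)} (hH : Hyp q H)
    (h0 : NoRoot hstar e H) {w : Fin 3 → F} (hw : w ∈ Wsub i j) (hww : herm w w = 1) {α : F}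
    (hα : α ∈ lineScal hstar P H w) (hα0 : α ≠ 0) :
    Odd q ∧ q % 3 = 2 ∧ Nat.card (H ⊓ rad hstar P : Subgroup (Cfsg.SU 3 F q)) = q ∧
      ∃ m, 1 ≤ m ∧ m ≤ 2 ∧ Nat.card (torD P H) * m = 3 * (q - 1) ∧ (par1 q P).relIndex H = q ^ 3 + 1 := by
  classical
  obtain ⟨hsle, ⟨k, hk⟩, hc, hN⟩ := orbit_facts (hstar := hstar) hF P H
  obtain ⟨hb, -⟩ := stab_big (hstar := hstar) hF P hH
  obtain ⟨p, t, σ, hp, hchar, hqp, ht, -⟩ := Classical.exists_usigma hF
  have hodd : Odd q := by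
    rcases two_or hF with ⟨h2, -⟩ | ⟨-, h⟩
    · exfalso
      have h1 := prm_iso P h0 h2 hα
      rw [herm_smul_left, herm_smul_right, hww, mul_one, mul_eq_zero, star_eq_zero] at h1
      exact hα0 (h1.elim id id)
    · exact h
  obtain ⟨a, ha⟩ : ∃ a, a = Nat.card (lineScal hstar P H w) := ⟨_, rfl⟩
  have hX : Nat.card (H ⊓ rad hstar P : Subgroup (Cfsg.SU 3 F q)) = a := by
    rw [card_inf_rad hF P hw hww, (noRoot_iff P H).1 h0, ha]
    simp
  rw [hX] at hk hc hb
  have hareal : a ≤ q := by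
    rw [ha]
    refine le_trans ?_ (card_skew hstar hF).le
    obtain ⟨L, θ, C⟩ := exists_chart hstar hF P
    refine Nat.card_le_card_of_injective (fun β => ⟨β.1 / α * θ, by
      rw [star_mul', real_ratio hF P h0 hw hww hα β.2 hα0, C.skew, mul_neg]⟩) fun β γ h => ?_
    have h1 : β.1 / α * θ = γ.1 / α * θ := congrArg Subtype.val h
    exact Subtype.ext ((div_left_inj' hα0).1 (mul_right_cancel₀ C.ne h1))
  have ha1 : 1 < a := by
    rw [ha]
    exact Finite.one_lt_card_iff_nontrivial.2 ⟨⟨α, hα⟩, 0, fun h => hα0 (congrArg Subtype.val h)⟩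
  obtain ⟨x, -, hax⟩ : ∃ x, x ≤ 2 * t ∧ a = p ^ x := (Nat.dvd_prime_pow hp).1 (by
    rw [ha, mul_comm, pow_mul, ← hqp, ← hF, ← Nat.card_eq_fintype_card]
    exact AddSubgroup.card_addSubgroup_dvd_card _)
  have hp3 : 3 ≤ p := by
    have := hp.two_le
    by_contra h
    obtain rfl : p = 2 := by omega
    exact Nat.not_even_iff_odd.2 hodd (hqp ▸ Nat.even_pow.2 ⟨even_two, ht.ne'⟩)
  -- the image of the scalars
  obtain ⟨δ, hδ⟩ : ∃ δ, δ = Nat.card (torD P H) := ⟨_, rfl⟩
  rw [← hδ] at hc hb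
  have hκ : ∀ μ ∈ torD P H, ∀ β ∈ lineScal hstar P H w, (μ : F) ^ (2 * q - 1) * β ∈ lineScal hstar P H w :=
    fun μ hμ β hβ => by
      rw [← kap_eq hstar (by omega) μ]
      exact kappa_mem hF P hw hμ hβ
  have himg := card_pow_le (torD P H) (lineScal hstar P H w) (2 * q - 1) hκ
  rw [← ha] at himg
  obtain ⟨k', hk1, hk2, hk3⟩ := card_split (torD P H) (2 * q - 1)
  have hu : Nat.card Fˣ = q ^ 2 - 1 := by rw [Nat.card_units, Nat.card_eq_fintype_card, hF]
  have hδu : δ ∣ q ^ 2 - 1 := hδ ▸ hu ▸ Subgroup.card_subgroup_dvd_card _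
  have hk3' : k' ∣ 3 := by
    have h1 : k' ∣ 4 * (q ^ 2 - 1) := ((hδ ▸ hk3).trans hδu).mul_left 4
    have h2 : k' ∣ (2 * q - 1) * (2 * q + 1) := hk2.mul_right _
    have h3 : (2 * q - 1) * (2 * q + 1) = 4 * (q ^ 2 - 1) + 3 := by
      obtain ⟨r, rfl⟩ : ∃ r, q = r + 1 := ⟨q - 1, by omega⟩
      rw [show (r + 1) ^ 2 - 1 = r * (r + 2) from Nat.sub_eq_of_eq_add (by ring), show 2 * (r + 1) - 1 = 2 * r + 1 by omega]
      ring
    rw [h3] at h2
    exact (Nat.dvd_add_right h1).1 h2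
  have hδle : δ ≤ k' * (a - 1) := by
    rw [hδ, hk1]
    exact Nat.mul_le_mul_left _ (Nat.le_of_dvd (by omega) himg)
  have hk'3 : k' ≤ 3 := Nat.le_of_dvd (by norm_num) hk3'
  have hqq : q ^ 2 = q * q := pow_two q
  have hsqb : 3 * q ≤ q * q := Nat.mul_le_mul_right q hq3
  have haq : a = q := by
    by_contra hne
    have hlt : p ^ x < p ^ t := by omega
    have hxt : x + 1 ≤ t := (Nat.pow_lt_pow_iff_right hp.one_lt).1 hlt
    have h3a : 3 * a ≤ q := by
      rw [hax, hqp]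
      calc 3 * p ^ x ≤ p * p ^ x := Nat.mul_le_mul_right _ hp3
        _ = p ^ (x + 1) := (pow_succ' _ _).symm
        _ ≤ p ^ t := Nat.pow_le_pow_right hp.pos hxt
    have h1 : a * δ ≤ a * (3 * (a - 1)) := Nat.mul_le_mul_left _ (hδle.trans (Nat.mul_le_mul_right _ hk'3))
    have h2 : a * (3 * (a - 1)) ≤ q * (a - 1) := by
      rw [← mul_assoc, mul_comm a 3]; exact Nat.mul_le_mul_right _ h3a
    have h4 : 3 * (q * (a - 1)) ≤ q * q := by
      rw [mul_left_comm]; exact Nat.mul_le_mul_left q (by omega)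
    omega
  rw [haq] at hk hc hb hδle himg hX
  have hδge : q ≤ δ := by
    by_contra hlt
    have : q * δ ≤ q * (q - 1) := Nat.mul_le_mul_left _ (by omega)
    rw [Nat.mul_sub, mul_one] at this
    omega
  have hk'1 : k' = 3 := by
    rcases (Nat.dvd_prime Nat.prime_three).1 hk3' with h | h
    · rw [h, one_mul] at hδle; omega
    · exact h
  have hmod : q % 3 = 2 := by
    rw [hk'1] at hk2
    omega
  have hδ3 : δ ∣ 3 * (q - 1) := by
    have h1 : δ ∣ (2 * q - 1) * (q - 1) := by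
      rw [hδ]
      refine card_dvd_of_pow _ fun μ hμ => Units.ext ?_
      have h2 := real_ratio (hstar := hstar) hF P h0 hw hww hα (hκ μ hμ α hα) hα0
      rw [mul_div_cancel_right₀ _ hα0, hstar] at h2
      rw [Units.val_pow_eq_pow_val, Units.val_one, pow_mul]
      refine mul_right_cancel₀ (pow_ne_zero (2 * q - 1) μ.ne_zero) ?_
      rw [← pow_succ, show q - 1 + 1 = q by omega, one_mul]
      exact h2
    have h2 : δ ∣ (q + 1) * (q - 1) := by rw [← Hermitian.sq_sub_one q]; exact hδu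
    refine (Nat.dvd_gcd h1 h2).trans ?_
    rw [Nat.gcd_mul_right]
    refine mul_dvd_mul_right ?_ _
    have g1 := Nat.gcd_dvd_left (2 * q - 1) (q + 1)
    have g2 := (Nat.gcd_dvd_right (2 * q - 1) (q + 1)).mul_left 2
    have g3 := Nat.dvd_sub g2 g1
    rwa [show 2 * (q + 1) - (2 * q - 1) = 3 by omega] at g3
  obtain ⟨m, hm⟩ := hδ3
  have hm1 : 1 ≤ m := by
    rcases Nat.eq_zero_or_pos m with h | h
    · rw [h, mul_zero] at hm; omega
    · exact h
  have hm2 : m ≤ 2 := by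
    by_contra h
    have h1 : δ * 3 ≤ δ * m := Nat.mul_le_mul_left _ (by omega)
    omega
  refine ⟨hodd, hmod, hX, m, hm1, hm2, by rw [← hδ, hm], ?_⟩
  obtain ⟨N, hNd⟩ : ∃ N, N = H.index := ⟨_, rfl⟩
  obtain ⟨S, hS⟩ : ∃ S, S = (par1 q P).relIndex H := ⟨_, rfl⟩
  rw [← hS] at hk hc hsle ⊢
  rw [← hNd, hc] at hN
  have hN' : 3 * S * N = m * ((q ^ 3 + 1) * (q + 1)) * q ^ 2 := by
    refine Nat.eq_of_mul_eq_mul_left (show 0 < q * (q - 1) from Nat.mul_pos (by omega) (by omega)) ?_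
    calc q * (q - 1) * (3 * S * N) = N * (S * (q * (3 * (q - 1)))) := by ring
      _ = N * (S * (q * δ)) * m := by rw [hm]; ring
      _ = (q ^ 3 + 1) * (q ^ 3 * (q ^ 2 - 1)) * m := by rw [hN]
      _ = _ := by rw [Hermitian.sq_sub_one q]; ring
  have hcop : Nat.Coprime (q ^ 2) (3 * S) := by
    refine Nat.Coprime.pow_left 2 (Nat.Coprime.mul_right ?_ ?_)
    · rw [Nat.coprime_comm, Nat.prime_three.coprime_iff_not_dvd]; omega
    · rw [hk, show 1 + k * q = 1 + q * k by ring, Nat.coprime_add_mul_left_right]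
      exact Nat.coprime_one_right q
  obtain ⟨M, hM⟩ := hcop.dvd_of_dvd_mul_left (m := 3 * S) (k := q ^ 2) (n := N) (hN' ▸ dvd_mul_left _ _)
  have hM1 : 3 * S * M = m * ((q ^ 3 + 1) * (q + 1)) := by
    refine Nat.eq_of_mul_eq_mul_right (show 0 < q ^ 2 by positivity) ?_
    rw [← hN', hM]; ring
  have hMq : M ≤ q := by
    have h1 : q ^ 2 * M ≤ q ^ 2 * q := by rw [← hM, ← pow_succ, hNd]; exact hH.small
    exact Nat.le_of_mul_le_mul_left h1 (by positivity)
  have hMm : 3 * M % q = m := by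
    have h1 : 3 * S * M % q = 3 * M % q := by
      rw [hk, show 3 * (1 + k * q) * M = 3 * M + q * (3 * k * M) by ring, Nat.add_mul_mod_self_left]
    have h2 : m * ((q ^ 3 + 1) * (q + 1)) % q = m % q := by
      rw [show m * ((q ^ 3 + 1) * (q + 1)) = m + q * (m * (q ^ 3 + q ^ 2 + 1)) by ring, Nat.add_mul_mod_self_left]
    rw [← h1, hM1, h2, Nat.mod_eq_of_lt (by omega)]
  have hdm := Nat.div_add_mod (3 * M) q
  rw [hMm] at hdm
  have hz : 3 * M / q ≤ 3 := Nat.div_le_of_le_mul (by rw [mul_comm q 3]; omega)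
  have h3M : 3 * M = m * (q + 1) := by
    obtain ⟨z, hzd⟩ : ∃ z, z = 3 * M / q := ⟨_, rfl⟩
    rw [← hzd] at hdm hz
    interval_cases z <;> interval_cases m <;> omega
  refine Nat.eq_of_mul_eq_mul_right (show 0 < 3 * M from h3M ▸ Nat.mul_pos hm1 (by omega)) ?_
  rw [show S * (3 * M) = 3 * S * M by ring, hM1, h3M]
  ring

/-- An involution on the point when the stabiliser has even order. -/
theorem exists_invol {H : Subgroup (Cfsg.SU 3 F q)} (hq : Odd q) (heven : 2 ∣ Nat.card (torD P H)) :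
    ∃ y ∈ H, y ∈ par1 q P ∧ sc e f y = -1 ∧ y * y = 1 := by
  haveI : Fact (Nat.Prime 2) := ⟨Nat.prime_two⟩
  obtain ⟨μ, hμ⟩ := exists_prime_orderOf_dvd_card' 2 heven
  have hμ1 : (μ : Fˣ) = -1 := by
    have h1 : ((μ : Fˣ) : F) * ((μ : Fˣ) : F) = 1 := by
      have h2 := pow_orderOf_eq_one μ
      rw [hμ, pow_two] at h2
      simpa using congrArg (fun x : torD P H => ((x : Fˣ) : F)) h2
    rcases mul_self_eq_one_iff.1 h1 with h | h
    · exfalso
      rw [show μ = 1 from Subtype.ext (Units.ext h), orderOf_one] at hμ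
      omega
    · exact Units.ext (by simpa using h)
  obtain ⟨g, hgH, hgP, hgs⟩ := (mem_torD P).1 μ.2
  have hgs' : sc e f g = -1 := by rw [hgs, hμ1]; simp
  have hsq : g * g ∈ rad hstar P := mem_rad_of_sc hstar hF P (mul_mem hgP hgP) (by
    rw [sc_mul P hgP hgP, hgs']; ring)
  refine ⟨g ^ q ^ 3, pow_mem hgH _, pow_mem hgP _, ?_, ?_⟩
  · have h1 : scH P ((⟨g, hgP⟩ : ↥(par1 q P)) ^ q ^ 3) = (-1 : Fˣ) := by
      rw [map_pow, show scH P ⟨g, hgP⟩ = (-1 : Fˣ) from Units.ext (by rw [scH_val, hgs']; simp),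
        (hq.pow).neg_one_pow]
    have h2 := congrArg Units.val h1
    rw [scH_val] at h2
    simpa using h2
  · rw [← pow_add, ← two_mul, pow_mul, pow_two, ← card_rad_eq hstar hF (by norm_num) (P := P) |>.trans
      (show q ^ (2 * 3 - 3) = q ^ 3 by norm_num)]
    exact congrArg Subtype.val (pow_card_eq_one' (x := (⟨_, hsq⟩ : rad hstar P)))

/-- The irregular case. -/
theorem caseB (hq3 : 3 ≤ q) (hq5 : q ≠ 5) {H : Subgroup (Cfsg.SU 3 F q)} (hH : Hyp q H)
    (h0 : NoRoot hstar e H) {w : Fin 3 → F} (hw : w ∈ Wsub i j) (hww : herm w w = 1) {α : F}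
    (hα : α ∈ lineScal hstar P H w) (hα0 : α ≠ 0) : False := by
  obtain ⟨hodd, hmod, hX, m, hm1, hm2, hδ, hs⟩ := numbersB (hstar := hstar) hF P hq3 hq5 hH h0 hw hww hα hα0
  obtain ⟨-, -, hc, -⟩ := orbit_facts (hstar := hstar) hF P H
  rw [hs, hX] at hc
  obtain ⟨δ, hδd⟩ : ∃ δ, δ = Nat.card (torD P H) := ⟨_, rfl⟩
  rw [← hδd] at hδ hc
  have hHP : Nat.card (H ⊓ par1 q P : Subgroup (Cfsg.SU 3 F q)) = q * δ := by
    rw [card_inf_par hstar hF P H, hX, hδd]
  obtain ⟨q', hq'⟩ := hodd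
  by_cases hδe : 2 ∣ δ
  · obtain ⟨y, hyH, hyP, hys, hy2⟩ := exists_invol (hstar := hstar) hF P ⟨q', hq'⟩ (hδd ▸ hδe)
    obtain ⟨l, hlr, hlo⟩ := exists_real_units (hstar := hstar) hF
    have hμ : l ^ m ∈ torD P H := by
      refine mem_of_pow _ ?_
      rw [← pow_mul, mul_comm m, ← hδd, hδ, mul_comm 3, pow_mul, ← hlo, pow_orderOf_eq_one, one_pow]
    have hμr : star ((l ^ m : Fˣ) : F) = (l ^ m : Fˣ) := by
      rw [Units.val_pow_eq_pow_val, star_pow, hlr]
    have hord : orderOf (((l ^ m : Fˣ) : F) ^ 2) * (2 * m) = q - 1 := by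
      rw [← Units.val_pow_eq_pow_val, orderOf_units, ← pow_mul, orderOf_pow' _ (by omega), hlo, mul_comm m 2]
      interval_cases m
      · rw [show q - 1 = 2 * q' by omega, show 2 * 1 = 2 from rfl, Nat.gcd_mul_right_left,
          Nat.mul_div_cancel_left _ (by norm_num), mul_comm]
      · have h4 : 4 ∣ q - 1 := by omega
        rw [show 2 * 2 = 4 from rfl, Nat.gcd_eq_right h4, Nat.div_mul_cancel h4]
    obtain ⟨h, hh⟩ : ∃ h, h = orderOf (((l ^ m : Fˣ) : F) ^ 2) := ⟨_, rfl⟩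
    rw [← hh] at hord
    by_cases h11 : q = 11 ∧ m = 1
    · obtain ⟨rfl, rfl⟩ := h11
      refine no_eleven (hstar := hstar) hF P rfl hH hX ?_ ?_
      · rw [hHP]; omega
      · rw [hc, show δ = 30 by omega]; norm_num
    interval_cases m
    · exact no_torus_case (hstar := hstar) hF P ⟨q', hq'⟩ (by omega) hs h0 hyH hyP hys hy2 hμ hμr hh.symm
        (by omega) (by omega)
    · exact no_torus_case (hstar := hstar) hF P ⟨q', hq'⟩ (by omega) hs h0 hyH hyP hys hy2 hμ hμr hh.symm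
        (by omega) (by omega)
  · have heven : 2 ∣ Nat.card H := by
      rw [hc]
      refine dvd_mul_of_dvd_left (even_iff_two_dvd.1 ?_) _
      exact Odd.add_one ((show Odd q from ⟨q', hq'⟩).pow)
    haveI : Fact (Nat.Prime 2) := ⟨Nat.prime_two⟩
    obtain ⟨t, ht⟩ := exists_prime_orderOf_dvd_card' 2 heven
    have ht1 : (t : Cfsg.SU 3 F q) ≠ 1 := fun h => by
      rw [show t = 1 from Subtype.ext h, orderOf_one] at ht; omega
    have ht2 : (t : Cfsg.SU 3 F q) * t = 1 := by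
      have h2 := pow_orderOf_eq_one t
      rw [ht, pow_two] at h2
      exact congrArg Subtype.val h2
    obtain ⟨v, hv0, hvv, htv⟩ := invol_fix hstar hF ht1 ht2
    obtain ⟨g0, hg0⟩ := exists_move_point hstar hF P le_rfl hv0 hvv
    obtain ⟨p, hp, h, hh, hg0'⟩ := trans_decomp (hstar := hstar) hF P hs g0
    have hhe : act h e = (sc e f p)⁻¹ • v := by
      rw [← hg0, hg0', act_mul, act_point P hp, act_smul, smul_smul, inv_mul_cancel₀ (sc_ne_zero P hp), one_smul]
    have hxP : h⁻¹ * t.1 * h ∈ par1 q P := ⟨-1, by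
      rw [act_mul, act_mul, hhe, act_smul, htv, smul_neg, ← hhe, ← neg_one_smul F, act_smul, act_inv_act]⟩
    have hxH : h⁻¹ * t.1 * h ∈ H := mul_mem (mul_mem (inv_mem hh) t.2) hh
    have hord : orderOf (h⁻¹ * t.1 * h) = 2 := by
      refine orderOf_eq_prime ?_ fun h1 => ?_
      · rw [pow_two, show h⁻¹ * t.1 * h * (h⁻¹ * t.1 * h) = h⁻¹ * (t.1 * t.1) * h by group, ht2]; group
      · exact ht1 (by
          calc t.1 = h * (h⁻¹ * t.1 * h) * h⁻¹ := by group
            _ = 1 := by rw [h1]; group)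
    have h3 := orderOf_dvd_natCard (⟨_, Subgroup.mem_inf.2 ⟨hxH, hxP⟩⟩ : ↥(H ⊓ par1 q P))
    rw [← Subgroup.orderOf_coe, hord, hHP] at h3
    rcases (Nat.Prime.dvd_mul Nat.prime_two).1 h3 with h4 | h4 <;> omega

end Finite

end Cfsg.Agent.Small.UMinIndex.Three
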