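import Cfsg.Agent.Lib.Small.UMinIndex.Meet
import Cfsg.Agent.Lib.Small.UMinIndex.Main
import Cfsg.Agent.Lib.Small.UCover.Three

/-!
The stabiliser of an isotropic point in dimension three and the data a subgroup defines there.
-/

set_option autoImplicit false
set_option linter.unusedSectionVars false
set_option linter.style.haveILetI false

namespace Cfsg.Agent.Small.UMinIndex.Three

open Matrix Cfsg.Agent.Small.Unitary Cfsg.Agent.Small.UCover

variable {F : Type*} [Field F] [Fintype F] [StarRing F] {q : ℕ} {i j : Fin 3} {e f : Fin 3 → F}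

theorem exists_w0 (P : Pair i j e f) :
    ∃ w : Fin 3 → F, w ∈ Wsub i j ∧ herm w w = 1 := by
  obtain ⟨k, hk⟩ : ((Finset.univ : Finset (Fin 3)) \ {i, j}).Nonempty := by
    rw [← Finset.card_pos, Finset.card_sdiff_of_subset (Finset.subset_univ _), Finset.card_univ, Fintype.card_fin,
      Finset.card_pair P.ne]
    omega
  simp only [Finset.mem_sdiff, Finset.mem_univ, true_and, Finset.mem_insert, Finset.mem_singleton, not_or] at hk
  exact ⟨Pi.single k 1, ⟨Pi.single_eq_of_ne (Ne.symm hk.1) _, Pi.single_eq_of_ne (Ne.symm hk.2) _⟩, by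
    rw [herm_single_left]; simp⟩

theorem w0_ne {w : Fin 3 → F} (hww : herm w w = 1) : w ≠ 0 := fun h =>
  zero_ne_one ((herm_zero_left w).symm.trans (h ▸ hww))

theorem W_eq (hF : Fintype.card F = q ^ 2) (P : Pair i j e f) {w : Fin 3 → F} (hw : w ∈ Wsub i j)
    (hww : herm w w = 1) {z : Fin 3 → F} (hz : z ∈ Wsub i j) : z = herm w z • w := by
  classical
  let φ : F → ↥(Wsub i j : Submodule F (Fin 3 → F)) := fun c => ⟨c • w, Submodule.smul_mem _ c hw⟩
  have hinj : Function.Injective φ := fun a b h => smul_left_injective F (w0_ne hww) (congrArg Subtype.val h :)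
  have hb : Function.Bijective φ := by
    rw [Nat.bijective_iff_injective_and_card]
    refine ⟨hinj, ?_⟩
    rw [card_W hF P.ne, Nat.card_eq_fintype_card, hF]
  obtain ⟨c, hc⟩ := hb.2 ⟨z, hz⟩
  have h1 : c • w = z := congrArg Subtype.val hc
  rw [← h1, herm_smul_right, hww, mul_one]

/-- The scalar on the point, as a homomorphism. -/
def scH (P : Pair i j e f) : ↥(par1 q P) →* Fˣ where
  toFun g := Units.mk0 (sc e f g.1) (sc_ne_zero P g.2)
  map_one' := Units.ext (by
    show sc e f (1 : Cfsg.SU 3 F q) = 1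
    rw [sc, act_one, P.fe])
  map_mul' g h := Units.ext (sc_mul P g.2 h.2)

theorem scH_val (P : Pair i j e f) (g : ↥(par1 q P)) : ((scH P g : Fˣ) : F) = sc e f g.1 := rfl

theorem card_par (hstar : ∀ x : F, star x = x ^ q) (hF : Fintype.card F = q ^ 2) (P : Pair i j e f) :
    Nat.card (par1 q P) = q ^ 3 * (q ^ 2 - 1) := by
  have hq := Hermitian.q_two_le hF
  obtain ⟨k, hk⟩ : ∃ k, q = k + 1 := ⟨q - 1, by omega⟩
  have h := (par1 q P).index_mul_card
  rw [index_par hstar hF P (by norm_num), card_SU_three (hstar := hstar) hF hk] at h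
  have hp : pts q 3 = q ^ 3 + 1 := by simp [pts]; ring
  have e : q ^ 2 - 1 = k * (k + 2) := by
    rw [hk, show (k + 1) ^ 2 = k * (k + 2) + 1 by ring, Nat.add_sub_cancel]
  rw [hp] at h
  rw [e]
  refine Nat.eq_of_mul_eq_mul_left (show 0 < q ^ 3 + 1 by positivity) (h.trans ?_)
  rw [hk]
  ring

theorem card_SU3 (hstar : ∀ x : F, star x = x ^ q) (hF : Fintype.card F = q ^ 2) (P : Pair i j e f) :
    Nat.card (Cfsg.SU 3 F q) = (q ^ 3 + 1) * (q ^ 3 * (q ^ 2 - 1)) := by
  have h := (par1 q P).index_mul_card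
  rw [index_par hstar hF P (by norm_num), card_par hstar hF P] at h
  have hp : pts q 3 = q ^ 3 + 1 := by simp [pts]; ring
  rw [← h, hp]

theorem tok (μ : F) (hμ : μ ≠ 0) : TOk 3 μ (star μ / μ) := by
  have hμs : star μ ≠ 0 := star_ne_zero.2 hμ
  refine ⟨hμ, ?_, ?_⟩
  · rw [star_div₀, star_star]; field_simp
  · field_simp

theorem scH_surjective (hstar : ∀ x : F, star x = x ^ q) (P : Pair i j e f) :
    Function.Surjective (scH (q := q) P) := by
  intro μ
  obtain ⟨t, he, -, -, -⟩ := exists_tor hstar P (tok μ.1 μ.ne_zero)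
  refine ⟨⟨t, μ.1, he⟩, Units.ext ?_⟩
  rw [scH_val, sc, he, herm_smul_right, P.fe, mul_one]

theorem sc_of_rad {hstar : ∀ x : F, star x = x ^ q} (P : Pair i j e f) {g : Cfsg.SU 3 F q}
    (hg : g ∈ rad hstar P) : act g e = e ∧ sc e f g = 1 := by
  obtain ⟨z, a, hz, h, rfl⟩ := hg
  exact ⟨act_eich_self hstar h, by rw [sc, act_eich_self hstar h, P.fe]⟩

theorem ker_scH (hstar : ∀ x : F, star x = x ^ q) (hF : Fintype.card F = q ^ 2) (P : Pair i j e f) :
    (scH (q := q) P).ker = (rad hstar P).subgroupOf (par1 q P) := by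
  have hq := Hermitian.q_two_le hF
  have hle : (rad hstar P).subgroupOf (par1 q P) ≤ (scH (q := q) P).ker := fun g hg => by
    rw [MonoidHom.mem_ker]
    exact Units.ext (sc_of_rad P (Subgroup.mem_subgroupOf.1 hg)).2
  refine (Subgroup.eq_of_le_of_card_ge hle ?_).symm
  have h1 := (scH (q := q) P).ker.card_mul_index
  rw [Subgroup.index_ker, MonoidHom.range_eq_top.2 (scH_surjective hstar P), Subgroup.card_top, Nat.card_units,
    Nat.card_eq_fintype_card (α := F), hF, card_par hstar hF P] at h1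
  rw [Nat.card_congr (Subgroup.subgroupOfEquivOfLe (rad_le_par P)).toEquiv,
    card_rad_eq hstar hF (by norm_num) (P := P)]
  have h2 : 0 < q ^ 2 - 1 := by have := Nat.pow_le_pow_left hq 2; omega
  exact le_of_eq (Nat.eq_of_mul_eq_mul_right h2 h1)

theorem mem_rad_of_sc (hstar : ∀ x : F, star x = x ^ q) (hF : Fintype.card F = q ^ 2) (P : Pair i j e f)
    {g : Cfsg.SU 3 F q} (hg : g ∈ par1 q P) (h1 : sc e f g = 1) : g ∈ rad hstar P := by
  have h2 : (⟨g, hg⟩ : ↥(par1 q P)) ∈ (scH (q := q) P).ker := by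
    rw [MonoidHom.mem_ker]; exact Units.ext h1
  rw [ker_scH hstar hF P] at h2
  exact Subgroup.mem_subgroupOf.1 h2

/-- The scalar on the complement. -/
theorem rho_formula (hstar : ∀ x : F, star x = x ^ q) (hF : Fintype.card F = q ^ 2) (P : Pair i j e f)
    {g : Cfsg.SU 3 F q} (hg : g ∈ par1 q P) {z : Fin 3 → F} (hz : z ∈ Wsub i j) :
    rho e f g z = (star (sc e f g) * (star (sc e f g) / sc e f g)) • z := by
  obtain ⟨μ, hμ⟩ : ∃ μ, μ = sc e f g := ⟨_, rfl⟩
  rw [← hμ]
  have hμ0 : μ ≠ 0 := hμ ▸ sc_ne_zero P hg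
  obtain ⟨t, he, -, htW, -⟩ := exists_tor hstar P (tok μ hμ0)
  have ht : t ∈ par1 q P := ⟨μ, he⟩
  have hts : sc e f t = μ := by rw [sc, he, herm_smul_right, P.fe, mul_one]
  have hti : t⁻¹ ∈ par1 q P := inv_mem ht
  have hx : t⁻¹ * g ∈ rad hstar P := by
    refine mem_rad_of_sc hstar hF P (mul_mem hti hg) ?_
    have h1 : sc e f (t * (t⁻¹ * g)) = sc e f t * sc e f (t⁻¹ * g) := sc_mul P ht (mul_mem hti hg)
    rw [mul_inv_cancel_left, hts, ← hμ] at h1
    exact (mul_eq_left₀ hμ0).1 h1.symm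
  conv_lhs => rw [show g = t * (t⁻¹ * g) by rw [mul_inv_cancel_left]]
  rw [rho_mul hstar P ht (mul_mem hti hg) hz, rho_rad P hx hz, rho, hts, htW z hz, projW_smul,
    projW_of_mem P hz, smul_smul]

/-! ### The data of a subgroup -/

section Data

variable {hstar : ∀ x : F, star x = x ^ q}

/-- The root elements of the point in a subgroup. -/
def rootG (hstar : ∀ x : F, star x = x ^ q) (P : Pair i j e f) (H : Subgroup (Cfsg.SU 3 F q)) :
    AddSubgroup F where
  carrier := {c | star c = -c ∧ zel hstar e c ∈ H}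
  zero_mem' := ⟨by simp, by rw [zel, eich_zero_zero hstar P.ee]; exact one_mem H⟩
  add_mem' := fun {a b} ha hb => ⟨by rw [star_add, ha.1, hb.1, neg_add],
    by rw [← zel_mul P ha.1 hb.1]; exact mul_mem ha.2 hb.2⟩
  neg_mem' := fun {a} ha => ⟨by rw [star_neg, ha.1], by
    have : zel hstar e (-a) = (zel hstar e a)⁻¹ := by
      refine eq_inv_of_mul_eq_one_left ?_
      rw [zel_mul P (by rw [star_neg, ha.1]) ha.1, neg_add_cancel, zel, eich_zero_zero hstar P.ee]
    rw [this]
    exact inv_mem ha.2⟩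

theorem mem_rootG (P : Pair i j e f) (H : Subgroup (Cfsg.SU 3 F q)) {c : F} :
    c ∈ rootG hstar P H ↔ star c = -c ∧ zel hstar e c ∈ H := Iff.rfl

theorem noRoot_iff (P : Pair i j e f) (H : Subgroup (Cfsg.SU 3 F q)) :
    NoRoot hstar e H ↔ rootG hstar P H = ⊥ := by
  rw [AddSubgroup.eq_bot_iff_forall]
  exact ⟨fun h c hc => h c hc.1 hc.2, fun h c h1 h2 => h c ⟨h1, h2⟩⟩

/-- The scalars of the subgroup on the point. -/
def torD (P : Pair i j e f) (H : Subgroup (Cfsg.SU 3 F q)) : Subgroup Fˣ :=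
  (H.subgroupOf (par1 q P)).map (scH P)

theorem mem_torD (P : Pair i j e f) {H : Subgroup (Cfsg.SU 3 F q)} {μ : Fˣ} :
    μ ∈ torD P H ↔ ∃ g ∈ H, g ∈ par1 q P ∧ sc e f g = μ := by
  constructor
  · rintro ⟨g, hg, rfl⟩
    exact ⟨g.1, hg, g.2, rfl⟩
  · rintro ⟨g, hgH, hgP, h⟩
    exact ⟨⟨g, hgP⟩, hgH, Units.ext h⟩

theorem card_inf_par (hstar : ∀ x : F, star x = x ^ q) (hF : Fintype.card F = q ^ 2) (P : Pair i j e f)
    (H : Subgroup (Cfsg.SU 3 F q)) :
    Nat.card (H ⊓ par1 q P : Subgroup (Cfsg.SU 3 F q)) =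
      Nat.card (H ⊓ rad hstar P : Subgroup (Cfsg.SU 3 F q)) * Nat.card (torD P H) := by
  let φ : ↥(H ⊓ par1 q P : Subgroup (Cfsg.SU 3 F q)) →* Fˣ := (scH P).comp (Subgroup.inclusion inf_le_right)
  have h1 := φ.ker.card_mul_index
  rw [Subgroup.index_ker] at h1
  have hr : φ.range = torD P H := by
    ext μ
    rw [mem_torD]
    constructor
    · rintro ⟨g, rfl⟩; exact ⟨g.1, g.2.1, g.2.2, rfl⟩
    · rintro ⟨g, h1, h2, h3⟩; exact ⟨⟨g, h1, h2⟩, Units.ext h3⟩
  have hk : φ.ker = (H ⊓ rad hstar P).subgroupOf (H ⊓ par1 q P) := by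
    ext g
    rw [MonoidHom.mem_ker, Subgroup.mem_subgroupOf]
    constructor
    · intro h; exact ⟨g.2.1, mem_rad_of_sc hstar hF P g.2.2 (congrArg Units.val h)⟩
    · intro h; exact Units.ext (sc_of_rad P h.2).2
  rw [hr, hk, Nat.card_congr (Subgroup.subgroupOfEquivOfLe (inf_le_inf_left H (rad_le_par P))).toEquiv] at h1
  exact h1.symm

/-- The parameter of a radical element. -/
theorem param_eq (P : Pair i j e f) {w : Fin 3 → F} (hw : w ∈ Wsub i j) {z : Fin 3 → F} {a : F}
    (hz : z ∈ Wsub i j) (h : EOk e z a) : herm w (act (eich hstar e z a) f) = herm w z := by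
  rw [act_eich hstar h, herm_add_right, herm_add_right, herm_smul_right, herm_smul_right,
    (P.W_herm hw).1, (P.W_herm hw).2, P.ef]
  ring

theorem card_inf_rad (hF : Fintype.card F = q ^ 2) (P : Pair i j e f) {w : Fin 3 → F} (hw : w ∈ Wsub i j)
    (hww : herm w w = 1) (H : Subgroup (Cfsg.SU 3 F q)) :
    Nat.card (H ⊓ rad hstar P : Subgroup (Cfsg.SU 3 F q)) =
      Nat.card (lineScal hstar P H w) * Nat.card (rootG hstar P H) := by
  let φ : ↥(H ⊓ rad hstar P : Subgroup (Cfsg.SU 3 F q)) →* Multiplicative F :=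
    { toFun := fun g => Multiplicative.ofAdd (herm w (act g.1 f))
      map_one' := by
        show Multiplicative.ofAdd (herm w (act (1 : Cfsg.SU 3 F q) f)) = 1
        rw [act_one, (P.W_herm hw).2, ofAdd_zero]
      map_mul' := fun g g' => by
        show Multiplicative.ofAdd (herm w (act (g.1 * g'.1) f)) = _
        rw [← ofAdd_add]
        congr 1
        obtain ⟨z, a, hz, h, hg⟩ := g.2.2
        obtain ⟨z', a', hz', h', hg'⟩ := g'.2.2
        rw [hg, hg', eich_mul hstar h h', param_eq P hw (add_mem hz hz') (h.add h'), param_eq P hw hz h,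
          param_eq P hw hz' h', herm_add_right] }
  have h1 := φ.ker.card_mul_index
  rw [Subgroup.index_ker] at h1
  have hr : Nat.card φ.range = Nat.card (lineScal hstar P H w) := by
    refine Nat.card_congr (Equiv.subtypeEquiv Multiplicative.toAdd fun c => ?_)
    constructor
    · rintro ⟨g, rfl⟩
      obtain ⟨z, a, hz, h, hg⟩ := g.2.2
      show herm w (act g.1 f) • w ∈ prm hstar P H
      rw [hg, param_eq P hw hz h, ← W_eq hF P hw hww hz]
      exact ⟨hz, a, h, hg ▸ g.2.1⟩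
    · rintro ⟨hz, a, h, hH⟩
      refine ⟨⟨_, hH, mem_rad P hz h⟩, ?_⟩
      show Multiplicative.ofAdd (herm w (act (eich hstar e (Multiplicative.toAdd c • w) a) f)) = c
      rw [param_eq P hw hz h, herm_smul_right, hww, mul_one, ofAdd_toAdd]
  have hk : Nat.card φ.ker = Nat.card (rootG hstar P H) := by
    refine (Nat.card_congr (Equiv.ofBijective (fun c : rootG hstar P H =>
      (⟨⟨zel hstar e c.1, c.2.2, zel_mem P c.2.1⟩, ?_⟩ : φ.ker)) ⟨?_, ?_⟩)).symm
    · rw [MonoidHom.mem_ker]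
      show Multiplicative.ofAdd (herm w (act (zel hstar e c.1) f)) = 1
      rw [zel, param_eq P hw (Submodule.zero_mem _) ((EOk_zero_iff P.ee).2 c.2.1), herm_zero_right, ofAdd_zero]
    · intro c d h
      have h' : eich hstar e 0 c.1 = eich hstar e 0 d.1 := congrArg (fun x => x.1.1) h
      exact Subtype.ext (rad_params P (Submodule.zero_mem _) (Submodule.zero_mem _)
        ((EOk_zero_iff P.ee).2 c.2.1) ((EOk_zero_iff P.ee).2 d.2.1) h').2
    · intro g
      obtain ⟨z, a, hz, h, hg⟩ := g.1.2.2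
      have h0 : herm w (act g.1.1 f) = 0 := congrArg Multiplicative.toAdd g.2
      rw [hg, param_eq P hw hz h] at h0
      have hz0 : z = 0 := by rw [W_eq hF P hw hww hz, h0, zero_smul]
      subst hz0
      exact ⟨⟨a, (EOk_zero_iff P.ee).1 h, by rw [zel, ← hg]; exact g.1.2.1⟩, Subtype.ext (Subtype.ext hg.symm)⟩
  rw [hr, hk] at h1
  rw [← h1, mul_comm]

theorem scal_mem (P : Pair i j e f) {w : Fin 3 → F} (hw : w ∈ Wsub i j) {H : Subgroup (Cfsg.SU 3 F q)}
    {α : F} (hα : α ∈ lineScal hstar P H w) : ∃ a, EOk e (α • w) a ∧ eich hstar e (α • w) a ∈ H := hα.2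

theorem kappa_mem (hF : Fintype.card F = q ^ 2) (P : Pair i j e f) {w : Fin 3 → F} (hw : w ∈ Wsub i j)
    {H : Subgroup (Cfsg.SU 3 F q)} {μ : Fˣ} (hμ : μ ∈ torD P H) {α : F} (hα : α ∈ lineScal hstar P H w) :
    star (μ : F) * (star (μ : F) / μ) * α ∈ lineScal hstar P H w := by
  obtain ⟨g, hgH, hgP, hs⟩ := (mem_torD P).1 hμ
  have h1 := conj_prm P hgP (fun h hh => mul_mem (mul_mem hgH hh) (inv_mem hgH)) hα
  rw [rho_formula hstar hF P hgP (Submodule.smul_mem _ _ hw), hs, smul_smul] at h1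
  exact h1

theorem norm_root (P : Pair i j e f) {H : Subgroup (Cfsg.SU 3 F q)} {μ : Fˣ} (hμ : μ ∈ torD P H) {c : F}
    (hc : c ∈ rootG hstar P H) : star (μ : F) * μ * c ∈ rootG hstar P H := by
  obtain ⟨g, hgH, hgP, hs⟩ := (mem_torD P).1 hμ
  have h0 := (EOk_zero_iff P.ee).2 hc.1
  have h1 := eich_conj hstar g h0
  rw [show act g (0 : Fin 3 → F) = 0 from Matrix.mulVec_zero _, act_point P hgP, hs] at h1
  have h2 : EOk ((μ : F) • e) 0 c := (EOk_zero_iff (by simp [herm_smul_left, herm_smul_right, P.ee])).2 hc.1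
  rw [eich_smul hstar h2 μ.ne_zero, smul_zero] at h1
  refine ⟨by rw [star_mul', star_mul', star_star, hc.1]; ring, ?_⟩
  rw [zel, ← h1]
  exact mul_mem (mul_mem hgH hc.2) (inv_mem hgH)

theorem comm_root (P : Pair i j e f) {w : Fin 3 → F} (hw : w ∈ Wsub i j) (hww : herm w w = 1)
    {H : Subgroup (Cfsg.SU 3 F q)} {α β : F} (hα : α ∈ lineScal hstar P H w) (hβ : β ∈ lineScal hstar P H w) :
    star β * α - star α * β ∈ rootG hstar P H := by
  obtain ⟨a, ha, hma⟩ := scal_mem P hw hα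
  obtain ⟨b, hb, hmb⟩ := scal_mem P hw hβ
  refine ⟨by rw [star_sub, star_mul', star_mul', star_star, star_star]; ring, ?_⟩
  have h := eich_comm (hstar := hstar) ha hb
  simp only [herm_smul_left, herm_smul_right, hww, mul_one] at h
  rw [mul_comm α, mul_comm β] at h
  rw [← h, commutatorElement_def]
  exact mul_mem (mul_mem (mul_mem hma hmb) (inv_mem hma)) (inv_mem hmb)

theorem sq_root (P : Pair i j e f) {w : Fin 3 → F} (hw : w ∈ Wsub i j) (hww : herm w w = 1)
    {H : Subgroup (Cfsg.SU 3 F q)} (h2 : (2 : F) = 0) {α : F} (hα : α ∈ lineScal hstar P H w) :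
    star α * α ∈ rootG hstar P H := by
  obtain ⟨a, ha, hma⟩ := scal_mem P hw hα
  have hm := mul_mem hma hma
  rw [eich_mul hstar ha ha] at hm
  have hz2 : α • w + α • w = 0 := by rw [← two_smul F, h2, zero_smul]
  have haa : a + a = 0 := by linear_combination a * h2
  rw [hz2, haa, zero_sub, herm_smul_left, herm_smul_right, hww, mul_one] at hm
  have hn : -(star α * α) = star α * α := by linear_combination (-(star α * α)) * h2
  rw [hn] at hm
  refine ⟨by rw [star_mul', star_star, hn, mul_comm], ?_⟩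
  exact hm

end Data

end Cfsg.Agent.Small.UMinIndex.Three
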