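import Cfsg.Agent.Lib.Small.UMinIndex.ThreeB

/-!
Subgroups of small index in dimension three with root elements at every point.
-/

set_option autoImplicit false
set_option linter.unusedSectionVars false
set_option linter.style.haveILetI false

namespace Cfsg.Agent.Small.UMinIndex.Three

open Matrix Cfsg.Agent.Small Cfsg.Agent.Small.Unitary Cfsg.Agent.Small.UCover

variable {F : Type*} [Field F] [Fintype F] [StarRing F] {q : ℕ} {i j : Fin 3} {e f : Fin 3 → F}
  {hstar : ∀ x : F, star x = x ^ q}

theorem zel_scale {v : Fin 3 → F} (hv : herm v v = 0) {c : F} (hc : c ≠ 0) {t : F} (ht : star t = -t) :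
    zel hstar (c • v) t = zel hstar v (star c * c * t) := by
  have h : EOk (c • v) 0 t := (EOk_zero_iff (by simp [herm_smul_left, herm_smul_right, hv])).2 ht
  rw [zel, zel, eich_smul hstar h hc, smul_zero]

section Finite

variable (hF : Fintype.card F = q ^ 2) (P : Pair i j e f)
include hF hstar

theorem rootG_full {H : Subgroup (Cfsg.SU 3 F q)} (h : q ≤ Nat.card (rootG hstar P H)) {t : F}
    (ht : star t = -t) : zel hstar e t ∈ H := by
  let ι : rootG hstar P H → {s : F // star s = -s} := fun c => ⟨c.1, c.2.1⟩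
  have hι : Function.Injective ι := fun a b h => Subtype.ext (congrArg Subtype.val h :)
  have hb : Function.Bijective ι := (Nat.bijective_iff_injective_and_card ι).2
    ⟨hι, le_antisymm (Nat.card_le_card_of_injective ι hι) ((card_skew hstar hF).trans_le h)⟩
  obtain ⟨c, hc⟩ := hb.2 ⟨t, ht⟩
  have hct : c.1 = t := congrArg Subtype.val hc
  exact hct ▸ c.2.2

include P in
/-- A whole root group and root elements everywhere give everything. -/
theorem top_of_full {H : Subgroup (Cfsg.SU 3 F q)} (hq3 : 3 ≤ q) (hroot : ∀ g, ¬ NoRoot hstar e (cj g H))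
    (hfull : ∀ t : F, star t = -t → zel hstar e t ∈ H) : H = ⊤ := by
  obtain ⟨L, θ, C⟩ := exists_chart hstar hF P
  obtain ⟨w0, hw0, hww0⟩ := exists_w0 P
  have hT : ∀ (v : Fin 3 → F) (hv : herm v v = 0) (t : F) (ht : star t = -t), trans hstar v hv t ht ∈ H := by
    intro v hv t ht
    by_cases hv0 : v = 0
    · rw [show trans hstar v hv t ht = 1 from eq_of_act fun x => by rw [act_trans, act_one, hv0]; simp]
      exact one_mem H
    rw [trans_eq_eich hstar hv ht]
    show zel hstar v t ∈ H
    by_cases hev : herm e v = 0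
    · obtain ⟨d, hd⟩ : ∃ d, v = d • e := by
        refine ⟨herm f v, ?_⟩
        have hdec : v = herm f v • e + projW e f v := by
          conv_lhs => rw [eq_projW_add e f v, hev, zero_smul, add_zero]
        have hcW := P.projW_mem v
        have h2 : herm (projW e f v) (projW e f v) = 0 := by
          rw [hdec] at hv
          simpa only [herm_add_left, herm_add_right, herm_smul_left, herm_smul_right, P.ee, (P.herm_W hcW).1,
            (P.W_herm hcW).1, mul_zero, add_zero, zero_add] using hv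
        have hW := W_eq hF P hw0 hww0 hcW
        rw [hW, herm_smul_left, herm_smul_right, hww0, mul_one, mul_eq_zero, star_eq_zero, or_self] at h2
        rw [hW, h2, zero_smul, add_zero] at hdec
        exact hdec
      have hd0 : d ≠ 0 := fun h => hv0 (by rw [hd, h, zero_smul])
      rw [hd, zel_scale P.ee hd0 ht]
      exact hfull _ (by rw [star_mul', star_mul', star_star, ht]; ring)
    · obtain ⟨c, hc⟩ : ∃ c, c = herm e v := ⟨_, rfl⟩
      rw [← hc] at hev
      obtain ⟨x, hx⟩ : ∃ x, x = c⁻¹ • v := ⟨_, rfl⟩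
      have hex : herm e x = 1 := by rw [hx, herm_smul_right, ← hc, inv_mul_cancel₀ hev]
      have hxx : herm x x = 0 := by rw [hx, herm_smul_left, herm_smul_right, hv]; ring
      have hxe : herm x e = 1 := by rw [← star_herm, hex, star_one]
      have hfr : Frame (fun _ : Fin 1 => e) (fun _ : Fin 1 => f) (fun r : Fin 0 => r.elim0) :=
        ⟨fun _ _ => P.ee, fun _ _ => P.ff, fun r s => by rw [if_pos (Subsingleton.elim r s)]; exact P.ef,
          fun _ t => t.elim0, fun _ t => t.elim0, fun a => a.elim0⟩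
      have hfr' : Frame (fun _ : Fin 1 => e) (fun _ : Fin 1 => x) (fun r : Fin 0 => r.elim0) :=
        ⟨fun _ _ => P.ee, fun _ _ => hxx, fun r s => by rw [if_pos (Subsingleton.elim r s)]; exact hex,
          fun _ t => t.elim0, fun _ t => t.elim0, fun a => a.elim0⟩
      obtain ⟨g, hge, hgf, -⟩ := exists_move_frame hstar hF hfr hfr' (by norm_num)
      have hge' : act g e = e := hge 0
      have hgf' : act g f = x := hgf 0
      have hfull' : ∀ s : F, star s = -s → zel hstar e s ∈ cj g⁻¹ H := fun s hs => by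
        rw [← cj_zel hstar g P.ee hs, cj_cj, mul_inv_cancel, cj_one, hge']
        exact hfull s hs
      have hf0 : f ≠ 0 := fun h => zero_ne_one ((herm_zero_right e).symm.trans (h ▸ P.ef))
      obtain ⟨g1, hg1⟩ := exists_move_point hstar hF P le_rfl hf0 P.ff
      have hrf : ¬ NoRoot hstar f (cj g⁻¹ H) := by
        have h3 := hroot (g1⁻¹ * g⁻¹)
        rw [← noRoot_cj hstar g1 P.ee, cj_cj, mul_inv_cancel_left, hg1] at h3
        exact h3
      rw [NoRoot] at hrf
      push Not at hrf
      obtain ⟨d, hd, hdm, hd0⟩ := hrf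
      have hc0 : c⁻¹ ≠ 0 := inv_ne_zero hev
      have hv' : v = c • x := by rw [hx, smul_inv_smul₀ hev]
      rw [hv', zel_scale hxx hev ht]
      have ht' : star (star c * c * t) = -(star c * c * t) := by rw [star_mul', star_mul', star_star, ht]; ring
      have h4 := full_partner C hfull' hd hd0 hdm ht'
      rw [← cj_zel hstar g P.ff ht', cj_cj, mul_inv_cancel, cj_one, hgf'] at h4
      exact h4
  let T : Subgroup (Cfsg.SU 3 F q) :=
    Subgroup.closure {x | ∃ (v : Fin 3 → F) (hv : herm v v = 0) (t : F) (ht : star t = -t), x = trans hstar v hv t ht}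
  have hle : T ≤ H := (Subgroup.closure_le _).2 (by rintro _ ⟨v, hv, t, ht, rfl⟩; exact hT v hv t ht)
  have hN : T.Normal := ⟨fun x hx g => by
    have hle' : T ≤ T.comap (MulAut.conj g).toMonoidHom := by
      refine (Subgroup.closure_le _).2 ?_
      rintro _ ⟨v, hv, t, ht, rfl⟩
      show g * _ * g⁻¹ ∈ T
      rw [conj_trans hstar g v hv t ht]
      exact Subgroup.subset_closure ⟨_, _, t, ht, rfl⟩
    exact hle' hx⟩
  have := normal_eq_top (hstar := hstar) hF le_rfl (by omega) (hNn := hN) (Pair.ne_zero P) P.ee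
    fun t ht => Subgroup.subset_closure ⟨e, P.ee, t, ht, rfl⟩
  exact eq_top_iff.2 (this ▸ hle)

/-- The orders left in the root case. -/
theorem caseC_two (hq3 : 3 ≤ q) (hq : Even q) {H : Subgroup (Cfsg.SU 3 F q)} (hH : Hyp q H) {w : Fin 3 → F}
    (hw : w ∈ Wsub i j) (hww : herm w w = 1) (h2 : Nat.card (rootG hstar P H) = 2) : False := by
  classical
  obtain ⟨hsle, ⟨k, hk⟩, hc, hN⟩ := orbit_facts (hstar := hstar) hF P H
  obtain ⟨hb, hbig⟩ := stab_big (hstar := hstar) hF P hH
  obtain ⟨p, t, σ, hp, hchar, hqp, ht, -⟩ := Classical.exists_usigma hF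
  obtain rfl : p = 2 := by
    have h1 : 2 ∣ p ^ t := hqp ▸ even_iff_two_dvd.1 hq
    exact ((Nat.prime_dvd_prime_iff_eq Nat.prime_two hp).1 (Nat.prime_two.dvd_of_dvd_pow h1)).symm
  have h20 : (2 : F) = 0 := by
    haveI := hchar
    simpa using CharP.cast_eq_zero F 2
  obtain ⟨c, hc0, hcu⟩ := (Nat.card_eq_two_iff' (0 : rootG hstar P H)).1 h2
  have hroot : ∀ x ∈ rootG hstar P H, x ≠ 0 → x = c.1 := fun x hx hx0 =>
    congrArg Subtype.val (hcu ⟨x, hx⟩ fun h => hx0 (congrArg Subtype.val h))
  have hsq : ∀ α ∈ lineScal hstar P H w, α ≠ 0 → star α * α = c.1 := fun α hα hα0 =>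
    hroot _ (sq_root P hw hww h20 hα) (mul_ne_zero (star_ne_zero.2 hα0) hα0)
  obtain ⟨δ, hδ⟩ : ∃ δ, δ = Nat.card (torD P H) := ⟨_, rfl⟩
  obtain ⟨a, ha⟩ : ∃ a, a = Nat.card (lineScal hstar P H w) := ⟨_, rfl⟩
  have hX : Nat.card (H ⊓ rad hstar P : Subgroup (Cfsg.SU 3 F q)) = 2 * a := by
    rw [card_inf_rad hF P hw hww, h2, ← ha, mul_comm]
  rw [hX, ← hδ] at hb hc
  rw [hX] at hk
  have hδq : δ ∣ q + 1 := by
    rw [hδ]
    refine card_dvd_of_pow _ fun μ hμ => Units.ext ?_
    have h1 := norm_root P hμ c.2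
    have h3 := hroot _ h1 (mul_ne_zero (mul_ne_zero (star_ne_zero.2 μ.ne_zero) μ.ne_zero)
      fun h => hc0 (Subtype.ext h))
    have h4 : star (μ : F) * μ = 1 := (mul_eq_right₀ fun h => hc0 (Subtype.ext h)).1 h3
    rw [hstar, ← pow_succ] at h4
    rw [Units.val_pow_eq_pow_val, h4, Units.val_one]
  have hδle : δ ≤ q + 1 := Nat.le_of_dvd (by omega) hδq
  have hqq : q ^ 2 = q * q := pow_two q
  have hsqb : 3 * q ≤ q * q := Nat.mul_le_mul_right q hq3
  have ha0 : 0 < a := ha ▸ Nat.card_pos
  by_cases ha1 : a = 1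
  · subst ha1
    obtain ⟨b, hb'⟩ := hq
    omega
  obtain ⟨α, hα, hα0⟩ : ∃ α ∈ lineScal hstar P H w, α ≠ 0 := by
    by_contra! hno
    refine ha1 (ha.trans ?_)
    rw [show lineScal hstar P H w = ⊥ from (AddSubgroup.eq_bot_iff_forall _).2 hno]
    simp
  have hζ : ∀ β ∈ lineScal hstar P H w, β ≠ 0 → β ≠ α →
      (β / α) * (β / α) + β / α + 1 = 0 ∧ star (β / α) * (β / α) = 1 := by
    intro β hβ hβ0 hne
    have e1 := hsq α hα hα0
    have e2 := hsq β hβ hβ0
    have e3 := hsq (α + β) (add_mem hα hβ) (fun h => hne (by linear_combination h - α * h20))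
    have hn : star (β / α) * (β / α) = 1 := by
      rw [star_div₀, div_mul_div_comm, e2, e1, div_self]
      exact fun h => hc0 (Subtype.ext h)
    refine ⟨?_, hn⟩
    have hn3 : star (1 + β / α) * (1 + β / α) = 1 := by
      rw [show 1 + β / α = (α + β) / α by rw [add_div, div_self hα0]]
      rw [star_div₀, div_mul_div_comm, e3, e1, div_self]
      exact fun h => hc0 (Subtype.ext h)
    rw [star_add, star_one] at hn3
    linear_combination (β / α) * hn3 - (β / α + 1) * hn
  have ha4 : a ≤ 4 := by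
    by_contra hlt
    let S : Finset F := (Finset.univ.filter fun x : F => x ∈ lineScal hstar P H w) \ {0, α}
    have hS : 2 < S.card := by
      have h1 : a = (Finset.univ.filter fun x : F => x ∈ lineScal hstar P H w).card := by
        rw [ha, Nat.card_eq_fintype_card, Fintype.card_subtype]
      have h3 := Finset.le_card_sdiff ({0, α} : Finset F) (Finset.univ.filter fun x : F => x ∈ lineScal hstar P H w)
      have h4 : ({0, α} : Finset F).card ≤ 2 := Finset.card_le_two
      show 2 < ((Finset.univ.filter fun x : F => x ∈ lineScal hstar P H w) \ {0, α}).card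
      omega
    obtain ⟨x, hx, y, hy, z, hz, hxy, hxz, hyz⟩ := Finset.two_lt_card.1 hS
    simp only [S, Finset.mem_sdiff, Finset.mem_filter, Finset.mem_univ, true_and, Finset.mem_insert,
      Finset.mem_singleton, not_or] at hx hy hz
    have ex := (hζ x hx.1 hx.2.1 hx.2.2).1
    have ey := (hζ y hy.1 hy.2.1 hy.2.2).1
    have ez := (hζ z hz.1 hz.2.1 hz.2.2).1
    have h1 : (x / α - y / α) * (x / α + y / α + 1) = 0 := by linear_combination ex - ey
    have h3 : (x / α - z / α) * (x / α + z / α + 1) = 0 := by linear_combination ex - ez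
    have h1' := (mul_eq_zero.1 h1).resolve_left (sub_ne_zero.2 fun h => hxy ((div_left_inj' hα0).1 h))
    have h3' := (mul_eq_zero.1 h3).resolve_left (sub_ne_zero.2 fun h => hxz ((div_left_inj' hα0).1 h))
    exact hyz ((div_left_inj' hα0).1 (by linear_combination h1' - h3'))
  have ha2 : a ∣ 2 ^ (t * 2) := by
    rw [ha, pow_mul, ← hqp, ← hF, ← Nat.card_eq_fintype_card]
    exact AddSubgroup.card_addSubgroup_dvd_card _
  have ha24 : a = 2 ∨ a = 4 := by
    obtain ⟨x, -, rfl⟩ := (Nat.dvd_prime_pow Nat.prime_two).1 ha2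
    have hx2 : x ≤ 2 := by
      by_contra h
      have : 2 ^ 3 ≤ 2 ^ x := Nat.pow_le_pow_right (by norm_num) (by omega)
      omega
    interval_cases x <;> simp_all
  obtain ⟨k', hk1, hk2, hk3⟩ := card_split (torD P H) (2 * q - 1)
  have himg := card_pow_le (torD P H) (lineScal hstar P H w) (2 * q - 1) fun μ hμ β hβ => by
    rw [← kap_eq hstar (by omega) μ]
    exact kappa_mem hF P hw hμ hβ
  rw [← ha] at himg
  have hk3' : k' ∣ 3 := by
    have g1 := ((hδ ▸ hk3).trans hδq).mul_left 2
    have g3 := Nat.dvd_sub g1 hk2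
    rwa [show 2 * (q + 1) - (2 * q - 1) = 3 by omega] at g3
  have hδ3 : δ ≤ 3 * (a - 1) := by
    rw [hδ, hk1]
    exact Nat.mul_le_mul (Nat.le_of_dvd (by norm_num) hk3') (Nat.le_of_dvd (by omega) himg)
  rcases ha24 with rfl | rfl
  · have : q * q ≥ 16 := Nat.mul_le_mul (show 4 ≤ q by obtain ⟨b, rfl⟩ := hq; omega) (show 4 ≤ q by obtain ⟨b, rfl⟩ := hq; omega)
    omega
  have hq8 : q ≤ 8 := by
    by_contra h
    have : 9 * q ≤ q * q := Nat.mul_le_mul_right q (by omega)
    omega
  rcases show q = 4 ∨ q = 8 by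
    obtain ⟨b, hb'⟩ := hq
    rcases show q = 4 ∨ q = 6 ∨ q = 8 by omega with h | h | h
    · exact Or.inl h
    · exfalso
      have h3 : 3 ∣ 2 ^ t := by rw [← hqp, h]; norm_num
      exact absurd (Nat.prime_three.dvd_of_dvd_pow h3) (by norm_num)
    · exact Or.inr h with rfl | rfl
  · obtain ⟨β, hβ, hβ0, hne⟩ : ∃ β ∈ lineScal hstar P H w, β ≠ 0 ∧ β ≠ α := by
      by_contra! hno
      have h1 : Nat.card (lineScal hstar P H w) ≤ ({0, α} : Finset F).card := by
        rw [Nat.card_eq_fintype_card, Fintype.card_subtype]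
        refine Finset.card_le_card fun x hx => ?_
        rw [Finset.mem_filter] at hx
        rw [Finset.mem_insert, Finset.mem_singleton]
        by_cases hx0 : x = 0
        · exact Or.inl hx0
        · exact Or.inr (hno x hx.2 hx0)
      have := Finset.card_le_two (a := (0 : F)) (b := α)
      omega
    obtain ⟨e1, e2⟩ := hζ β hβ hβ0 hne
    obtain ⟨z, hz⟩ : ∃ z, z = β / α := ⟨_, rfl⟩
    rw [← hz] at e1 e2
    rw [hstar] at e2
    have hz3 : z * z * z = 1 := by linear_combination (z - 1) * e1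
    have hzz : z * z = 1 := by linear_combination e2 - z * z * hz3
    have hz1 : (z + 1) * (z + 1) = 0 := by linear_combination hzz + (z + 1) * h20
    rw [mul_self_eq_zero] at hz1
    exact one_ne_zero (α := F) (by linear_combination e1 - z * hz1)
  · have hk1' : k ≤ 64 := by norm_num at hsle; omega
    have hδ9 : δ = 9 := by
      norm_num at hb
      have : 8 ≤ δ := by omega
      have : δ ≤ 9 := by omega
      interval_cases δ <;> omega
    rw [hδ9] at hc
    rw [hc] at hN hbig
    norm_num at hbig hN hk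
    have hs : (par1 8 P).relIndex H = 513 := by
      rw [hk] at hN hbig ⊢
      interval_cases k <;> omega
    exact no_order hstar hF P H (r := 19) (M := 1944) (by norm_num) (by norm_num) (by rw [hc, hs])
      (by norm_num) (by decide +kernel)

theorem caseC_nine (hq : q = 9) {H : Subgroup (Cfsg.SU 3 F q)} (hH : Hyp q H) {w : Fin 3 → F}
    (hw : w ∈ Wsub i j) (hww : herm w w = 1) (h3 : Nat.card (rootG hstar P H) = 3) : False := by
  classical
  subst hq
  obtain ⟨hsle, ⟨k, hk⟩, hc, hN⟩ := orbit_facts (hstar := hstar) hF P H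
  obtain ⟨hb, hbig⟩ := stab_big (hstar := hstar) hF P hH
  obtain ⟨p, t, σ, hp, hchar, hqp, ht, -⟩ := Classical.exists_usigma hF
  haveI := hchar
  obtain rfl : p = 3 := by
    have h1 : 3 ∣ p ^ t := ⟨3, hqp.symm⟩
    exact ((Nat.prime_dvd_prime_iff_eq Nat.prime_three hp).1 (Nat.prime_three.dvd_of_dvd_pow h1)).symm
  have h30 : (3 : F) = 0 := by simpa using CharP.cast_eq_zero F 3
  have h20 : (2 : F) ≠ 0 := fun h => one_ne_zero (α := F) (by linear_combination h30 - h)
  obtain ⟨c, hcm, hc0⟩ : ∃ c ∈ rootG hstar P H, c ≠ 0 := by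
    by_contra! hno
    rw [show rootG hstar P H = ⊥ from (AddSubgroup.eq_bot_iff_forall _).2 hno] at h3
    simp at h3
  have hroot : ∀ x ∈ rootG hstar P H, x = 0 ∨ x = c ∨ x = -c := by
    intro x hx
    by_contra hne
    push Not at hne
    obtain ⟨h1, h2, h4⟩ := hne
    have hcc : c ≠ -c := fun h => hc0 ((mul_eq_zero.1 (by linear_combination h : (2 : F) * c = 0)).resolve_left h20)
    have hsub : ({0, c, -c, x} : Finset F) ⊆ Finset.univ.filter fun y : F => y ∈ rootG hstar P H := by
      intro y hy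
      simp only [Finset.mem_insert, Finset.mem_singleton] at hy
      refine Finset.mem_filter.2 ⟨Finset.mem_univ y, ?_⟩
      rcases hy with rfl | rfl | rfl | rfl
      exacts [zero_mem _, hcm, neg_mem hcm, hx]
    have hcard := Finset.card_le_card hsub
    rw [← Fintype.card_subtype, ← Nat.card_eq_fintype_card, show Nat.card {y : F // y ∈ rootG hstar P H} = 3 from h3,
      Finset.card_insert_of_notMem (by simp [hc0, Ne.symm hc0, Ne.symm h1]),
      Finset.card_insert_of_notMem (by simp [hcc, Ne.symm h2]),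
      Finset.card_insert_of_notMem (by simp [Ne.symm h4]), Finset.card_singleton] at hcard
    omega
  obtain ⟨δ, hδ⟩ : ∃ δ, δ = Nat.card (torD P H) := ⟨_, rfl⟩
  obtain ⟨a, ha⟩ : ∃ a, a = Nat.card (lineScal hstar P H w) := ⟨_, rfl⟩
  have hX : Nat.card (H ⊓ rad hstar P : Subgroup (Cfsg.SU 3 F 9)) = 3 * a := by
    rw [card_inf_rad hF P hw hww, h3, ← ha, mul_comm]
  rw [hX, ← hδ] at hb hc
  rw [hX] at hk
  have hδ20 : δ ∣ 20 := by
    rw [hδ]
    refine card_dvd_of_pow _ fun μ hμ => Units.ext ?_
    have hn : (star (μ : F) * μ) * (star (μ : F) * μ) = 1 := by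
      rcases hroot _ (norm_root P hμ hcm) with h | h | h
      · exact absurd h (mul_ne_zero (mul_ne_zero (star_ne_zero.2 μ.ne_zero) μ.ne_zero) hc0)
      · rw [(mul_eq_right₀ hc0).1 h, mul_one]
      · have h' : star (μ : F) * μ = -1 := mul_right_cancel₀ hc0 (by rw [h, neg_one_mul])
        rw [h']; norm_num
    rw [hstar, ← pow_succ, ← pow_add] at hn
    simpa using hn
  have hδle : δ ≤ 20 := Nat.le_of_dvd (by norm_num) hδ20
  have ha9 : a ≤ 9 := by
    by_contra hlt
    have hall : ∀ u : F, star u = -u → u ∈ rootG hstar P H := fun u hu =>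
      skew_full hstar hF (rootG hstar P H) (lineScal hstar P H w) (lineScal hstar P H w) (by omega) (by omega)
        (fun x hx y hy => comm_root P hw hww hy hx) hu
    have h1 : Nat.card {u : F // star u = -u} ≤ Nat.card (rootG hstar P H) :=
      Nat.card_le_card_of_injective (fun u => ⟨u.1, hall u.1 u.2⟩) fun u v h =>
        Subtype.ext (congrArg Subtype.val h :)
    rw [card_skew hstar hF, h3] at h1
    omega
  have ha0 : 0 < a := ha ▸ Nat.card_pos
  norm_num at hb
  by_cases ha1 : a = 1
  · subst ha1; omega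
  obtain ⟨k', hk1, hk2, hk3⟩ := card_split (torD P H) (2 * 9 - 1)
  have himg := card_pow_le (torD P H) (lineScal hstar P H w) (2 * 9 - 1) fun μ hμ β hβ => by
    rw [← kap_eq hstar (by omega) μ]
    exact kappa_mem hF P hw hμ hβ
  rw [← ha] at himg
  have hk' : k' = 1 := Nat.eq_one_of_dvd_coprimes (show Nat.Coprime (2 * 9 - 1) 20 by norm_num) hk2
    ((hδ ▸ hk3).trans hδ20)
  rw [hk', one_mul, ← hδ] at hk1
  rw [← hk1] at himg
  have ha39 : a = 3 ∨ a = 9 := by
    have h1 : a ∣ 3 ^ 4 := by
      rw [ha, show (3 : ℕ) ^ 4 = 9 ^ 2 by norm_num, ← hF, ← Nat.card_eq_fintype_card]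
      exact AddSubgroup.card_addSubgroup_dvd_card _
    obtain ⟨x, hx, rfl⟩ := (Nat.dvd_prime_pow Nat.prime_three).1 h1
    interval_cases x <;> omega
  rcases ha39 with rfl | rfl
  · have := Nat.le_of_dvd (by norm_num) himg
    omega
  have hδ4 : δ = 4 := by
    have h1 : δ ∣ 4 := (Nat.dvd_gcd himg hδ20).trans (by norm_num)
    have := Nat.le_of_dvd (by norm_num) h1
    have : 3 ≤ δ := by omega
    interval_cases δ <;> omega
  rw [hδ4] at hc
  have hk1' : k ≤ 27 := by norm_num at hsle; omega
  rw [hc] at hN hbig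
  norm_num at hbig hN hk
  have hs : (par1 9 P).relIndex H = 730 := by
    rw [hk] at hN hbig ⊢
    interval_cases k <;> omega
  exact no_order hstar hF P H (r := 73) (M := 1080) (by norm_num) (by norm_num) (by rw [hc, hs])
    (by norm_num) (by decide +kernel)

include P in
/-- Root elements everywhere. -/
theorem caseC (hq3 : 3 ≤ q) {H : Subgroup (Cfsg.SU 3 F q)} (hH : Hyp q H)
    (hroot : ∀ g, ¬ NoRoot hstar e (cj g H)) : False := by
  obtain ⟨w, hw, hww⟩ := exists_w0 P
  by_cases hfull : q ≤ Nat.card (rootG hstar P H)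
  · exact hH.ne_top (top_of_full (hstar := hstar) hF P hq3 hroot fun t ht => rootG_full hF P hfull ht)
  · obtain ⟨L, θ, C⟩ := exists_chart hstar hF P
    rcases root_line hF C hroot (by omega) with ⟨he, h2⟩ | ⟨h9, h3⟩
    · exact caseC_two (hstar := hstar) hF P hq3 he hH hw hww h2
    · exact caseC_nine (hstar := hstar) hF P h9 hH hw hww h3

end Finite

end Cfsg.Agent.Small.UMinIndex.Three
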