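import Mathlib

/-!
Orbit and divisibility lemmas on finite groups and on finite fields, for the minimal index in dimension three.
-/

set_option autoImplicit false

namespace Cfsg.Agent.Small.UMinIndex.Three

section Orbits

variable {G : Type*} [Group G] [Finite G]

theorem card_inf_mul (H P : Subgroup G) :
    P.relIndex H * Nat.card (H ⊓ P : Subgroup G) = Nat.card H := by
  rw [Subgroup.relIndex, mul_comm, ← (P.subgroupOf H).card_mul_index, ← Subgroup.inf_subgroupOf_left,
    Nat.card_congr (Subgroup.subgroupOfEquivOfLe (inf_le_left (a := H) (b := P))).toEquiv]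

/-- An orbit through a point is one plus a multiple of a subgroup acting freely away from the point. -/
theorem orbit_mod (H P R : Subgroup G) (hRP : R ≤ P) (hfree : ∀ x ∈ R, ∀ g, g⁻¹ * x * g ∈ P → g ∉ P → x = 1) :
    ∃ k, P.relIndex H = 1 + k * Nat.card (H ⊓ R : Subgroup G) := by
  classical
  obtain ⟨K, hK⟩ : ∃ K : Subgroup H, K = P.subgroupOf H := ⟨_, rfl⟩
  obtain ⟨X, hX⟩ : ∃ X : Subgroup H, X = (H ⊓ R).subgroupOf H := ⟨_, rfl⟩
  have hcX : Nat.card X = Nat.card (H ⊓ R : Subgroup G) := by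
    rw [hX]
    exact Nat.card_congr (Subgroup.subgroupOfEquivOfLe inf_le_left).toEquiv
  let Ω := Quotient (MulAction.orbitRel X (H ⧸ K))
  haveI : Fintype Ω := Fintype.ofFinite _
  have hstab : ∀ (x : X) (h : H), x • (QuotientGroup.mk h : H ⧸ K) = QuotientGroup.mk h →
      (h : G)⁻¹ * ((x : H) : G) * (h : G) ∈ P := by
    intro x h he
    have h1 : (QuotientGroup.mk ((x : H) * h) : H ⧸ K) = QuotientGroup.mk h := he
    rw [QuotientGroup.eq, hK, Subgroup.mem_subgroupOf] at h1
    have h2 := inv_mem h1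
    simpa [mul_assoc] using h2
  have hxR : ∀ x : X, ((x : H) : G) ∈ R := fun x => by
    have := x.2
    simp only [hX, Subgroup.mem_subgroupOf] at this
    exact this.2
  let ω0 : Ω := Quotient.mk _ (QuotientGroup.mk (1 : H))
  have h0 : Nat.card (MulAction.orbit X (QuotientGroup.mk (1 : H) : H ⧸ K)) = 1 := by
    haveI : Subsingleton (MulAction.orbit X (QuotientGroup.mk (1 : H) : H ⧸ K)) := ⟨fun a b => by
      have hfix : ∀ c : MulAction.orbit X (QuotientGroup.mk (1 : H) : H ⧸ K),
          c.1 = QuotientGroup.mk (1 : H) := fun c => by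
        obtain ⟨x, hx⟩ := c.2
        rw [← hx]
        show QuotientGroup.mk ((x : H) * 1) = _
        rw [mul_one, QuotientGroup.eq, hK, Subgroup.mem_subgroupOf, mul_one]
        exact inv_mem (hRP (hxR x))
      exact Subtype.ext ((hfix a).trans (hfix b).symm)⟩
    exact Nat.card_eq_one_iff_unique.2 ⟨inferInstance, ⟨⟨_, MulAction.mem_orbit_self _⟩⟩⟩
  have hother : ∀ h : H, h ∉ K → Nat.card (MulAction.orbit X (QuotientGroup.mk h : H ⧸ K)) = Nat.card X := by
    intro h hh
    rw [Nat.card_congr (MulAction.orbitEquivQuotientStabilizer X (QuotientGroup.mk h : H ⧸ K))]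
    have hbot : MulAction.stabilizer X (QuotientGroup.mk h : H ⧸ K) = ⊥ := by
      rw [eq_bot_iff]
      intro x hx
      rw [Subgroup.mem_bot]
      have h1 := hfree _ (hxR x) _ (hstab x h hx) fun hP => hh (by rw [hK]; exact hP)
      exact Subtype.ext (Subtype.ext h1)
    rw [hbot]
    exact Nat.card_congr (QuotientGroup.quotientBot (G := X)).toEquiv
  refine ⟨((Finset.univ : Finset Ω).erase ω0).card, ?_⟩
  have hs : P.relIndex H = Nat.card (H ⧸ K) := by rw [hK]; rfl
  rw [hs, ← hcX, Nat.card_congr (MulAction.selfEquivSigmaOrbits X (H ⧸ K)), Nat.card_sigma,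
    ← Finset.add_sum_erase _ _ (Finset.mem_univ ω0)]
  congr 1
  · have hm : (Quotient.out ω0 : H ⧸ K) ∈ MulAction.orbit X (QuotientGroup.mk (1 : H) : H ⧸ K) :=
      Quotient.exact (Quotient.out_eq ω0)
    rw [MulAction.orbit_eq_iff.2 hm]
    exact h0
  · rw [← smul_eq_mul, ← Finset.sum_const]
    refine Finset.sum_congr rfl fun ω hω => ?_
    obtain ⟨h, hh⟩ := QuotientGroup.mk_surjective (Quotient.out ω : H ⧸ K)
    rw [← hh]
    refine hother h fun hK' => (Finset.mem_erase.1 hω).1 ?_
    rw [← Quotient.out_eq ω, ← hh]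
    refine congrArg (Quotient.mk _) ?_
    rw [QuotientGroup.eq, mul_one]
    exact inv_mem hK'

/-- A Sylow normaliser of even order, from the congruence on the number of Sylow subgroups. -/
theorem exists_normalising_involution (H : Subgroup G) {r M : ℕ} (hr : r.Prime) (hcard : Nat.card H = r * M)
    (hrM : ¬ r ∣ M) (hn : ∀ n ∈ M.divisors, n % r = 1 → 2 ∣ M / n) :
    ∃ x ∈ H, ∃ t ∈ H, orderOf x = r ∧ orderOf t = 2 ∧ t * x * t⁻¹ ∈ Subgroup.zpowers x := by
  classical
  haveI : Fact r.Prime := ⟨hr⟩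
  haveI : Fact (Nat.Prime 2) := ⟨Nat.prime_two⟩
  let S : Sylow r H := default
  have hM : 0 < M := Nat.pos_of_ne_zero fun h => hrM (h ▸ dvd_zero r)
  have hS : Nat.card (S : Subgroup H) = r := by
    rw [Sylow.card_eq_multiplicity, hcard, Nat.factorization_mul hr.ne_zero hM.ne', Finsupp.add_apply,
      hr.factorization_self, Nat.factorization_eq_zero_of_not_dvd hrM, pow_one]
  have hidx : (S : Subgroup H).index = M := by
    have := (S : Subgroup H).card_mul_index
    rw [hS, hcard] at this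
    exact Nat.eq_of_mul_eq_mul_left hr.pos this
  have hdvd : Nat.card (Sylow r H) ∣ M := hidx ▸ S.card_dvd_index
  have hmod : Nat.card (Sylow r H) % r = 1 := by
    have := card_sylow_modEq_one r H
    rw [Nat.ModEq, Nat.one_mod_eq_one.2 hr.ne_one] at this
    exact this
  have h2 := hn _ (Nat.mem_divisors.2 ⟨hdvd, hM.ne'⟩) hmod
  have hN : Nat.card ↥(Subgroup.normalizer ((S : Subgroup H) : Set H)) = r * (M / Nat.card (Sylow r H)) := by
    have h := (Subgroup.normalizer ((S : Subgroup H) : Set H)).card_mul_index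
    rw [show (Subgroup.normalizer ((S : Subgroup H) : Set H)).index = Nat.card (Sylow r H) from
      (Sylow.card_eq_index_normalizer S).symm, hcard] at h
    obtain ⟨c, hc⟩ := hdvd
    have hpos : 0 < Nat.card (Sylow r H) := Nat.card_pos
    rw [hc, Nat.mul_div_cancel_left _ hpos]
    exact Nat.eq_of_mul_eq_mul_right hpos (h.trans (by rw [hc]; ring))
  obtain ⟨t, ht⟩ := exists_prime_orderOf_dvd_card' 2 (G := ↥(Subgroup.normalizer ((S : Subgroup H) : Set H)))
    (hN ▸ h2.mul_left r)
  obtain ⟨x, hx⟩ := exists_prime_orderOf_dvd_card' r (G := ↥(S : Subgroup H)) (dvd_of_eq hS.symm)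
  have hzp : Subgroup.zpowers (x : H) = (S : Subgroup H) := by
    refine Subgroup.eq_of_le_of_card_ge (Subgroup.zpowers_le.2 x.2) ?_
    rw [Nat.card_zpowers, Subgroup.orderOf_coe, hx, hS]
  refine ⟨(x : H), (x : H).2, ((t : H) : G), (t : H).2, ?_, ?_, ?_⟩
  · rw [Subgroup.orderOf_coe, Subgroup.orderOf_coe, hx]
  · rw [Subgroup.orderOf_coe, Subgroup.orderOf_coe, ht]
  · have h := (Subgroup.mem_normalizer_iff.1 t.2 (x : H)).1 x.2
    have h' : ((t : H) * (x : H) * (t : H)⁻¹) ∈ Subgroup.zpowers (x : H) := by rw [hzp]; exact h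
    obtain ⟨m, hm⟩ := Subgroup.mem_zpowers_iff.1 h'
    refine Subgroup.mem_zpowers_iff.2 ⟨m, ?_⟩
    have h1 := congrArg (fun y : H => (y : G)) hm
    simpa using h1

/-- An involution over an involution, moved inside an odd normal part. -/
theorem exists_conj_involution {s u : G} {m : ℕ} (hs : s * s = 1) (hu : u ^ (2 * m + 1) = 1)
    (hinv : s * u * s = u⁻¹) : ∃ v ∈ Subgroup.zpowers u, v⁻¹ * s * v = s * u := by
  have hsv : ∀ a : ℕ, s * u ^ a = (u ^ a)⁻¹ * s := by
    intro a
    induction a with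
    | zero => simp
    | succ a ih =>
      rw [pow_succ, ← mul_assoc, ih, mul_assoc, ← mul_left_inj s, mul_assoc, mul_assoc, mul_assoc]
      rw [← mul_assoc s u s, hinv, hs, mul_one, ← mul_inv_rev]
      rw [← pow_succ', pow_succ]
  refine ⟨u ^ (m + 1), pow_mem (Subgroup.mem_zpowers u) _, ?_⟩
  rw [mul_assoc, hsv, ← mul_assoc, ← mul_inv_rev, ← pow_add, show m + 1 + (m + 1) = 2 * m + 1 + 1 by omega,
    pow_succ, hu, one_mul]
  have h1 : s * u = u⁻¹ * s := by simpa using hsv 1
  rw [h1]

end Orbits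

section Units

variable {F : Type*} [Field F] [Finite F]

/-- A group of units killed by an exponent has order dividing it. -/
theorem card_dvd_of_pow (D : Subgroup Fˣ) {k : ℕ} (h : ∀ x ∈ D, x ^ k = 1) : Nat.card D ∣ k := by
  obtain ⟨g, hg⟩ := IsCyclic.exists_ofOrder_eq_natCard (α := D)
  rw [← hg, orderOf_dvd_iff_pow_eq_one]
  exact Subtype.ext (by rw [Subgroup.coe_pow, Subgroup.coe_one]; exact h g.1 g.2)

/-- Units preserving a set of units act freely on it. -/
theorem card_dvd_of_mul (D : Subgroup Fˣ) (S : Set Fˣ) (h : ∀ d ∈ D, ∀ x ∈ S, d * x ∈ S) :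
    Nat.card D ∣ Nat.card S := by
  have e : (QuotientGroup.mk : Fˣ → Fˣ ⧸ D) ⁻¹' (QuotientGroup.mk '' S) = S := by
    refine Set.Subset.antisymm (fun x ⟨y, hy, he⟩ => ?_) (Set.subset_preimage_image _ _)
    have h1 := h _ (QuotientGroup.eq.1 he) y hy
    rwa [show y⁻¹ * x * y = x by rw [mul_comm y⁻¹ x, inv_mul_cancel_right]] at h1
  have hc := Nat.card_congr (QuotientGroup.preimageMkEquivSubgroupProdSet D (QuotientGroup.mk '' S))
  rw [e, Nat.card_prod] at hc
  exact hc ▸ dvd_mul_right _ _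

end Units

end Cfsg.Agent.Small.UMinIndex.Three
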