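import Cfsg.Agent.Lib.Small.UMinIndex.ThreeSL2

/-!
No subgroup of `SL₂` has a large torus at every point and no root elements; root elements at every point
are few only in small cases.
-/

set_option autoImplicit false
set_option linter.unusedSectionVars false

namespace Cfsg.Agent.Small.UMinIndex.Three

open Matrix Cfsg.Agent.Small Cfsg.Agent.Classical.Dickson

theorem a4_orders : ∀ y : alternatingGroup (Fin 4), y ^ 2 = 1 ∨ y ^ 3 = 1 := by decide +kernel
theorem s4_orders : ∀ y : Equiv.Perm (Fin 4), y ^ 3 = 1 ∨ y ^ 4 = 1 := by decide +kernel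
theorem a5_orders : ∀ y : alternatingGroup (Fin 5), y ^ 2 = 1 ∨ y ^ 3 = 1 ∨ y ^ 5 = 1 := by decide +kernel
theorem s4_four : (Finset.univ.filter fun y : Equiv.Perm (Fin 4) => y ^ 4 = 1 ∧ y ^ 2 ≠ 1).card = 6 := by
  decide +kernel
theorem a4_three : (Finset.univ.filter fun y : alternatingGroup (Fin 4) => y ^ 3 = 1 ∧ y ≠ 1).card = 8 := by
  decide +kernel
theorem s4_three : (Finset.univ.filter fun y : Equiv.Perm (Fin 4) => y ^ 3 = 1 ∧ y ≠ 1).card = 8 := by decide +kernel
theorem a5_three : (Finset.univ.filter fun y : alternatingGroup (Fin 5) => y ^ 3 = 1 ∧ y ≠ 1).card = 20 := by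
  decide +kernel
theorem a5_five : (Finset.univ.filter fun y : alternatingGroup (Fin 5) => y ^ 5 = 1 ∧ y ≠ 1).card = 24 := by
  decide +kernel

variable {L : Type*} [Field L] [Fintype L]

local notation "SL2" => Matrix.SpecialLinearGroup (Fin 2) L

theorem neg_mem_of_center {K : Subgroup SL2} (hK : Subgroup.center SL2 ≤ K) {M : SL2} (hM : M ∈ K) :
    ∃ M' ∈ K, M'.1 = -M.1 := by
  obtain ⟨c, hc⟩ : ∃ c : SL2, c.1 = (-1 : L) • (1 : Matrix (Fin 2) (Fin 2) L) :=
    ⟨⟨_, by rw [Matrix.det_smul, Matrix.det_one, mul_one, Fintype.card_fin]; norm_num⟩, rfl⟩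
  refine ⟨c * M, mul_mem (hK ?_) hM, by rw [PSL2.val_mul, hc, Matrix.smul_mul, Matrix.one_mul, neg_one_smul]⟩
  refine Matrix.SpecialLinearGroup.mem_center_iff.mpr ⟨-1, by simp, ?_⟩
  rw [hc, Matrix.scalar_apply]
  exact (Matrix.smul_one_eq_diagonal _).symm

theorem trace_conjSL (g : GL (Fin 2) L) (M : SL2) : (PSL2.conjSL g M).1.trace = M.1.trace := by
  rw [PSL2.conjSL_val, Matrix.trace_units_conj]

theorem rotation {k h : ℕ} (h3 : 3 ≤ h) {y : DihedralGroup k} (hy : orderOf y = h) : ∃ i, y = DihedralGroup.r i := by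
  cases y with
  | r i => exact ⟨i, rfl⟩
  | sr i => rw [DihedralGroup.orderOf_sr] at hy; omega

/-- No large torus at every point. -/
theorem no_torus_everywhere (K : Subgroup SL2) (hK : Subgroup.center SL2 ≤ K) {h : ℕ} (h4 : 4 ≤ h)
    (hq : 7 ≤ Fintype.card L) (h5 : h = 5 → 13 ≤ Fintype.card L)
    (hnu : ∀ M ∈ K, M.1.trace = 2 → M = 1)
    (tor : ∀ o : Option L, ∃ M ∈ K, ∃ x : L, M.1 *ᵥ ptv o = x • ptv o ∧ orderOf (PSL2.pr M) = h) : False := by
  classical
  have hnu' : ∀ (g : GL (Fin 2) L), PSL2.uS (1 : L) ∈ K.map (PSL2.conjSL g).toMonoidHom → False := by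
    rintro g ⟨M, hM, he⟩
    have h1 := hnu M hM (by
      rw [← trace_conjSL g M, show PSL2.conjSL g M = PSL2.uS 1 from he, PSL2.uS_val, Matrix.trace_fin_two]
      simp [one_add_one_eq_two])
    rw [h1, map_one] at he
    simpa using congrArg (fun A : SL2 => A.1 0 1) he
  have hns : ∀ M ∈ K, 3 ≤ orderOf (PSL2.pr M) → M.1.trace * M.1.trace ≠ 4 := by
    intro M hM h3 ht
    have h2 : (M.1.trace - 2) * (M.1.trace + 2) = 0 := by linear_combination ht
    rcases mul_eq_zero.1 h2 with h2 | h2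
    · rw [hnu M hM (sub_eq_zero.1 h2), map_one, orderOf_one] at h3
      omega
    · obtain ⟨M', hM', he⟩ := neg_mem_of_center hK hM
      have h1 := hnu M' hM' (by rw [he, Matrix.trace_neg]; linear_combination -h2)
      rw [pr_eq_one_of_scalar (x := -1) (by rw [neg_one_smul, ← neg_inj, neg_neg, ← he, h1]; simp), orderOf_one] at h3
      omega
  have hcomm : (∀ M ∈ K, ∀ M' ∈ K, orderOf (PSL2.pr M) = h → orderOf (PSL2.pr M') = h →
      Commute (PSL2.pr M) (PSL2.pr M')) → False := by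
    intro hc
    obtain ⟨M, hM, -, -, ho⟩ := tor none
    have key : ∀ o, ∃ c : L, M.1 *ᵥ ptv o = c • ptv o := fun o => by
      obtain ⟨M', hM', x, hx, ho'⟩ := tor o
      exact share_of_comm (hc M' hM' M hM ho' ho) (by omega) (hns M' hM' (by omega)) (ptv_ne o) hx
    obtain ⟨x, hx⟩ := key none
    obtain ⟨y, hy⟩ := key (some 0)
    obtain ⟨z, hz⟩ := key (some 1)
    rw [pr_eq_one_of_scalar (scalar_of_three (by simp) (by simp) (by simp) hx hy hz), orderOf_one] at ho
    omega
  have hdvd : ∀ {Y : Type} [Group Y] (e : ↥(K.map PSL2.pr) ≃* Y), ∃ y : Y, orderOf y = h := fun e => by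
    obtain ⟨M, hM, -, -, ho⟩ := tor none
    exact ⟨e ⟨_, Subgroup.mem_map_of_mem _ hM⟩, by rw [MulEquiv.orderOf_eq, ← Subgroup.orderOf_coe]; exact ho⟩
  rcases kind hK with ⟨k, -, hc, -⟩ | ⟨k, -, -, ⟨e⟩⟩ | ⟨g, -, hu⟩ | ⟨-, ⟨e⟩⟩ | ⟨-, ⟨e⟩⟩ | ⟨-, ⟨e⟩⟩ | ⟨g, K0, hlow, -, -⟩
  · refine hcomm fun M hM M' hM' _ _ => ?_
    obtain ⟨g, hg⟩ := hc.exists_generator
    obtain ⟨a, ha⟩ := Subgroup.mem_zpowers_iff.1 (hg ⟨_, Subgroup.mem_map_of_mem _ hM⟩)
    obtain ⟨b, hb⟩ := Subgroup.mem_zpowers_iff.1 (hg ⟨_, Subgroup.mem_map_of_mem _ hM'⟩)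
    have := (Commute.refl g).zpow_zpow a b
    rw [ha, hb] at this
    exact congrArg Subtype.val this
  · refine hcomm fun M hM M' hM' ho ho' => ?_
    obtain ⟨i, hi⟩ := rotation (by omega : 3 ≤ h) (y := e ⟨_, Subgroup.mem_map_of_mem _ hM⟩)
      (by rw [MulEquiv.orderOf_eq, ← Subgroup.orderOf_coe]; exact ho)
    obtain ⟨i', hi'⟩ := rotation (by omega : 3 ≤ h) (y := e ⟨_, Subgroup.mem_map_of_mem _ hM'⟩)
      (by rw [MulEquiv.orderOf_eq, ← Subgroup.orderOf_coe]; exact ho')
    refine congrArg Subtype.val (e.injective ?_ : (⟨_, Subgroup.mem_map_of_mem _ hM⟩ : ↥(K.map PSL2.pr)) * ⟨_, Subgroup.mem_map_of_mem _ hM'⟩ = ⟨_, Subgroup.mem_map_of_mem _ hM'⟩ * ⟨_, Subgroup.mem_map_of_mem _ hM⟩)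
    rw [map_mul, map_mul, hi, hi', DihedralGroup.r_mul_r, DihedralGroup.r_mul_r, add_comm]
  · exact hnu' g hu
  · obtain ⟨y, hy⟩ := hdvd e
    rcases a4_orders y with h1 | h1 <;> have := orderOf_le_of_pow_eq_one (by norm_num) h1 <;> omega
  · obtain ⟨y, hy⟩ := hdvd e
    have h4' : h = 4 := by
      rcases s4_orders y with h1 | h1 <;> have := orderOf_le_of_pow_eq_one (by norm_num) h1 <;> omega
    subst h4'
    have := cover_bound K e (h := 4) ({1, 3} : Finset ℕ) (by decide) (by norm_num) tor (N := 6) (by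
      rw [← s4_four]
      refine Finset.card_le_card (Finset.monotone_filter_right _ fun y _ hy => ⟨hy.1, fun h2 => ?_⟩)
      have := orderOf_le_of_pow_eq_one (by norm_num) h2
      omega)
    simp at this
    omega
  · obtain ⟨y, hy⟩ := hdvd e
    have h5' : h = 5 := by
      rcases a5_orders y with h1 | h1 | h1
      · have := orderOf_le_of_pow_eq_one (by norm_num) h1; omega
      · have := orderOf_le_of_pow_eq_one (by norm_num) h1; omega
      · have := (Nat.dvd_prime (by norm_num)).1 (orderOf_dvd_of_pow_eq_one h1); omega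
    subst h5'
    have := cover_bound K e (h := 5) ({1, 2, 3, 4} : Finset ℕ) (by decide) (by norm_num) tor (N := 24) (by
      rw [← a5_five]
      refine Finset.card_le_card (Finset.monotone_filter_right _ fun y _ hy => ⟨hy.1, fun h2 => ?_⟩)
      rw [h2, orderOf_one] at hy
      omega)
    simp at this
    have := h5 rfl
    omega
  · exact hnu' g (hlow 1 (one_mem _)).1

section Roots


/-- The upper root elements of a subgroup. -/
def upG (K : Subgroup SL2) : AddSubgroup L where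
  carrier := {c | PSL2.uS c ∈ K}
  zero_mem' := by
    show PSL2.uS (0 : L) ∈ K
    rw [show PSL2.uS (0 : L) = 1 from Subtype.ext (by simp [Matrix.one_fin_two])]
    exact one_mem K
  add_mem' := fun {a b} ha hb => by show PSL2.uS (a + b) ∈ K; rw [PSL2.uS_add]; exact mul_mem ha hb
  neg_mem' := fun {a} ha => by
    show PSL2.uS (-a) ∈ K
    rw [show PSL2.uS (-a) = (PSL2.uS a)⁻¹ from eq_inv_of_mul_eq_one_left (by
      rw [← PSL2.uS_add, neg_add_cancel]; exact Subtype.ext (by simp [Matrix.one_fin_two]))]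
    exact inv_mem ha


theorem top_of_root {K : Subgroup SL2} (g : GL (Fin 2) L) (h : ∀ x : L, PSL2.uS x ∈ K.map (PSL2.conjSL g).toMonoidHom ∧
    PSL2.vS x ∈ K.map (PSL2.conjSL g).toMonoidHom) : K = ⊤ := by
  have h1 : K.map (PSL2.conjSL g).toMonoidHom = ⊤ := by
    rw [eq_top_iff, ← Classical.sl_closure_transvections, Subgroup.closure_le]
    rintro _ ⟨i, j, hij, c, rfl⟩
    fin_cases i <;> fin_cases j
    · exact absurd rfl hij
    · rw [SetLike.mem_coe]
      convert (h c).1 using 2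
      apply Subtype.ext
      rw [Matrix.SpecialLinearGroup.transvection_coe, PSL2.uS_val]
      ext a b; fin_cases a <;> fin_cases b <;> simp
    · rw [SetLike.mem_coe]
      convert (h c).2 using 2
      apply Subtype.ext
      rw [Matrix.SpecialLinearGroup.transvection_coe, PSL2.vS_val]
      ext a b; fin_cases a <;> fin_cases b <;> simp
    · exact absurd rfl hij
  refine eq_top_iff.2 fun x _ => ?_
  obtain ⟨y, hy, he⟩ : (PSL2.conjSL g).toMonoidHom x ∈ K.map (PSL2.conjSL g).toMonoidHom := h1 ▸ Subgroup.mem_top _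
  exact (PSL2.conjSL g).injective he ▸ hy

theorem upper_of_none {M : SL2} (ht : M.1.trace = 2) (hf : M.1 *ᵥ ptv none = ptv none) (h1 : M.1 ≠ 1) :
    ∃ c : L, c ≠ 0 ∧ M = PSL2.uS c := by
  have a0 := congrFun hf 0
  have a1 := congrFun hf 1
  simp [Matrix.mulVec, dotProduct, ptv] at a0 a1
  rw [Matrix.trace_fin_two, a0] at ht
  have h11 : M.1 1 1 = 1 := by linear_combination ht
  refine ⟨M.1 0 1, fun h0 => h1 ?_, Subtype.ext ?_⟩
  · ext i j; fin_cases i <;> fin_cases j <;> simp [a0, a1, h0, h11]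
  · ext i j; fin_cases i <;> fin_cases j <;> simp [a0, a1, h11]

theorem lower_of_zero {M : SL2} (ht : M.1.trace = 2) (hf : M.1 *ᵥ ptv (some 0) = ptv (some 0)) (h1 : M.1 ≠ 1) :
    ∃ c : L, c ≠ 0 ∧ M = PSL2.vS c := by
  have a0 := congrFun hf 0
  have a1 := congrFun hf 1
  simp [Matrix.mulVec, dotProduct, ptv] at a0 a1
  rw [Matrix.trace_fin_two, a1] at ht
  have h00 : M.1 0 0 = 1 := by linear_combination ht
  refine ⟨M.1 1 0, fun h0 => h1 ?_, Subtype.ext ?_⟩
  · ext i j; fin_cases i <;> fin_cases j <;> simp [a0, a1, h0, h00]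
  · ext i j; fin_cases i <;> fin_cases j <;> simp [a0, a1, h00]

theorem not_comm_uv {c d : L} (hc : c ≠ 0) (hd : d ≠ 0) : ¬ Commute (PSL2.pr (PSL2.uS c)) (PSL2.pr (PSL2.vS d)) := by
  intro h
  rw [Commute, SemiconjBy, ← map_mul, ← map_mul, PSL2.pr_eq_iff] at h
  obtain ⟨ε, -, he⟩ := h
  have e01 := congrFun (congrFun he 0) 1
  have e00 := congrFun (congrFun he 0) 0
  simp [Matrix.mul_fin_two] at e01 e00
  have hε : ε = 1 := mul_right_cancel₀ hc (by linear_combination -e01)
  rw [hε] at e00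
  exact mul_ne_zero hc hd (by linear_combination e00)

/-- The kernel line of a matrix over a subfield. -/
theorem rational_line (K0 : Subfield L) {A : Matrix (Fin 2) (Fin 2) L} (hA : ∀ a b, A a b ∈ K0) (h0 : A ≠ 0)
    {o : Option L} (hk : A *ᵥ ptv o = 0) : ∀ a, ptv o a ∈ K0 := by
  cases o with
  | none => intro a; fin_cases a <;> simp [ptv, zero_mem, one_mem]
  | some c =>
    have hc : c ∈ K0 := by
      have a0 := congrFun hk 0
      have a1 := congrFun hk 1
      simp [Matrix.mulVec, dotProduct, ptv] at a0 a1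
      by_cases h00 : A 0 0 = 0
      · by_cases h10 : A 1 0 = 0
        · simp [h00] at a0
          simp [h10] at a1
          exact absurd (by ext i j; fin_cases i <;> fin_cases j <;> simp [h00, h10, a0, a1]) h0
        · rw [show c = -(A 1 1) / A 1 0 by rw [eq_div_iff h10]; linear_combination a1]
          exact div_mem (neg_mem (hA 1 1)) (hA 1 0)
      · rw [show c = -(A 0 1) / A 0 0 by rw [eq_div_iff h00]; linear_combination a0]
        exact div_mem (neg_mem (hA 0 1)) (hA 0 0)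
    intro a
    fin_cases a <;> simp [ptv, hc, one_mem]

/-- A subfield holding all the points is everything. -/
theorem subfield_top (K : Subgroup SL2) (g : GL (Fin 2) L) (K0 : Subfield L)
    (hroot : ∀ o : Option L, ∃ M ∈ K, M.1 ≠ 1 ∧ M.1.trace = 2 ∧ M.1 *ᵥ ptv o = ptv o)
    (hhigh : ∀ y ∈ K.map (PSL2.conjSL g).toMonoidHom, ∃ c : L, ∃ M : Matrix (Fin 2) (Fin 2) L,
      (∀ i j, M i j ∈ K0) ∧ y.1 = c • M) : ∀ x : L, x ∈ K0 := by
  classical
  have key : ∀ o : Option L, ∀ a, ptv o a ∈ K0 := by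
    intro o
    obtain ⟨o', c, hc0, hc⟩ := exists_ptv (v := g⁻¹.val *ᵥ ptv o) (fun h0 => ptv_ne o (by
      rw [← Matrix.one_mulVec (ptv o), show (1 : Matrix (Fin 2) (Fin 2) L) = g.val * g⁻¹.val from g.mul_inv.symm,
        ← Matrix.mulVec_mulVec, h0, Matrix.mulVec_zero]))
    obtain ⟨M, hM, hM1, ht, hf⟩ := hroot o'
    obtain ⟨y, hy⟩ : ∃ y, y = PSL2.conjSL g M := ⟨_, rfl⟩
    obtain ⟨e, A, hA, hyA⟩ := hhigh y ⟨M, hM, hy.symm⟩
    have hyv : y.1 = g.val * M.1 * g⁻¹.val := by rw [hy, PSL2.conjSL_val]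
    have hty : y.1.trace = 2 := by rw [hy, trace_conjSL, ht]
    have hfo : y.1 *ᵥ ptv o = ptv o := by
      rw [hyv, ← Matrix.mulVec_mulVec, hc, Matrix.mulVec_smul, ← Matrix.mulVec_mulVec, hf, ← Matrix.mulVec_smul,
        ← hc, Matrix.mulVec_mulVec, Units.mul_inv, Matrix.one_mulVec]
    have hy1 : y.1 - 1 ≠ 0 := fun h0 => hM1 (by
      have h1 : y = 1 := Subtype.ext (sub_eq_zero.1 h0)
      rw [hy, MulEquiv.map_eq_one_iff] at h1
      rw [h1]; rfl)
    have heK : e ∈ K0 := by
      have h2t : e * A.trace = 2 := by rw [← hty, hyA, Matrix.trace_smul, smul_eq_mul]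
      have hAt : A.trace ∈ K0 := by rw [Matrix.trace_fin_two]; exact add_mem (hA 0 0) (hA 1 1)
      by_cases hA0 : A.trace = 0
      · have h20 : (2 : L) = 0 := by rw [← h2t, hA0, mul_zero]
        have hdet : e * e * A.det = 1 := by
          have h1 := y.2
          rwa [hyA, Matrix.det_smul, Fintype.card_fin, pow_two] at h1
        have hAd : A.det ∈ K0 := by
          rw [Matrix.det_fin_two]; exact sub_mem (mul_mem (hA 0 0) (hA 1 1)) (mul_mem (hA 0 1) (hA 1 0))
        have hee : e * e ∈ K0 := by rw [eq_inv_of_mul_eq_one_left hdet]; exact inv_mem hAd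
        let sq : K0 → K0 := fun a => a * a
        have hinj : Function.Injective sq := fun a b hab => by
          have h1 : (a : L) * a = (b : L) * b := congrArg Subtype.val hab
          have h2 : ((a : L) - b) * ((a : L) - b) = 0 := by
            linear_combination h1 - ((a : L) * b - (b : L) * b) * h20
          exact Subtype.ext (sub_eq_zero.1 (mul_self_eq_zero.1 h2))
        obtain ⟨a, ha⟩ := Finite.surjective_of_injective hinj ⟨e * e, hee⟩
        have ha' : (a : L) * a = e * e := congrArg Subtype.val ha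
        have h3 : (e - (a : L)) * (e - a) = 0 := by linear_combination -ha' - (e * a - (a : L) * a) * h20
        rw [sub_eq_zero.1 (mul_self_eq_zero.1 h3)]
        exact a.2
      · rw [show e = 2 / A.trace by rw [eq_div_iff hA0]; exact h2t]
        exact div_mem (ofNat_mem K0 2) hAt
    refine rational_line K0 (fun a b => ?_) hy1 (by rw [Matrix.sub_mulVec, hfo, Matrix.one_mulVec, sub_self])
    rw [Matrix.sub_apply, hyA, Matrix.smul_apply, smul_eq_mul]
    refine sub_mem (mul_mem heK (hA a b)) ?_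
    rw [Matrix.one_apply]
    split_ifs
    exacts [one_mem _, zero_mem _]
  exact fun x => by simpa [ptv] using key (some x) 0

theorem eq_p {p a N : ℕ} [Fact p.Prime] (ha : a ≠ 0) (h : p ^ a ∣ N) (hN : N ∣ 120) (h9 : ¬ p ^ 2 ∣ N) :
    p ^ a = p := by
  rcases Nat.lt_or_ge a 2 with h1 | h1
  · rw [show a = 1 by omega, pow_one]
  · exact absurd ((pow_dvd_pow p h1).trans h) h9

/-- Root elements at all points, not all of a root group. -/
theorem root_everywhere {K : Subgroup SL2} (hK : Subgroup.center SL2 ≤ K) {p m : ℕ} [Fact p.Prime] [CharP L p]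
    (hcard : Fintype.card L = p ^ m) (hroot : ∀ o : Option L, ∃ M ∈ K, M.1 ≠ 1 ∧ M.1.trace = 2 ∧ M.1 *ᵥ ptv o = ptv o)
    (hfull : upG K ≠ ⊤) :
    (p = 2 ∧ Nat.card (upG K) = 2) ∨ (Fintype.card L = 9 ∧ Nat.card (upG K) = 3) := by
  classical
  have hp := Fact.out (p := p.Prime)
  obtain ⟨M0, hM0, h01, h02, h03⟩ := hroot none
  obtain ⟨c0, hc0, rfl⟩ := upper_of_none h02 h03 h01
  obtain ⟨M1, hM1, h11, h12, h13⟩ := hroot (some 0)
  obtain ⟨d0, hd0, rfl⟩ := lower_of_zero h12 h13 h11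
  have huinj : ∀ a b : L, PSL2.pr (PSL2.uS a) = PSL2.pr (PSL2.uS b) → a = b := fun a b h => PSL2.pr_uS_inj h
  have hucard : ∃ a, a ≠ 0 ∧ Nat.card (upG K) = p ^ a := by
    have h1 : Nat.card (upG K) ∣ p ^ m := by
      rw [← hcard, ← Nat.card_eq_fintype_card]
      exact AddSubgroup.card_addSubgroup_dvd_card _
    obtain ⟨a, -, ha⟩ := (Nat.dvd_prime_pow hp).1 h1
    refine ⟨a, fun h0 => ?_, ha⟩
    rw [h0, pow_zero, AddSubgroup.card_eq_one, AddSubgroup.eq_bot_iff_forall] at ha
    exact hc0 (ha c0 hM0)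
  have hprime : m ≠ 1 := by
    intro h1
    obtain ⟨a, ha0, ha⟩ := hucard
    refine hfull (AddSubgroup.eq_top_of_le_card _ ?_)
    rw [ha, Nat.card_eq_fintype_card, hcard, h1]
    exact Nat.pow_le_pow_right hp.pos (Nat.pos_of_ne_zero ha0)
  have hpa : ∀ {Y : Type} [Group Y] [Fintype Y] (e : ↥(K.map PSL2.pr) ≃* Y) (a : ℕ),
      Nat.card (upG K) = p ^ a → p ^ a ∣ Nat.card Y := by
    intro Y _ _ e a ha
    let φ : Multiplicative (upG K) →* ↥(K.map PSL2.pr) :=
      { toFun := fun c => ⟨PSL2.pr (PSL2.uS (Multiplicative.toAdd c).1), Subgroup.mem_map_of_mem _ (Multiplicative.toAdd c).2⟩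
        map_one' := Subtype.ext (by
          show PSL2.pr (PSL2.uS (0 : L)) = 1
          rw [show PSL2.uS (0 : L) = 1 from Subtype.ext (by simp [Matrix.one_fin_two]), map_one])
        map_mul' := fun a b => Subtype.ext (by
          show PSL2.pr (PSL2.uS _) = _
          rw [show (Multiplicative.toAdd (a * b)).1 = (Multiplicative.toAdd a).1 + (Multiplicative.toAdd b).1 from rfl,
            PSL2.uS_add, map_mul]
          rfl) }
    have hφ : Function.Injective φ := fun a b h =>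
      Multiplicative.toAdd.injective (Subtype.ext (huinj _ _ (congrArg Subtype.val h)))
    have h1 := Subgroup.card_dvd_of_injective (e.toMonoidHom.comp φ) (e.injective.comp hφ)
    rwa [show Nat.card (Multiplicative (upG K)) = p ^ a from ha] at h1
  have hqle : ∀ b : ℕ, Fintype.card L + 1 ≤ b → p ≠ 2 → b ≤ 10 → Fintype.card L = 9 ∧ p = 3 := by
    intro b hb h2 hb10
    have hp3 : 3 ≤ p := by have := hp.two_le; omega
    have hm2 : 2 ≤ m := by
      rcases Nat.eq_zero_or_pos m with h0 | h0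
      · rw [h0, pow_zero] at hcard; have := Fintype.one_lt_card (α := L); omega
      · omega
    have h9 : p ^ 2 ≤ p ^ m := Nat.pow_le_pow_right (by omega) hm2
    rw [← hcard] at h9
    have : 3 ^ 2 ≤ p ^ 2 := Nat.pow_le_pow_left hp3 2
    refine ⟨by omega, ?_⟩
    by_contra h3
    have : 4 ^ 2 ≤ p ^ 2 := Nat.pow_le_pow_left (by omega) 2
    omega
  have htwo : (2 : L) ≠ 0 → p ≠ 2 := fun h2 h => h2 (by subst h; simpa using CharP.cast_eq_zero L 2)
  rcases kind hK with ⟨k, -, hc, -⟩ | ⟨k, hk, hk2, ⟨e⟩⟩ | ⟨g, hg, -⟩ | ⟨h2, ⟨e⟩⟩ | ⟨h2, ⟨e⟩⟩ | ⟨h2, ⟨e⟩⟩ | ⟨g, K0, hlow, hhigh, -⟩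
  · exfalso
    obtain ⟨g, hg⟩ := hc.exists_generator
    obtain ⟨a, ha⟩ := Subgroup.mem_zpowers_iff.1 (hg ⟨_, Subgroup.mem_map_of_mem _ hM0⟩)
    obtain ⟨b, hb⟩ := Subgroup.mem_zpowers_iff.1 (hg ⟨_, Subgroup.mem_map_of_mem _ hM1⟩)
    have := (Commute.refl g).zpow_zpow a b
    rw [ha, hb] at this
    exact not_comm_uv hc0 hd0 (congrArg Subtype.val this)
  · obtain ⟨a, ha0, ha⟩ := hucard
    have hpk : ¬ p ∣ k := by
      intro h
      have hk' : k ∣ Fintype.card L - 1 ∨ k ∣ Fintype.card L + 1 := by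
        rcases hk with hk | hk
        · exact Or.inl (hk.trans (Nat.div_dvd_of_dvd (Nat.gcd_dvd_right _ _)))
        · refine Or.inr (hk.trans (Nat.div_dvd_of_dvd ?_))
          rcases Nat.dvd_prime Nat.prime_two |>.1 (Nat.gcd_dvd_left 2 (Fintype.card L - 1)) with h1 | h1
          · rw [h1]; exact one_dvd _
          · rw [h1]
            have h2 : 2 ∣ Fintype.card L - 1 := h1 ▸ Nat.gcd_dvd_right _ _
            have := Fintype.one_lt_card (α := L)
            omega
      have hpq : p ∣ Fintype.card L := by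
        rw [hcard]
        rcases Nat.eq_zero_or_pos m with h0 | h0
        · rw [h0, pow_zero] at hcard; have := Fintype.one_lt_card (α := L); omega
        · exact dvd_pow_self p (by omega)
      have := Fintype.one_lt_card (α := L)
      rcases hk' with h1 | h1
      · have := Nat.dvd_sub hpq (h.trans h1)
        rw [show Fintype.card L - (Fintype.card L - 1) = 1 by omega] at this
        exact hp.not_dvd_one this
      · have := Nat.dvd_sub (h.trans h1) hpq
        rw [show Fintype.card L + 1 - Fintype.card L = 1 by omega] at this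
        exact hp.not_dvd_one this
    haveI : NeZero k := ⟨by omega⟩
    have h1 := hpa e a ha
    rw [DihedralGroup.nat_card] at h1
    have h2 : p ^ a ∣ 2 := (Nat.Coprime.pow_left a ((hp.coprime_iff_not_dvd).2 hpk)).dvd_of_dvd_mul_right h1
    have h3 : p ^ a = 2 := ((Nat.dvd_prime Nat.prime_two).1 h2).resolve_left (fun h => by
      have := Nat.one_lt_pow ha0 hp.one_lt; omega)
    refine Or.inl ⟨?_, ha.trans h3⟩
    exact (Nat.prime_dvd_prime_iff_eq hp Nat.prime_two).1 (h3 ▸ dvd_pow_self p ha0)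
  · exfalso
    obtain ⟨v, hv⟩ : ∃ v : Fin 2 → L, v = g⁻¹.val *ᵥ ![1, 0] := ⟨_, rfl⟩
    have hv0 : v ≠ 0 := fun h0 => by
      have h1 : (![1, 0] : Fin 2 → L) = 0 := by
        rw [← Matrix.one_mulVec ![(1 : L), 0], show (1 : Matrix (Fin 2) (Fin 2) L) = g.val * g⁻¹.val from g.mul_inv.symm,
          ← Matrix.mulVec_mulVec, ← hv, h0, Matrix.mulVec_zero]
      simpa using congrFun h1 0
    have fixv : ∀ M ∈ K, ∃ x : L, M.1 *ᵥ v = x • v := fun M hM => by
      have h10 := hg _ ⟨M, hM, rfl⟩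
      obtain ⟨y, hy⟩ : ∃ y, y = PSL2.conjSL g M := ⟨_, rfl⟩
      change (PSL2.conjSL g M).1 1 0 = 0 at h10
      rw [← hy] at h10
      refine ⟨y.1 0 0, ?_⟩
      have hye : y.1 *ᵥ ![1, 0] = y.1 0 0 • ![1, 0] := by
        funext i; fin_cases i <;> simp [Matrix.mulVec, dotProduct, h10]
      rw [hv, ← Matrix.mulVec_smul, ← hye, hy, PSL2.conjSL_val, Matrix.mulVec_mulVec, Matrix.mulVec_mulVec,
        ← Matrix.mul_assoc, ← Matrix.mul_assoc, Units.inv_mul, Matrix.one_mul]
    obtain ⟨x, hx⟩ := fixv _ hM0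
    obtain ⟨z, hz⟩ := fixv _ hM1
    have x0 := congrFun hx 0
    have x1 := congrFun hx 1
    have z0 := congrFun hz 0
    have z1 := congrFun hz 1
    simp [Matrix.mulVec, dotProduct] at x0 x1 z0 z1
    by_cases hv1 : v 1 = 0
    · have hv00 : v 0 ≠ 0 := fun h0 => hv0 (funext fun i => by fin_cases i <;> assumption)
      have hz1' : z = 1 := mul_right_cancel₀ hv00 (by linear_combination -z0)
      rw [hv1] at z1
      exact mul_ne_zero hd0 hv00 (by linear_combination z1)
    · have hx1' : x = 1 := mul_right_cancel₀ hv1 (by linear_combination -x1)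
      rw [hx1'] at x0
      exact mul_ne_zero hc0 hv1 (by linear_combination x0)
  · refine Or.inr ?_
    obtain ⟨a, ha0, ha⟩ := hucard
    have h1 := hpa e a ha
    rw [show Nat.card (alternatingGroup (Fin 4)) = 12 by rw [Nat.card_eq_fintype_card]; decide +kernel] at h1
    have hp12 : p ∣ 12 := (dvd_pow_self p ha0).trans h1
    have hp3 : p = 3 := by
      have := Nat.le_of_dvd (by norm_num) hp12
      have := htwo h2
      interval_cases p <;> first | rfl | omega | (exfalso; norm_num at *)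
    subst hp3
    have hb := root_bound K e (p := 3) h2 hroot (N := 8) a4_three.le
    obtain ⟨h9, -⟩ := hqle 4 (by omega) (by norm_num) (by norm_num)
    exact ⟨h9, by rw [ha, eq_p ha0 h1 (by norm_num) (by norm_num)]⟩
  · refine Or.inr ?_
    obtain ⟨a, ha0, ha⟩ := hucard
    have h1 := hpa e a ha
    rw [show Nat.card (Equiv.Perm (Fin 4)) = 24 by rw [Nat.card_eq_fintype_card]; decide +kernel] at h1
    have hp12 : p ∣ 24 := (dvd_pow_self p ha0).trans h1
    have hp3 : p = 3 := by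
      have := Nat.le_of_dvd (by norm_num) hp12
      have := htwo h2
      interval_cases p <;> first | rfl | omega | (exfalso; norm_num at *)
    subst hp3
    have hb := root_bound K e (p := 3) h2 hroot (N := 8) s4_three.le
    obtain ⟨h9, -⟩ := hqle 4 (by omega) (by norm_num) (by norm_num)
    exact ⟨h9, by rw [ha, eq_p ha0 h1 (by norm_num) (by norm_num)]⟩
  · refine Or.inr ?_
    obtain ⟨a, ha0, ha⟩ := hucard
    have h1 := hpa e a ha
    rw [show Nat.card (alternatingGroup (Fin 5)) = 60 by rw [Nat.card_eq_fintype_card]; decide +kernel] at h1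
    have hp12 : p ∣ 60 := (dvd_pow_self p ha0).trans h1
    have hp35 : p = 3 ∨ p = 5 := by
      have := Nat.le_of_dvd (by norm_num) hp12
      have := htwo h2
      have h235 : p ∣ 2 * 2 * 3 * 5 := hp12
      rcases (Nat.Prime.dvd_mul hp).1 h235 with h | h
      · rcases (Nat.Prime.dvd_mul hp).1 h with h | h
        · rcases (Nat.Prime.dvd_mul hp).1 h with h | h <;>
            exact absurd ((Nat.prime_dvd_prime_iff_eq hp Nat.prime_two).1 h) this
        · exact Or.inl ((Nat.prime_dvd_prime_iff_eq hp Nat.prime_three).1 h)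
      · exact Or.inr ((Nat.prime_dvd_prime_iff_eq hp (by norm_num)).1 h)
    rcases hp35 with rfl | rfl
    · have hb := root_bound K e (p := 3) h2 hroot (N := 20) a5_three.le
      obtain ⟨h9, -⟩ := hqle 10 (by omega) (by norm_num) (by norm_num)
      exact ⟨h9, by rw [ha, eq_p ha0 h1 (by norm_num) (by norm_num)]⟩
    · have hb := root_bound K e (p := 5) h2 hroot (N := 24) a5_five.le
      obtain ⟨h9, h35⟩ := hqle 6 (by omega) (by norm_num) (by norm_num)
      omega
  · exfalso
    have hK0 := subfield_top K g K0 hroot hhigh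
    refine hfull (eq_top_iff.2 fun x _ => ?_)
    show PSL2.uS x ∈ K
    rw [top_of_root g fun x => hlow x (hK0 x)]
    exact Subgroup.mem_top _

end Roots

end Cfsg.Agent.Small.UMinIndex.Three
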