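import Cfsg.Agent.Lib.Small.UMinIndex.ThreeBase
import Cfsg.Agent.Lib.Small.UMinIndex.ThreeCount
import Cfsg.Agent.Lib.Small.SU3Involutions
import Cfsg.Agent.Lib.Classical.UnitaryTransRoot

/-!
Involutions of the three-dimensional unitary group do not normalise subgroups of large prime order.
-/

set_option autoImplicit false
set_option linter.unusedSectionVars false
set_option linter.style.haveILetI false

namespace Cfsg.Agent.Small.UMinIndex.Three

open Matrix Module Cfsg.Agent.Small.Unitary Cfsg.Agent.Small.UCover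

variable {F : Type*} [Field F] [Fintype F] [StarRing F] {q : ℕ} {i j : Fin 3} {e f : Fin 3 → F}

/-- The linear map of a group element. -/
abbrev lin (g : Cfsg.SU 3 F q) : (Fin 3 → F) →ₗ[F] (Fin 3 → F) :=
  Matrix.toLin' ((g : Matrix.SpecialLinearGroup (Fin 3) F) : Matrix (Fin 3) (Fin 3) F)

theorem lin_apply (g : Cfsg.SU 3 F q) (x : Fin 3 → F) : lin g x = act g x := Matrix.toLin'_apply _ _

/-- The space inverted by an element. -/
def negSpace (g : Cfsg.SU 3 F q) : Submodule F (Fin 3 → F) := LinearMap.ker (lin g + 1)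

theorem mem_negSpace {g : Cfsg.SU 3 F q} {x : Fin 3 → F} : x ∈ negSpace g ↔ act g x = -x := by
  rw [negSpace, LinearMap.mem_ker, LinearMap.add_apply, lin_apply, Module.End.one_apply, add_eq_zero_iff_eq_neg]

theorem two_or (hF : Fintype.card F = q ^ 2) : (2 : F) = 0 ∧ Even q ∨ (2 : F) ≠ 0 ∧ Odd q := by
  obtain ⟨p, hchar⟩ := CharP.exists F
  haveI := hchar
  obtain ⟨k, hp, hc⟩ := FiniteField.card F p
  rw [hF] at hc
  by_cases h2 : (2 : F) = 0
  · refine Or.inl ⟨h2, ?_⟩
    have h : p ∣ 2 := (CharP.cast_eq_zero_iff F p 2).1 (by simpa using h2)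
    obtain rfl := (Nat.prime_dvd_prime_iff_eq hp Nat.prime_two).1 h
    exact (Nat.even_pow.1 (hc ▸ (Nat.even_pow.2 ⟨even_two, k.ne_zero⟩) : Even (q ^ 2))).1
  · refine Or.inr ⟨h2, ?_⟩
    by_contra hq
    rw [Nat.not_odd_iff_even] at hq
    have h : 2 ∣ p ^ (k : ℕ) := hc ▸ (even_iff_two_dvd.1 hq).pow (by norm_num)
    obtain rfl := ((Nat.prime_dvd_prime_iff_eq Nat.prime_two hp).1 (Nat.prime_two.dvd_of_dvd_pow h)).symm
    exact h2 (by simpa using CharP.cast_eq_zero F 2)

section Finite

variable (hstar : ∀ x : F, star x = x ^ q) (hF : Fintype.card F = q ^ 2)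
include hstar hF

/-- An involution inverts a plane. -/
theorem two_le_negSpace {t : Cfsg.SU 3 F q} (ht : t ≠ 1) (ht2 : t * t = 1) : 2 ≤ finrank F (negSpace t) := by
  rcases two_or hF with ⟨h2, -⟩ | ⟨-, hodd⟩
  · obtain ⟨N, hN⟩ : ∃ N, N = lin t + 1 := ⟨_, rfl⟩
    have hsum := LinearMap.finrank_range_add_finrank_ker N
    rw [Module.finrank_fin_fun] at hsum
    have hle : LinearMap.range N ≤ LinearMap.ker N := by
      rintro _ ⟨x, rfl⟩
      rw [LinearMap.mem_ker, hN]
      simp only [LinearMap.add_apply, lin_apply, Module.End.one_apply, act_add, ← act_mul, ht2, act_one]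
      rw [show x + act t x + (act t x + x) = (2 : F) • (x + act t x) by module, h2, zero_smul]
    have := Submodule.finrank_mono hle
    rw [negSpace, ← hN]
    omega
  · obtain ⟨p, k, σ, hp, hchar, hqp, hk, hσ⟩ := Classical.exists_usigma hF
    obtain ⟨v, hv⟩ := SU3Inv.exists_refl_eq hσ hodd t ht ht2
    have hne : Cfsg.hermForm 3 F q v.1 v.1 ≠ 0 := by rw [v.2]; exact one_ne_zero
    rw [← SU3Inv.finrank_perp hσ hne]
    refine Submodule.finrank_mono fun x hx => ?_
    have hx' : Cfsg.hermForm 3 F q x v.1 = 0 := hx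
    rw [mem_negSpace, ← hv]
    have h := SU3Inv.refl_apply hσ v x
    rw [hx', mul_zero, zero_smul, zero_sub] at h
    exact h

/-- The complement of the inverted plane moves along one line. -/
theorem exists_line {t : Cfsg.SU 3 F q} (ht : t ≠ 1) (ht2 : t * t = 1) :
    ∃ a : Fin 3 → F, a ≠ 0 ∧ ∀ x, ∃ c : F, act t x + x = c • a := by
  have h := two_le_negSpace hstar hF ht ht2
  rw [negSpace] at h
  have hsum := LinearMap.finrank_range_add_finrank_ker (lin t + 1)
  rw [Module.finrank_fin_fun] at hsum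
  have h1 : finrank F (LinearMap.range (lin t + 1)) ≤ 1 := by omega
  obtain ⟨a, ha⟩ := finrank_le_one_iff.1 h1
  by_cases ha0 : (a : Fin 3 → F) = 0
  · refine ⟨Pi.single 0 1, fun h0 => by simpa using congrFun h0 0, fun x => ⟨0, ?_⟩⟩
    obtain ⟨c, hc⟩ := ha ⟨(lin t + 1) x, LinearMap.mem_range_self _ x⟩
    have h2 : c • (a : Fin 3 → F) = act t x + x := by
      have := congrArg Subtype.val hc
      simpa [lin_apply, act] using this
    rw [zero_smul, ← h2, ha0, smul_zero]
  · refine ⟨a, ha0, fun x => ?_⟩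
    obtain ⟨c, hc⟩ := ha ⟨(lin t + 1) x, LinearMap.mem_range_self _ x⟩
    have := congrArg Subtype.val hc
    exact ⟨c, by simpa [lin_apply, act] using this.symm⟩

/-- Two involutions invert a common vector. -/
theorem exists_common {t u : Cfsg.SU 3 F q} (ht : t ≠ 1) (ht2 : t * t = 1) (hu : u ≠ 1) (hu2 : u * u = 1) :
    ∃ v : Fin 3 → F, v ≠ 0 ∧ act t v = -v ∧ act u v = -v := by
  have h1 := two_le_negSpace hstar hF ht ht2
  have h2 := two_le_negSpace hstar hF hu hu2
  have h3 := Submodule.finrank_sup_add_finrank_inf_eq (negSpace t) (negSpace u)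
  have h4 := Submodule.finrank_le (negSpace t ⊔ negSpace u)
  rw [Module.finrank_fin_fun] at h4
  have hne : negSpace t ⊓ negSpace u ≠ ⊥ := fun h => by
    rw [h, finrank_bot] at h3
    omega
  obtain ⟨v, hv, hv0⟩ := Submodule.exists_mem_ne_zero_of_ne_bot hne
  exact ⟨v, hv0, mem_negSpace.1 hv.1, mem_negSpace.1 hv.2⟩

/-- A plane contains an isotropic vector. -/
theorem exists_iso {S : Submodule F (Fin 3 → F)} (h : 2 ≤ finrank F S) :
    ∃ v ∈ S, v ≠ 0 ∧ herm v v = 0 := by
  obtain ⟨u, hu, hu0⟩ := Submodule.exists_mem_ne_zero_of_ne_bot (show S ≠ ⊥ by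
    intro e; rw [e, finrank_bot] at h; omega)
  by_cases huu : herm u u = 0
  · exact ⟨u, hu, hu0, huu⟩
  let φ : ↥S →ₗ[F] F :=
    { toFun := fun x => herm u x.1
      map_add' := fun x y => herm_add_right _ _ _
      map_smul' := fun c x => herm_smul_right _ _ _ }
  have hker : LinearMap.ker φ ≠ ⊥ := fun e => by
    have h1 := LinearMap.finrank_range_add_finrank_ker φ
    have h2 := Submodule.finrank_le (LinearMap.range φ)
    rw [e, finrank_bot, Module.finrank_self] at *
    omega
  obtain ⟨w, hw, hw0⟩ := Submodule.exists_mem_ne_zero_of_ne_bot hker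
  have hw0' : w.1 ≠ 0 := fun e => hw0 (Subtype.ext e)
  have huw : herm u w.1 = 0 := hw
  by_cases hww : herm w.1 w.1 = 0
  · exact ⟨w.1, w.2, hw0', hww⟩
  obtain ⟨c, hc0, hc⟩ := Hermitian.exists_norm hstar hF (a := -(herm u u) / herm w.1 w.1)
    (div_ne_zero (neg_ne_zero.2 huu) hww) (by rw [star_div₀, star_neg, star_herm, star_herm])
  refine ⟨u + c • w.1, add_mem hu (S.smul_mem c w.2), fun e => huu ?_, ?_⟩
  · have := congrArg (herm u) e
    rwa [herm_add_right, herm_smul_right, huw, mul_zero, add_zero, herm_zero_right] at this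
  · have hwu : herm w.1 u = 0 := by rw [← star_herm, huw, star_zero]
    simp only [herm_add_left, herm_add_right, herm_smul_left, herm_smul_right, huw, hwu, mul_zero, add_zero,
      zero_add]
    rw [← mul_assoc, mul_comm c (star c), hc, div_mul_cancel₀ _ hww, add_neg_cancel]

/-- An involution fixes an isotropic point. -/
theorem invol_fix {t : Cfsg.SU 3 F q} (ht : t ≠ 1) (ht2 : t * t = 1) :
    ∃ v : Fin 3 → F, v ≠ 0 ∧ herm v v = 0 ∧ act t v = -v := by
  obtain ⟨v, hv, hv0, hvv⟩ := exists_iso hstar hF (two_le_negSpace hstar hF ht ht2)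
  exact ⟨v, hv0, hvv, mem_negSpace.1 hv⟩

/-- The fixer of a unit vector. -/
theorem card_fix_unit (P : Pair i j e f) {v : Fin 3 → F} (hv : herm v v = 1) :
    ∃ S : Subgroup (Cfsg.SU 3 F q), (∀ g, g ∈ S ↔ act g v = v) ∧ Nat.card S = q * (q + 1) * (q - 1) := by
  classical
  let S : Subgroup (Cfsg.SU 3 F q) :=
    { carrier := {g | act g v = v}
      one_mem' := act_one v
      mul_mem' := fun {a b} ha hb => by
        show act (a * b) v = v
        rw [act_mul, show act b v = v from hb]; exact ha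
      inv_mem' := fun {a} ha => by
        show act a⁻¹ v = v
        conv_lhs => rw [← show act a v = v from ha]
        rw [act_inv_act] }
  let ψ : Cfsg.SU 3 F q ⧸ S → {x : Fin 3 → F // herm x x = 1} := fun c =>
    ⟨act c.out v, by rw [herm_act hstar]; exact hv⟩
  have hb : Function.Bijective ψ := by
    refine ⟨fun a b h => ?_, fun ⟨x, hx⟩ => ?_⟩
    · have h1 : act a.out v = act b.out v := congrArg Subtype.val h
      rw [← QuotientGroup.out_eq' a, ← QuotientGroup.out_eq' b, QuotientGroup.eq]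
      show act _ v = v
      rw [act_mul, ← h1, act_inv_act]
    · obtain ⟨g, hg⟩ := exists_move hstar hF (on_one hv) (on_one hx) (by norm_num)
      obtain ⟨s, hs⟩ := QuotientGroup.mk_out_eq_mul S g
      refine ⟨QuotientGroup.mk g, Subtype.ext ?_⟩
      show act (QuotientGroup.mk g : Cfsg.SU 3 F q ⧸ S).out v = x
      rw [hs, act_mul, show act (s : Cfsg.SU 3 F q) v = v from s.2]
      exact hg 0
  obtain ⟨p, k, σ, hp, hchar, hqp, hk, hσ⟩ := Classical.exists_usigma hF
  have hu : Nat.card {x : Fin 3 → F // herm x x = 1} = (q + 1) * (q ^ 2 * (q ^ 2 - q + 1)) := by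
    rw [← SU3Inv.unitNum_three hσ, ← Classical.UCount.card_norm hσ 3 (SU3Inv.herm hσ) (Module.finrank_fin_fun F)
      one_ne_zero (map_one σ)]
    exact Nat.card_congr (Equiv.subtypeEquivRight fun x => by rw [Classical.URoot.hermForm_eq hstar])
  have h := S.index_mul_card
  rw [Subgroup.index, Nat.card_congr (Equiv.ofBijective ψ hb), hu, card_SU3 hstar hF P] at h
  refine ⟨S, fun g => Iff.rfl, ?_⟩
  obtain ⟨m, rfl⟩ : ∃ m, q = m + 2 := ⟨q - 2, by have := Hermitian.q_two_le hF; omega⟩
  have e1 : (m + 2) ^ 2 - (m + 2) = (m + 2) * (m + 1) := Nat.sub_eq_of_eq_add (by ring)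
  have e2 : (m + 2) ^ 2 - 1 = (m + 1) * (m + 3) := Nat.sub_eq_of_eq_add (by ring)
  rw [e1, e2] at h
  rw [show m + 2 - 1 = m + 1 by omega]
  refine Nat.eq_of_mul_eq_mul_left (show 0 < (m + 2 + 1) * ((m + 2) ^ 2 * ((m + 2) * (m + 1) + 1)) by positivity)
    (h.trans ?_)
  ring

/-- An element of large prime order fixes no vector. -/
theorem no_fix (P : Pair i j e f) {x : Cfsg.SU 3 F q} {r : ℕ} (hr : r.Prime) (hx : orderOf x = r)
    (hrq : ¬ r ∣ q * (q + 1) * (q - 1)) {v : Fin 3 → F} (hv0 : v ≠ 0) (hv : act x v = v) : False := by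
  have hrq1 : ¬ r ∣ q := fun h => hrq (dvd_mul_of_dvd_left (dvd_mul_of_dvd_left h _) _)
  by_cases hvv : herm v v = 0
  · obtain ⟨g, hg⟩ := exists_move_point hstar hF P le_rfl hv0 hvv
    have he : act (g⁻¹ * x * g) e = e := by rw [act_mul, act_mul, hg, hv, ← hg, act_inv_act]
    have hp : g⁻¹ * x * g ∈ par1 q P := ⟨1, by rw [he, one_smul]⟩
    have hrad := mem_rad_of_sc hstar hF P hp (by rw [sc, he, P.fe])
    have h1 : orderOf (g⁻¹ * x * g) ∣ Nat.card (rad hstar P) := by
      have := orderOf_dvd_natCard (⟨_, hrad⟩ : rad hstar P)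
      rwa [← Subgroup.orderOf_coe] at this
    rw [show g⁻¹ * x * g = MulAut.conj g⁻¹ x by simp [MulAut.conj_apply], MulEquiv.orderOf_eq,
      hx, card_rad_eq hstar hF (by norm_num) (P := P)] at h1
    exact hrq1 (hr.dvd_of_dvd_pow h1)
  · obtain ⟨c, hc0, hc⟩ := exists_scale hstar hF hvv
    obtain ⟨S, hS, hcard⟩ := card_fix_unit hstar hF P hc
    have hxS : x ∈ S := (hS x).2 (by rw [act_smul, hv])
    have h1 := orderOf_dvd_natCard (⟨x, hxS⟩ : S)
    rw [← Subgroup.orderOf_coe, hx, hcard] at h1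
    exact hrq h1

/-- No involution normalises a subgroup of large prime order. -/
theorem no_norm_invol (P : Pair i j e f) {x t : Cfsg.SU 3 F q} {r : ℕ} (hr : r.Prime) (hx : orderOf x = r)
    (hrq : ¬ r ∣ q * (q + 1) * (q - 1)) (ht : orderOf t = 2) (hn : t * x * t⁻¹ ∈ Subgroup.zpowers x) : False := by
  have ht1 : t ≠ 1 := fun h => by rw [h, orderOf_one] at ht; omega
  have ht2 : t * t = 1 := by rw [← pow_two, ← ht]; exact pow_orderOf_eq_one t
  have hti : t⁻¹ = t := inv_eq_of_mul_eq_one_right ht2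
  rw [hti] at hn
  obtain ⟨k, hk⟩ := Subgroup.mem_zpowers_iff.1 hn
  have h1 : x = x ^ (k * k) := by
    calc x = t * (t * x * t) * t := by simp [mul_assoc, ht2, ← mul_assoc t t]
      _ = t * x ^ k * t⁻¹ := by rw [hk, hti]
      _ = (t * x * t⁻¹) ^ k := (conj_zpow).symm
      _ = x ^ (k * k) := by rw [hti, ← hk, ← _root_.zpow_mul]
  have h2 : (r : ℤ) ∣ (k - 1) * (k + 1) := by
    have : x ^ (k * k - 1) = 1 := by rw [_root_.zpow_sub, zpow_one, ← h1, mul_inv_cancel]
    rw [← hx, show (k - 1) * (k + 1) = k * k - 1 by ring]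
    exact orderOf_dvd_iff_zpow_eq_one.2 this
  have hx1 : x ≠ 1 := fun h => by rw [h, orderOf_one] at hx; exact hr.ne_one hx.symm
  rcases (Nat.prime_iff_prime_int.1 hr).dvd_or_dvd h2 with h | h
  · -- centralising
    have hc : t * x * t = x := by
      rw [← hk]
      have := orderOf_dvd_iff_zpow_eq_one.1 (hx.symm ▸ h : (orderOf x : ℤ) ∣ k - 1)
      rwa [_root_.zpow_sub, zpow_one, mul_inv_eq_one] at this
    have hcomm : x * t = t * x := by
      calc x * t = t * x * t * t := by rw [hc]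
        _ = t * x := by rw [mul_assoc, ht2, mul_one]
    obtain ⟨a, ha0, ha⟩ := exists_line hstar hF ht1 ht2
    by_cases hN : ∀ y, act t y + y = 0
    · obtain ⟨u, hu0, huu, -⟩ := invol_fix hstar hF ht1 ht2
      have hdet : (t : Matrix.SpecialLinearGroup (Fin 3) F).1 = -1 := by
        refine Matrix.toLin'.injective (LinearMap.ext fun y => ?_)
        rw [Matrix.toLin'_apply, Matrix.toLin'_apply, Matrix.neg_mulVec, Matrix.one_mulVec]
        exact eq_neg_of_add_eq_zero_left (hN y)
      have hd := (t : Matrix.SpecialLinearGroup (Fin 3) F).2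
      rw [hdet, Matrix.det_neg, Matrix.det_one, Fintype.card_fin] at hd
      rcases two_or hF with ⟨h20, -⟩ | ⟨h2, -⟩
      · refine ht1 (eq_of_act fun y => ?_)
        rw [act_one, eq_neg_of_add_eq_zero_left (hN y), neg_eq_iff_add_eq_zero, ← two_smul F, h20, zero_smul]
      · exact h2 (by linear_combination -hd)
    push Not at hN
    obtain ⟨y, hy⟩ := hN
    obtain ⟨c, hc'⟩ := ha y
    have hc0 : c ≠ 0 := fun h => hy (by rw [hc', h, zero_smul])
    obtain ⟨d, hd⟩ := ha (act x y)
    have hxa : act x a = (d / c) • a := by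
      rw [← inv_smul_smul₀ hc0 a, ← hc', act_smul, act_add, ← act_mul, hcomm, act_mul, hd, smul_smul, hc',
        inv_smul_smul₀ hc0, inv_mul_eq_div]
    have hpow : ∀ n : ℕ, act (x ^ n) a = (d / c) ^ n • a := by
      intro n
      induction n with
      | zero => rw [pow_zero, act_one, pow_zero, one_smul]
      | succ n ih => rw [pow_succ', act_mul, ih, act_smul, hxa, smul_smul, pow_succ]
    have hr1 := hpow r
    rw [← hx, pow_orderOf_eq_one, act_one, hx] at hr1
    have hone : (d / c) ^ r = 1 := smul_left_injective F ha0 (by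
      show (d / c) ^ r • a = (1 : F) • a
      rw [one_smul, ← hr1])
    have hd0 : d / c ≠ 0 := fun h => by rw [h, zero_pow hr.ne_zero] at hone; exact zero_ne_one hone
    have h3 : orderOf (Units.mk0 _ hd0) ∣ r := orderOf_dvd_of_pow_eq_one (Units.ext hone)
    have h4 : orderOf (Units.mk0 _ hd0) ∣ q ^ 2 - 1 := by
      refine (orderOf_dvd_natCard _).trans (dvd_of_eq ?_)
      rw [Nat.card_units, Nat.card_eq_fintype_card, hF]
    rcases (Nat.dvd_prime hr).1 h3 with h5 | h5
    · have h6 : d / c = 1 := congrArg Units.val (orderOf_eq_one_iff.1 h5)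
      rw [h6, one_smul] at hxa
      exact no_fix hstar hF P hr hx hrq ha0 hxa
    · rw [h5, Hermitian.sq_sub_one q] at h4
      rw [mul_assoc] at hrq
      exact hrq (dvd_mul_of_dvd_right h4 q)
  · -- inverting
    have hc : t * x * t = x⁻¹ := by
      rw [← hk]
      have := orderOf_dvd_iff_zpow_eq_one.1 (hx.symm ▸ h : (orderOf x : ℤ) ∣ k + 1)
      rw [_root_.zpow_add, zpow_one] at this
      exact eq_inv_of_mul_eq_one_left this
    have hu2 : (t * x) * (t * x) = 1 := by
      rw [← mul_assoc, hc, inv_mul_cancel]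
    have hu1 : t * x ≠ 1 := fun h => by
      have : x = t := by
        rw [← hti]; exact eq_inv_of_mul_eq_one_right h
      subst this
      rw [ht] at hx
      subst hx
      obtain ⟨c, rfl⟩ | hodd := Nat.even_or_odd q
      · exact hrq ⟨c * (c + c + 1) * (c + c - 1), by ring⟩
      · obtain ⟨c, rfl⟩ := hodd
        exact hrq ⟨(2 * c + 1) * (c + 1) * (2 * c + 1 - 1), by ring⟩
    obtain ⟨v, hv0, hv1, hv2⟩ := exists_common hstar hF ht1 ht2 hu1 hu2
    refine no_fix hstar hF P hr hx hrq hv0 ?_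
    have h7 : act x v = act t (act (t * x) v) := by rw [← act_mul, ← mul_assoc, ht2, one_mul]
    rw [h7, hv2, ← neg_one_smul F v, act_smul, hv1, neg_one_smul, neg_neg]

/-- Sylow numbers forcing an involution in a normaliser. -/
theorem no_order (P : Pair i j e f) (H : Subgroup (Cfsg.SU 3 F q)) {r M : ℕ} (hr : r.Prime)
    (hrq : ¬ r ∣ q * (q + 1) * (q - 1)) (hcard : Nat.card H = r * M) (hrM : ¬ r ∣ M)
    (hn : ∀ n ∈ M.divisors, n % r = 1 → 2 ∣ M / n) : False := by
  obtain ⟨x, -, t, -, hx, ht, hn'⟩ := exists_normalising_involution H hr hcard hrM hn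
  exact no_norm_invol hstar hF P hr hx hrq ht hn'

end Finite

end Cfsg.Agent.Small.UMinIndex.Three
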