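import Cfsg.Agent.Lib.Small.UMinIndex.ThreeInvol
import Cfsg.Agent.Lib.Small.UMinIndex.ThreeDickson
import Cfsg.Agent.Lib.Classical.UnitaryTransRoot
import Cfsg.Agent.Lib.Small.SL2.Classes

/-!
The action of `SL₂(q)` on the line of a hyperbolic pair and the subgroups it sees.
-/

set_option autoImplicit false
set_option linter.unusedSectionVars false
set_option linter.style.haveILetI false

namespace Cfsg.Agent.Small.UMinIndex.Three

open Matrix Cfsg.Agent.Small Cfsg.Agent.Small.Unitary Cfsg.Agent.Small.UCover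

variable {F : Type*} [Field F] [Fintype F] [StarRing F] {q : ℕ} {i j : Fin 3} {e f : Fin 3 → F}

/-- The data of `SL₂` of the fixed field on the line of a pair. -/
structure Chart (hstar : ∀ x : F, star x = x ^ q) (P : Pair i j e f) (L : Subfield F) (θ : F) : Prop where
  fix : ∀ x : L, star (x : F) = x
  onto : ∀ y : F, star y = y → y ∈ L
  card : Nat.card L = q
  ne : θ ≠ 0
  skew : star θ = -θ

variable {hstar : ∀ x : F, star x = x ^ q} {P : Pair i j e f} {L : Subfield F} {θ : F}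

theorem exists_chart (hstar : ∀ x : F, star x = x ^ q) (hF : Fintype.card F = q ^ 2) (P : Pair i j e f) :
    ∃ (L : Subfield F) (θ : F), Chart hstar P L θ := by
  have hq := Hermitian.q_two_le hF
  obtain ⟨θ, hθ0, hθ⟩ : ∃ θ : F, θ ≠ 0 ∧ star θ = -θ := by
    by_contra hno
    push Not at hno
    have h : Nat.card {s : F // star s = -s} ≤ 1 :=
      Finite.card_le_one_iff_subsingleton.2 ⟨fun a b => Subtype.ext (by
        rw [not_imp_not.1 (hno a.1) a.2, not_imp_not.1 (hno b.1) b.2])⟩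
    rw [card_skew hstar hF] at h
    omega
  refine ⟨(starRingEnd F).eqLocusField (RingHom.id F), θ, fun x => x.2, fun y hy => hy, ?_, hθ0, hθ⟩
  rw [← card_skew hstar hF]
  refine Nat.card_congr ⟨fun a => ⟨a.1 * θ, ?_⟩, fun s => ⟨s.1 / θ, ?_⟩, fun a => ?_, fun s => ?_⟩
  · rw [star_mul', show star a.1 = a.1 from a.2, hθ, mul_neg]
  · show star (s.1 / θ) = s.1 / θ
    rw [star_div₀, s.2, hθ, neg_div_neg_eq]
  · exact Subtype.ext (mul_div_cancel_right₀ a.1 hθ0)
  · exact Subtype.ext (div_mul_cancel₀ s.1 hθ0)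

/-- The embedding of `SL₂`. -/
noncomputable def phi (C : Chart hstar P L θ) : Matrix.SpecialLinearGroup (Fin 2) L →* Cfsg.SU 3 F q :=
  Classical.URoot.planeHom (ι := L.subtype) hstar C.fix C.ne C.skew P.ee P.ff P.ef

/-- The vector of a coordinate pair. -/
def vec (θ : F) (e f : Fin 3 → F) (v : Fin 2 → L) : Fin 3 → F :=
  ((v 0 : L) : F) • e + (((v 1 : L) : F) * θ⁻¹) • f

theorem act_phi (C : Chart hstar P L θ) (M : Matrix.SpecialLinearGroup (Fin 2) L) (x : Fin 3 → F) :
    act (phi C M) x = x + (((M 0 0 : L) : F) - 1) • herm f x • e + (((M 0 1 : L) : F) * θ) • herm e x • e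
      + (((M 1 0 : L) : F) * θ⁻¹) • herm f x • f + (((M 1 1 : L) : F) - 1) • herm e x • f := by
  refine (Classical.URoot.act_planeHom (ι := L.subtype) hstar C.fix C.ne C.skew P.ee P.ff P.ef M x).trans ?_
  simp only [Subfield.coe_subtype, add_smul, smul_smul, add_assoc]

theorem act_phi_vec (C : Chart hstar P L θ) (M : Matrix.SpecialLinearGroup (Fin 2) L) (v : Fin 2 → L) :
    act (phi C M) (vec θ e f v) = vec θ e f (M.1 *ᵥ v) := by
  have hθ := C.ne
  rw [act_phi, vec, vec, herm_add_right, herm_smul_right, herm_smul_right, herm_add_right, herm_smul_right,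
    herm_smul_right, P.fe, P.ff, P.ee, P.ef]
  simp only [Matrix.mulVec, dotProduct, Fin.sum_univ_two, Subfield.coe_add, Subfield.coe_mul]
  match_scalars <;> field_simp <;> ring

theorem act_phi_W (C : Chart hstar P L θ) (M : Matrix.SpecialLinearGroup (Fin 2) L) {w : Fin 3 → F}
    (hw : w ∈ Wsub i j) : act (phi C M) w = w := by
  rw [act_phi, (P.herm_W hw).1, (P.herm_W hw).2]
  simp

theorem vec_e : vec (L := L) θ e f ![1, 0] = e := by simp [vec]

theorem phi_neg (C : Chart hstar P L θ) {c : Matrix.SpecialLinearGroup (Fin 2) L}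
    (hc : c.1 = (-1 : L) • (1 : Matrix (Fin 2) (Fin 2) L)) (x : Fin 3 → F) :
    act (phi C c) x = x - (2 * herm f x) • e - (2 * herm e x) • f := by
  have e00 : c 0 0 = -1 := by show c.1 0 0 = -1; rw [hc]; simp
  have e01 : c 0 1 = 0 := by show c.1 0 1 = 0; rw [hc]; simp
  have e10 : c 1 0 = 0 := by show c.1 1 0 = 0; rw [hc]; simp
  have e11 : c 1 1 = -1 := by show c.1 1 1 = -1; rw [hc]; simp
  rw [act_phi, e00, e01, e10, e11]
  simp only [Subfield.coe_neg, Subfield.coe_one, Subfield.coe_zero]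
  module

theorem phi_uS (C : Chart hstar P L θ) (c : L) : phi C (PSL2.uS c) = zel hstar e ((c : F) * θ) := by
  have ht : star ((c : F) * θ) = -((c : F) * θ) := by rw [star_mul', C.fix, C.skew, mul_neg]
  refine eq_of_act fun x => ?_
  rw [zel, ← trans_eq_eich hstar P.ee ht, act_trans, act_phi]
  simp [PSL2.uS, smul_smul]

theorem phi_vS (C : Chart hstar P L θ) (c : L) : phi C (PSL2.vS c) = zel hstar f ((c : F) * θ⁻¹) := by
  have ht : star ((c : F) * θ⁻¹) = -((c : F) * θ⁻¹) := by rw [star_mul', star_inv₀, C.fix, C.skew, inv_neg, mul_neg]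
  refine eq_of_act fun x => ?_
  rw [zel, ← trans_eq_eich hstar P.ff ht, act_trans, act_phi]
  simp [PSL2.vS, smul_smul]

theorem exists_coord (C : Chart hstar P L θ) {t : F} (ht : star t = -t) : ∃ c : L, (c : F) * θ = t := by
  refine ⟨⟨t / θ, C.onto _ (by rw [star_div₀, ht, C.skew, neg_div_neg_eq])⟩, ?_⟩
  exact div_mul_cancel₀ t C.ne

section Finite

variable (hF : Fintype.card F = q ^ 2) (C : Chart hstar P L θ)
include hF

/-- An element fixing the pole and acting as the unit on it lies in the image. -/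
theorem mem_range_phi {w : Fin 3 → F} (hw : w ∈ Wsub i j) (hww : herm w w = 1) {g : Cfsg.SU 3 F q}
    (hg : act g w = w) : ∃ M, phi C M = g := by
  classical
  haveI : Fintype L := Fintype.ofFinite L
  obtain ⟨S, hS, hcard⟩ := card_fix_unit hstar hF P hww
  have hle : (phi C).range ≤ S := by
    rintro _ ⟨M, rfl⟩
    exact (hS _).2 (act_phi_W C M hw)
  have hq : Fintype.card L = q := by rw [← Nat.card_eq_fintype_card]; exact C.card
  have hinj : Function.Injective (phi C) :=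
    Classical.URoot.planeHom_injective (ι := L.subtype) hstar C.fix C.ne C.skew P.ee P.ff P.ef
  have heq : (phi C).range = S := by
    refine Subgroup.eq_of_le_of_card_ge hle (le_of_eq ?_)
    rw [hcard, ← Nat.card_congr (MonoidHom.ofInjective hinj).toEquiv, SL2C.card_SL2, hq, Hermitian.sq_sub_one q]
    ring
  exact MonoidHom.mem_range.1 (heq ▸ (hS g).2 hg)

/-- The subgroup seen on the line. -/
noncomputable def pull (H : Subgroup (Cfsg.SU 3 F q)) : Subgroup (Matrix.SpecialLinearGroup (Fin 2) L) :=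
  H.comap (phi C)

omit hF in
theorem mem_pull {H : Subgroup (Cfsg.SU 3 F q)} {M : Matrix.SpecialLinearGroup (Fin 2) L} :
    M ∈ pull C H ↔ phi C M ∈ H := Iff.rfl

omit hF in
theorem exists_first {o : Option L} : ∃ M : Matrix.SpecialLinearGroup (Fin 2) L, M.1 *ᵥ ![1, 0] = ptv o := by
  cases o with
  | none => exact ⟨1, by simp [ptv]⟩
  | some c =>
    refine ⟨⟨!![c, -1; 1, 0], by simp [Matrix.det_fin_two]⟩, ?_⟩
    funext a
    fin_cases a <;> simp [ptv, Matrix.mulVec, dotProduct]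

omit hF in
theorem mem_pull_cj {H : Subgroup (Cfsg.SU 3 F q)} {M M0 : Matrix.SpecialLinearGroup (Fin 2) L}
    (h : M ∈ pull C (cj (phi C M0)⁻¹ H)) : M0 * M * M0⁻¹ ∈ pull C H := by
  rw [mem_pull, mem_cj, inv_inv] at h
  rw [mem_pull, map_mul, map_mul, map_inv]
  exact h

omit hF in
theorem conj_trace (M0 M : Matrix.SpecialLinearGroup (Fin 2) L) : (M0 * M * M0⁻¹).1.trace = M.1.trace := by
  rw [PSL2.val_mul, PSL2.val_mul, Matrix.trace_mul_comm, ← Matrix.mul_assoc, ← PSL2.val_mul, inv_mul_cancel]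
  simp

omit hF in
theorem conj_eigen (M0 M : Matrix.SpecialLinearGroup (Fin 2) L) {v : Fin 2 → L} (x : L)
    (h : M.1 *ᵥ v = x • v) : (M0 * M * M0⁻¹).1 *ᵥ (M0.1 *ᵥ v) = x • (M0.1 *ᵥ v) := by
  rw [Matrix.mulVec_mulVec, ← PSL2.val_mul, inv_mul_cancel_right, PSL2.val_mul, ← Matrix.mulVec_mulVec, h,
    Matrix.mulVec_smul]

omit hF in
/-- Nontrivial transvections of the line are root elements. -/
theorem trace_two {H : Subgroup (Cfsg.SU 3 F q)} (h0 : ∀ g, NoRoot hstar e (cj g H))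
    {M : Matrix.SpecialLinearGroup (Fin 2) L} (hM : M ∈ pull C H) (ht : M.1.trace = 2) : M = 1 := by
  classical
  haveI : Fintype L := Fintype.ofFinite L
  by_contra hne
  have hne' : M.1 ≠ 1 := fun h => hne (Subtype.ext h)
  obtain ⟨v, hv0, hv⟩ : ∃ v : Fin 2 → L, v ≠ 0 ∧ (M.1 - 1) *ᵥ v = 0 := by
    refine Matrix.exists_mulVec_eq_zero_iff.2 ?_
    have hd : M.1 0 0 * M.1 1 1 - M.1 0 1 * M.1 1 0 = 1 := by rw [← Matrix.det_fin_two]; exact M.2
    rw [Matrix.trace_fin_two] at ht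
    rw [Matrix.det_fin_two]
    simp
    linear_combination hd - ht
  obtain ⟨o, c, hc, rfl⟩ := exists_ptv hv0
  rw [Matrix.mulVec_smul, smul_eq_zero, Matrix.sub_mulVec, Matrix.one_mulVec, sub_eq_zero] at hv
  have hfix : M.1 *ᵥ ptv o = ptv o := hv.resolve_left hc
  obtain ⟨M0, hM0⟩ := exists_first (o := o) (L := L)
  have hM' : M0⁻¹ * M * M0 ∈ pull C (cj (phi C M0)⁻¹ H) := by
    rw [mem_pull, mem_cj, inv_inv, map_mul, map_mul, map_inv]
    have hM2 := (mem_pull C).1 hM
    simpa [mul_assoc] using hM2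
  have ht' : (M0⁻¹ * M * M0).1.trace = 2 := by
    have := conj_trace M0⁻¹ M
    rwa [inv_inv, ht] at this
  have hf' : (M0⁻¹ * M * M0).1 *ᵥ ptv none = ptv none := by
    have h1 := conj_eigen M0⁻¹ M (v := ptv o) 1 (by rw [one_smul]; exact hfix)
    have h2 : (M0⁻¹).1 *ᵥ ptv o = ptv (none : Option L) := by
      rw [← hM0, Matrix.mulVec_mulVec, ← PSL2.val_mul, inv_mul_cancel]
      simp [ptv]
    rwa [inv_inv, h2, one_smul] at h1
  have hne2 : (M0⁻¹ * M * M0).1 ≠ 1 := fun h => hne (by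
    have h1 : M0⁻¹ * M * M0 = 1 := Subtype.ext h
    calc M = M0 * (M0⁻¹ * M * M0) * M0⁻¹ := by group
      _ = 1 := by rw [h1]; group)
  obtain ⟨d, hd0, hd⟩ := upper_of_none ht' hf' hne2
  rw [hd, mem_pull, phi_uS] at hM'
  have h3 := h0 _ _ (by rw [star_mul', C.fix, C.skew, mul_neg]) hM'
  rcases mul_eq_zero.1 h3 with h | h
  · exact hd0 (Subtype.ext h)
  · exact C.ne h

/-- An element of the point stabiliser commuting with the involution of the line, as an element of `SL₂`. -/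
theorem exists_upper (h2 : (2 : F) ≠ 0) {w : Fin 3 → F} (hw : w ∈ Wsub i j) (hww : herm w w = 1)
    {c : Matrix.SpecialLinearGroup (Fin 2) L} (hc : c.1 = (-1 : L) • (1 : Matrix (Fin 2) (Fin 2) L))
    {g : Cfsg.SU 3 F q} (hg : g ∈ par1 q P) (hcomm : g * phi C c = phi C c * g)
    (hreal : star (sc e f g) = sc e f g) :
    ∃ M, phi C M = g ∧ M.1 1 0 = 0 ∧ ((M.1 0 0 : L) : F) = sc e f g := by
  have hjw := act_phi_W C c hw
  have h1 : act (phi C c) (act g w) = act g w := by rw [← act_mul, ← hcomm, act_mul, hjw]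
  rw [phi_neg C hc] at h1
  have hz : act g w - (2 * herm f (act g w)) • e - (2 * herm e (act g w)) • f = act g w := h1
  have he' : herm e (act g w) = 0 := herm_perp hstar P hg hw
  rw [he', mul_zero, zero_smul, sub_zero, sub_eq_self] at hz
  have hfw : herm f (act g w) = 0 := by
    rcases smul_eq_zero.1 hz with h | h
    · exact (mul_eq_zero.1 h).resolve_left h2
    · exact absurd h (Pair.ne_zero P)
  have hgw : act g w = w := by
    have h3 := rho_formula hstar hF P hg hw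
    rw [rho, hreal, div_self (sc_ne_zero P hg), mul_one] at h3
    have h4 := smul_right_injective (Fin 3 → F) (sc_ne_zero P hg) h3
    rw [act_decomp hstar P hg hw, h4, hfw, zero_smul, add_zero]
  obtain ⟨M, rfl⟩ := mem_range_phi hF C hw hww hgw
  refine ⟨M, rfl, ?_⟩
  have h5 := act_phi_vec C M ![1, 0]
  rw [vec_e, act_point P hg] at h5
  have h6 := congrArg (herm e) h5
  have h7 := congrArg (herm f) h5
  simp only [vec, herm_add_right, herm_smul_right, P.ee, P.ef, P.fe, P.ff, mul_zero, mul_one, zero_add, add_zero,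
    Matrix.mulVec, dotProduct, Fin.sum_univ_two, Matrix.cons_val_zero, Matrix.cons_val_one] at h6 h7
  refine ⟨?_, h7.symm⟩
  rcases mul_eq_zero.1 h6.symm with h | h
  · exact Subtype.ext h
  · exact absurd (inv_eq_zero.1 h) C.ne

/-- A subgroup with a large torus at every point of a line and no root elements. -/
theorem no_line_torus (h2 : (2 : F) ≠ 0) {H : Subgroup (Cfsg.SU 3 F q)} {h : ℕ} (h4 : 4 ≤ h) (hq : 7 ≤ q)
    (h5 : h = 5 → 13 ≤ q) (h0 : ∀ g, NoRoot hstar e (cj g H))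
    {c : Matrix.SpecialLinearGroup (Fin 2) L} (hc : c.1 = (-1 : L) • (1 : Matrix (Fin 2) (Fin 2) L))
    (hcH : phi C c ∈ H)
    (tor : ∀ g : Cfsg.SU 3 F q, phi C c ∈ cj g H → ∃ x ∈ cj g H, x ∈ par1 q P ∧ x * phi C c = phi C c * x ∧
      star (sc e f x) = sc e f x ∧ orderOf (sc e f x ^ 2) = h) : False := by
  classical
  haveI : Fintype L := Fintype.ofFinite L
  obtain ⟨w, hw, hww⟩ := exists_w0 P
  have hqL : Fintype.card L = q := by rw [← Nat.card_eq_fintype_card]; exact C.card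
  obtain ⟨K, hK⟩ : ∃ K, K = pull C H := ⟨_, rfl⟩
  have hcen : Subgroup.center (Matrix.SpecialLinearGroup (Fin 2) L) ≤ K := by
    intro z hz
    obtain ⟨r, hr, hzr⟩ := Matrix.SpecialLinearGroup.mem_center_iff.mp hz
    have hr1 : r = 1 ∨ r = -1 := by
      rw [Fintype.card_fin, pow_two] at hr
      exact mul_self_eq_one_iff.1 hr
    have hzv : z.1 = r • (1 : Matrix (Fin 2) (Fin 2) L) := by
      rw [← hzr, Matrix.scalar_apply]; exact (Matrix.smul_one_eq_diagonal r).symm
    rcases hr1 with rfl | rfl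
    · rw [show z = 1 from Subtype.ext (by rw [hzv, one_smul]; rfl)]
      exact one_mem K
    · rw [show z = c from Subtype.ext (by rw [hzv, hc]), hK, mem_pull]
      exact hcH
  refine no_torus_everywhere K hcen h4 (hqL ▸ hq) (fun h' => hqL ▸ h5 h')
    (fun M hM ht => trace_two C h0 (hK ▸ hM) ht) fun o => ?_
  obtain ⟨M0, hM0⟩ := exists_first (o := o) (L := L)
  have hcc : M0 * c = c * M0 := Subtype.ext (by
    rw [PSL2.val_mul, PSL2.val_mul, hc, Matrix.mul_smul, Matrix.smul_mul, Matrix.mul_one, Matrix.one_mul])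
  have hcH' : phi C c ∈ cj (phi C M0)⁻¹ H := by
    rw [mem_cj, inv_inv, ← map_inv, ← map_mul, ← map_mul, hcc, mul_inv_cancel_right]
    exact hcH
  obtain ⟨x, hx, hxP, hxc, hxr, hxo⟩ := tor _ hcH'
  obtain ⟨M, rfl, h10, h00⟩ := exists_upper hF C h2 hw hww hc hxP hxc hxr
  have hMK : M0 * M * M0⁻¹ ∈ K := hK ▸ mem_pull_cj C (mem_pull C |>.2 hx)
  have hev : M.1 *ᵥ ![1, 0] = M.1 0 0 • ![1, 0] := by
    funext a; fin_cases a <;> simp [Matrix.mulVec, dotProduct, h10]
  refine ⟨_, hMK, M.1 0 0, ?_, ?_⟩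
  · rw [← hM0]; exact conj_eigen M0 M _ hev
  · rw [map_mul, map_mul, map_inv, show PSL2.pr M0 * PSL2.pr M * (PSL2.pr M0)⁻¹ = MulAut.conj (PSL2.pr M0) (PSL2.pr M)
      from rfl, MulEquiv.orderOf_eq, ← hxo, ← h00]
    refine orderOf_eq_orderOf_iff.2 fun k => ?_
    have hpk : (M ^ k).1 *ᵥ ![1, 0] = (M.1 0 0) ^ k • ![1, 0] := pow_eigen hev k
    have hk00 : (M ^ k).1 0 0 = (M.1 0 0) ^ k := by simpa [Matrix.mulVec, dotProduct] using congrFun hpk 0
    have hk10 : (M ^ k).1 1 0 = 0 := by simpa [Matrix.mulVec, dotProduct] using congrFun hpk 1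
    rw [← map_pow, ← map_one (PSL2.pr (F := L)), PSL2.pr_eq_iff, ← pow_mul, mul_comm 2 k, pow_mul]
    constructor
    · rintro ⟨ε, hε, he⟩
      have h1 : (M.1 0 0) ^ k = ε := by rw [← hk00, he]; simp
      rw [← SubmonoidClass.coe_pow, h1, pow_two, ← Subfield.coe_mul, hε]
      rfl
    · intro hk
      rw [← SubmonoidClass.coe_pow, ← SubmonoidClass.coe_pow] at hk
      have hsq : (M.1 0 0) ^ k * (M.1 0 0) ^ k = 1 := by rw [← pow_two]; exact Subtype.ext hk
      refine ⟨(M.1 0 0) ^ k, hsq, ?_⟩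
      have hdet : (M ^ k).1 0 0 * (M ^ k).1 1 1 - (M ^ k).1 0 1 * (M ^ k).1 1 0 = 1 := by
        rw [← Matrix.det_fin_two]; exact (M ^ k).2
      rw [hk00, hk10, mul_zero, sub_zero] at hdet
      have h11 : (M ^ k).1 1 1 = (M.1 0 0) ^ k := by
        linear_combination (M.1 0 0) ^ k * hdet - (M ^ k).1 1 1 * hsq
      obtain ⟨ε, hε⟩ : ∃ ε, ε = (M.1 0 0) ^ k := ⟨_, rfl⟩
      rw [← hε] at hk00 h11 hsq ⊢
      have hMk : M0 * M ^ k * M0⁻¹ ∈ K := by
        have := pow_mem hMK k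
        rwa [conj_pow] at this
      have hmem : ∃ Y ∈ K, Y.1 = ε • (M0 * M ^ k * M0⁻¹).1 := by
        rcases mul_self_eq_one_iff.1 hsq with h | h
        · exact ⟨_, hMk, by rw [h, one_smul]⟩
        · obtain ⟨Y, hY, hYe⟩ := neg_mem_of_center hcen hMk
          exact ⟨Y, hY, by rw [hYe, h, neg_one_smul]⟩
      obtain ⟨Y, hY, hYe⟩ := hmem
      have hY1 : Y = 1 := trace_two C h0 (hK ▸ hY) (by
        rw [hYe, Matrix.trace_smul, conj_trace, Matrix.trace_fin_two, hk00, h11, smul_eq_mul]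
        linear_combination 2 * hsq)
      rw [hY1] at hYe
      have h9 : (M0 * M ^ k * M0⁻¹).1 = ε • (1 : Matrix (Fin 2) (Fin 2) L) := by
        rw [show (1 : Matrix (Fin 2) (Fin 2) L) = (1 : Matrix.SpecialLinearGroup (Fin 2) L).1 from rfl, hYe,
          smul_smul, hsq, one_smul]
      have h10' : M ^ k = M0⁻¹ * (M0 * M ^ k * M0⁻¹) * M0 := by group
      rw [h10', PSL2.val_mul, PSL2.val_mul, h9, Matrix.mul_smul, Matrix.mul_one, Matrix.smul_mul, ← PSL2.val_mul,
        inv_mul_cancel]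

omit hF in
/-- A root element of the point in the coordinates of the line. -/
theorem uS_mem {H : Subgroup (Cfsg.SU 3 F q)} {t : F} (ht : star t = -t) (ht0 : t ≠ 0) (hm : zel hstar e t ∈ H) :
    ∃ c : L, c ≠ 0 ∧ PSL2.uS c ∈ pull C H := by
  obtain ⟨c, hc⟩ := exists_coord C ht
  exact ⟨c, fun h => ht0 (by rw [← hc, h]; simp), by rw [mem_pull, phi_uS, hc]; exact hm⟩

include C in
/-- Root elements at every point but not the whole root group. -/
theorem root_line {H : Subgroup (Cfsg.SU 3 F q)} (hroot : ∀ g, ¬ NoRoot hstar e (cj g H))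
    (hfull : Nat.card (rootG hstar P H) < q) :
    (Even q ∧ Nat.card (rootG hstar P H) = 2) ∨ (q = 9 ∧ Nat.card (rootG hstar P H) = 3) := by
  classical
  haveI : Fintype L := Fintype.ofFinite L
  obtain ⟨p, k, σ, hp, hchar, hqp, hk, -⟩ := Classical.exists_usigma hF
  haveI := hchar
  haveI : Fact p.Prime := ⟨hp⟩
  haveI : CharP L p := inferInstance
  have hqL : Fintype.card L = q := by rw [← Nat.card_eq_fintype_card]; exact C.card
  obtain ⟨K, hK⟩ : ∃ K, K = pull C H ⊔ Subgroup.center (Matrix.SpecialLinearGroup (Fin 2) L) := ⟨_, rfl⟩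
  have hroots : ∀ o : Option L, ∃ M ∈ K, M.1 ≠ 1 ∧ M.1.trace = 2 ∧ M.1 *ᵥ ptv o = ptv o := by
    intro o
    obtain ⟨M0, hM0⟩ := exists_first (o := o) (L := L)
    have hr := hroot (phi C M0)⁻¹
    rw [NoRoot] at hr
    push Not at hr
    obtain ⟨t, ht, hm, ht0⟩ := hr
    obtain ⟨c, hc0, hc⟩ := uS_mem C ht ht0 hm
    refine ⟨_, hK ▸ Subgroup.mem_sup_left (mem_pull_cj C hc), fun h => hc0 ?_, ?_, ?_⟩
    · have h1 : M0 * PSL2.uS c * M0⁻¹ = 1 := Subtype.ext h
      rw [conj_eq_one_iff] at h1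
      simpa using congrArg (fun A : Matrix.SpecialLinearGroup (Fin 2) L => A.1 0 1) h1
    · rw [conj_trace, PSL2.uS_val, Matrix.trace_fin_two]
      simp [one_add_one_eq_two]
    · have h1 := conj_eigen M0 (PSL2.uS c) (v := ![1, 0]) 1 (by
        rw [one_smul]; funext a; fin_cases a <;> simp [Matrix.mulVec, dotProduct])
      rwa [hM0, one_smul] at h1
  have hup : ∀ c : L, PSL2.uS c ∈ K ↔ PSL2.uS c ∈ pull C H := by
    refine fun c => ⟨fun h => ?_, fun h => hK ▸ Subgroup.mem_sup_left h⟩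
    rw [hK, ← SetLike.mem_coe, Subgroup.mul_normal] at h
    obtain ⟨y, hy, z, hz, hyz⟩ := h
    change y * z = PSL2.uS c at hyz
    obtain ⟨r, hr, hzr⟩ := Matrix.SpecialLinearGroup.mem_center_iff.mp hz
    rw [Fintype.card_fin, pow_two] at hr
    rcases mul_self_eq_one_iff.1 hr with rfl | rfl
    · have hz1 : z = 1 := Subtype.ext (by rw [← hzr]; simp)
      rw [hz1, mul_one] at hyz
      exact hyz ▸ hy
    · have hp1 : z ^ (p + 1) = 1 := by
        rcases hp.eq_two_or_odd' with h2' | hodd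
        · have h20 : (-1 : L) = 1 := by
            subst h2'
            have : (2 : L) = 0 := by simpa using CharP.cast_eq_zero L 2
            linear_combination -this
          have hz1 : z = 1 := Subtype.ext (by rw [← hzr, h20]; simp)
          rw [hz1, one_pow]
        · refine Subtype.ext ?_
          rw [Matrix.SpecialLinearGroup.coe_pow, ← hzr, ← map_pow, (Odd.add_odd hodd odd_one).neg_one_pow]
          simp
      have hu : ∀ k : ℕ, (PSL2.uS c) ^ k = PSL2.uS ((k : L) * c) := fun k => by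
        induction k with
        | zero => simp; exact Subtype.ext (by simp [Matrix.one_fin_two])
        | succ k ih => rw [pow_succ, ih, ← PSL2.uS_add, Nat.cast_succ, add_mul, one_mul]
      have h1 := pow_mem hy (p + 1)
      have hc1 : Commute y z := (Subgroup.mem_center_iff.1 hz y)
      have h2 : y ^ (p + 1) = PSL2.uS c := by
        calc y ^ (p + 1) = (y * z) ^ (p + 1) := by rw [hc1.mul_pow, hp1, mul_one]
          _ = _ := by rw [hyz, hu, Nat.cast_succ, CharP.cast_eq_zero L p, zero_add, one_mul]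
      exact h2 ▸ h1
  have hcardU : Nat.card (upG K) = Nat.card (rootG hstar P H) := by
    refine Nat.card_congr ⟨fun c => ⟨(c.1 : F) * θ, by rw [star_mul', C.fix, C.skew, mul_neg], ?_⟩,
      fun t => ⟨⟨t.1 / θ, C.onto _ (by rw [star_div₀, t.2.1, C.skew, neg_div_neg_eq])⟩, ?_⟩, fun c => ?_, fun t => ?_⟩
    · rw [← phi_uS]; exact (hup _).1 c.2
    · show PSL2.uS _ ∈ K
      rw [hup, mem_pull, phi_uS]
      rw [show t.1 / θ * θ = t.1 from div_mul_cancel₀ _ C.ne]
      exact t.2.2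
    · exact Subtype.ext (Subtype.ext (mul_div_cancel_right₀ _ C.ne))
    · exact Subtype.ext (div_mul_cancel₀ _ C.ne)
  rw [← hcardU] at hfull ⊢
  have hne : upG K ≠ ⊤ := fun h => by
    rw [h, AddSubgroup.card_top, Nat.card_eq_fintype_card, hqL] at hfull
    omega
  rcases root_everywhere (hK ▸ le_sup_right) (p := p) (m := k) (hqL.trans hqp) hroots hne with ⟨h2', h⟩ | ⟨h9, h⟩
  · exact Or.inl ⟨by rw [hqp, h2']; exact Nat.even_pow.2 ⟨even_two, hk.ne'⟩, h⟩
  · exact Or.inr ⟨hqL ▸ h9, h⟩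

omit hF in
/-- A whole root group spreads over the line. -/
theorem full_partner (C : Chart hstar P L θ) {H : Subgroup (Cfsg.SU 3 F q)}
    (hfull : ∀ t : F, star t = -t → zel hstar e t ∈ H) {d : F} (hd : star d = -d) (hd0 : d ≠ 0)
    (hm : zel hstar f d ∈ H) {t : F} (ht : star t = -t) : zel hstar f t ∈ H := by
  have hco : ∀ t : F, star t = -t → ∃ c : L, (c : F) * θ⁻¹ = t := fun t ht => by
    refine ⟨⟨t * θ, C.onto _ (by rw [star_mul', ht, C.skew, neg_mul_neg])⟩, ?_⟩
    exact mul_inv_cancel_right₀ C.ne t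
  obtain ⟨b, hb⟩ := hco d hd
  have hb0 : b ≠ 0 := fun h => hd0 (by rw [← hb, h]; simp)
  have hu : ∀ x : L, PSL2.uS x ∈ pull C H := fun x => by
    rw [mem_pull, phi_uS]; exact hfull _ (by rw [star_mul', C.fix, C.skew, mul_neg])
  have hv : PSL2.vS b ∈ pull C H := by rw [mem_pull, phi_vS, hb]; exact hm
  obtain ⟨w, hw⟩ : ∃ w, w = PSL2.uS (-b⁻¹) * PSL2.vS b * PSL2.uS (-b⁻¹) := ⟨_, rfl⟩
  have hwm : w ∈ pull C H := hw ▸ mul_mem (mul_mem (hu _) hv) (hu _)
  obtain ⟨c, hc⟩ := hco t ht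
  have hwe : w.1 = !![0, -b⁻¹; b, 0] := by
    rw [hw]; simp [Matrix.mul_fin_two, hb0]
  have key : w * PSL2.uS (-c / (b * b)) = PSL2.vS c * w := by
    apply Subtype.ext
    rw [PSL2.val_mul, PSL2.val_mul, hwe, PSL2.uS_val, PSL2.vS_val]
    ext a a' : 2
    fin_cases a <;> fin_cases a' <;> simp [Matrix.mul_apply, Fin.sum_univ_two]
    field_simp
  rw [← hc, ← phi_vS C, ← mem_pull C, show PSL2.vS c = w * PSL2.uS (-c / (b * b)) * w⁻¹ by
    rw [key, mul_inv_cancel_right]]
  exact mul_mem (mul_mem hwm (hu _)) (inv_mem hwm)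

end Finite

end Cfsg.Agent.Small.UMinIndex.Three
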