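import Cfsg.Agent.Lib.Classical.Dickson.Classify
import Cfsg.Agent.Lib.Classical.LinBasic

/-!
Subgroups of `SL₂` with a large torus or a root element at every point of the line.
-/

set_option autoImplicit false
set_option linter.unusedSectionVars false

namespace Cfsg.Agent.Small.UMinIndex.Three

open Matrix Cfsg.Agent.Small

variable {L : Type*} [Field L] [Fintype L]

local notation "SL2" => Matrix.SpecialLinearGroup (Fin 2) L
local notation "P2" => Matrix.ProjectiveSpecialLinearGroup (Fin 2) L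

/-- Representatives of the points of the line. -/
def ptv : Option L → Fin 2 → L
  | none => ![1, 0]
  | some c => ![c, 1]

theorem ptv_ne (o : Option L) : ptv o ≠ 0 := by
  intro h
  cases o with
  | none => simpa [ptv] using congrFun h 0
  | some c => simpa [ptv] using congrFun h 1

theorem ptv_inj {o o' : Option L} {c : L} (h : ptv o' = c • ptv o) : o' = o := by
  cases o with
  | none => cases o' with
    | none => rfl
    | some b => exact absurd (congrFun h 1) (by simp [ptv])
  | some a => cases o' with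
    | none =>
      have h0 := congrFun h 0
      have h1 := congrFun h 1
      simp [ptv] at h0 h1
      rw [← h1, zero_mul] at h0
      exact absurd h0 one_ne_zero
    | some b =>
      have h0 := congrFun h 0
      have h1 := congrFun h 1
      simp [ptv] at h0 h1
      rw [h0, ← h1, one_mul]

theorem exists_ptv {v : Fin 2 → L} (hv : v ≠ 0) : ∃ (o : Option L) (c : L), c ≠ 0 ∧ v = c • ptv o := by
  by_cases h1 : v 1 = 0
  · refine ⟨none, v 0, fun h0 => hv (funext fun i => by fin_cases i <;> assumption), ?_⟩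
    funext i
    fin_cases i <;> simp [ptv, h1]
  · refine ⟨some (v 0 / v 1), v 1, h1, ?_⟩
    funext i
    fin_cases i
    · simp [ptv]; field_simp
    · simp [ptv]

theorem det_ptv {a b : Option L} (hab : a ≠ b) : ptv a 0 * ptv b 1 - ptv a 1 * ptv b 0 ≠ 0 := by
  intro h
  cases a <;> cases b <;> simp [ptv] at h hab ⊢
  exact hab (by linear_combination h)

/-- Two zeros make a matrix zero. -/
theorem mat_zero {a b : Option L} (hab : b ≠ a) {A : Matrix (Fin 2) (Fin 2) L} (ha : A *ᵥ ptv a = 0)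
    (hb : A *ᵥ ptv b = 0) : A = 0 := by
  have hd := det_ptv (Ne.symm hab)
  have a0 := congrFun ha 0
  have a1 := congrFun ha 1
  have b0 := congrFun hb 0
  have b1 := congrFun hb 1
  simp [Matrix.mulVec, dotProduct, Fin.sum_univ_two] at a0 a1 b0 b1
  ext i j
  fin_cases i <;> fin_cases j <;> simp <;> refine (mul_eq_zero.1 ?_).resolve_left hd
  · linear_combination ptv b 1 * a0 - ptv a 1 * b0
  · linear_combination ptv a 0 * b0 - ptv b 0 * a0
  · linear_combination ptv b 1 * a1 - ptv a 1 * b1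
  · linear_combination ptv a 0 * b1 - ptv b 0 * a1

/-- Three fixed points make a scalar. -/
theorem scalar_of_three {M : Matrix (Fin 2) (Fin 2) L} {a b c : Option L} (hab : a ≠ b) (hac : a ≠ c) (hbc : b ≠ c)
    {x y z : L} (ha : M *ᵥ ptv a = x • ptv a) (hb : M *ᵥ ptv b = y • ptv b) (hc : M *ᵥ ptv c = z • ptv c) :
    M = x • 1 := by
  obtain ⟨u, hu⟩ : ∃ u, u = ptv a := ⟨_, rfl⟩
  obtain ⟨v, hv⟩ : ∃ v, v = ptv b := ⟨_, rfl⟩
  obtain ⟨w, hw⟩ : ∃ w, w = ptv c := ⟨_, rfl⟩
  have hd : u 0 * v 1 - u 1 * v 0 ≠ 0 := by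
    intro h
    rw [hu, hv] at h
    cases a <;> cases b <;> simp [ptv] at h hab ⊢
    exact hab (by linear_combination h)
  have hwd : ∃ s t : L, w = s • u + t • v := by
    refine ⟨(w 0 * v 1 - w 1 * v 0) / (u 0 * v 1 - u 1 * v 0), (u 0 * w 1 - u 1 * w 0) / (u 0 * v 1 - u 1 * v 0), ?_⟩
    funext i
    fin_cases i <;> simp <;> rw [div_mul_eq_mul_div, div_mul_eq_mul_div, ← add_div, eq_div_iff hd] <;> ring
  obtain ⟨s, t, hst⟩ := hwd
  have hs : s ≠ 0 := fun h => hbc (ptv_inj (c := t) (by rw [← hw, hst, h, zero_smul, zero_add, hv])).symm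
  have ht : t ≠ 0 := fun h => hac (ptv_inj (c := s) (by rw [← hw, hst, h, zero_smul, add_zero, hu])).symm
  rw [← hu] at ha
  rw [← hv] at hb
  rw [← hw, hst] at hc
  rw [Matrix.mulVec_add, Matrix.mulVec_smul, Matrix.mulVec_smul, ha, hb] at hc
  have e0 := congrFun hc 0
  have e1 := congrFun hc 1
  simp at e0 e1
  have hxz : s * (x - z) * (u 0 * v 1 - u 1 * v 0) = 0 := by linear_combination v 1 * e0 - v 0 * e1
  have hyz : t * (y - z) * (u 0 * v 1 - u 1 * v 0) = 0 := by linear_combination u 0 * e1 - u 1 * e0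
  have h1 : x = z := sub_eq_zero.1 ((mul_eq_zero.1 ((mul_eq_zero.1 hxz).resolve_right hd)).resolve_left hs)
  have h2 : y = z := sub_eq_zero.1 ((mul_eq_zero.1 ((mul_eq_zero.1 hyz).resolve_right hd)).resolve_left ht)
  have h12 : y = x := h2.trans h1.symm
  subst h12
  have a0 := congrFun ha 0
  have a1 := congrFun ha 1
  have b0 := congrFun hb 0
  have b1 := congrFun hb 1
  simp [Matrix.mulVec, dotProduct, Fin.sum_univ_two] at a0 a1 b0 b1
  ext i j
  fin_cases i <;> fin_cases j <;> simp <;> refine mul_left_cancel₀ hd ?_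
  · linear_combination v 1 * a0 - u 1 * b0
  · linear_combination u 0 * b0 - v 0 * a0
  · linear_combination v 1 * a1 - u 1 * b1
  · linear_combination u 0 * b1 - v 0 * a1

theorem pr_eq_one_of_scalar {M : SL2} {x : L} (h : M.1 = x • 1) : PSL2.pr M = 1 := by
  rw [← map_one (PSL2.pr (F := L)), PSL2.pr_eq_iff]
  refine ⟨x, ?_, by simpa using h⟩
  have := M.2
  rw [h, Matrix.det_smul, Matrix.det_one, mul_one, Fintype.card_fin, pow_two] at this
  exact this

theorem cayley (M : SL2) : M.1 * M.1 = (M.1.trace) • M.1 - 1 := by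
  have hd : M.1 0 0 * M.1 1 1 - M.1 0 1 * M.1 1 0 = 1 := by rw [← Matrix.det_fin_two]; exact M.2
  ext i j
  fin_cases i <;> fin_cases j <;> simp [Matrix.mul_apply, Fin.sum_univ_two, Matrix.trace] <;>
    first
      | ring1
      | linear_combination hd
      | linear_combination -hd

/-- Projectively commuting elements share fixed points. -/
theorem share_of_comm {M M' : SL2} (hc : Commute (PSL2.pr M) (PSL2.pr M')) (h3 : 3 ≤ orderOf (PSL2.pr M))
    (hns : M.1.trace * M.1.trace ≠ 4) {v : Fin 2 → L} (hv : v ≠ 0) {lam : L} (hM : M.1 *ᵥ v = lam • v) :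
    ∃ c : L, M'.1 *ᵥ v = c • v := by
  rw [Commute, SemiconjBy, ← map_mul, ← map_mul, PSL2.pr_eq_iff] at hc
  obtain ⟨ε, hε, h⟩ := hc
  simp only [PSL2.val_mul] at h
  have hlam : lam * lam - M.1.trace * lam + 1 = 0 := by
    have h1 := congrArg (fun A => A *ᵥ v) (cayley M)
    simp only [← Matrix.mulVec_mulVec, Matrix.sub_mulVec, Matrix.smul_mulVec, Matrix.one_mulVec, hM,
      Matrix.mulVec_smul, smul_smul] at h1
    have h2 : (lam * lam - M.1.trace * lam + 1) • v = 0 := by
      rw [add_smul, sub_smul, one_smul, h1]; abel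
    exact (smul_eq_zero.1 h2).resolve_right hv
  have hε1 : ε = 1 ∨ ε = -1 := mul_self_eq_one_iff.1 hε
  have hev : M.1 *ᵥ (M'.1 *ᵥ v) = (ε * lam) • (M'.1 *ᵥ v) := by
    rw [Matrix.mulVec_mulVec, h, Matrix.smul_mulVec, ← Matrix.mulVec_mulVec, hM, Matrix.mulVec_smul, smul_smul]
  have hlam0 : lam ≠ 0 := fun h0 => by rw [h0] at hlam; simp at hlam
  by_cases hεne : ε = 1
  · subst hεne
    rw [one_mul] at hev
    -- the eigenspace is a line
    by_contra hne
    push Not at hne
    obtain ⟨w, hw⟩ : ∃ w, w = M'.1 *ᵥ v := ⟨_, rfl⟩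
    rw [← hw] at hev hne
    have hd : v 0 * w 1 - v 1 * w 0 ≠ 0 := fun hd => by
      by_cases h0 : v 0 = 0
      · have h1 : v 1 ≠ 0 := fun h1 => hv (funext fun i => by fin_cases i <;> assumption)
        refine hne (w 1 / v 1) (funext fun i => ?_)
        fin_cases i
        · simp [h0] at hd ⊢; exact hd.resolve_left h1
        · simp; field_simp
      · refine hne (w 0 / v 0) (funext fun i => ?_)
        fin_cases i
        · simp; field_simp
        · simp; field_simp; linear_combination hd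
    have a0 := congrFun hM 0
    have a1 := congrFun hM 1
    have b0 := congrFun hev 0
    have b1 := congrFun hev 1
    simp [Matrix.mulVec, dotProduct, Fin.sum_univ_two] at a0 a1 b0 b1
    have e00 : M.1 0 0 = lam := mul_left_cancel₀ hd (by linear_combination w 1 * a0 - v 1 * b0)
    have e11 : M.1 1 1 = lam := mul_left_cancel₀ hd (by linear_combination v 0 * b1 - w 0 * a1)
    refine hns ?_
    rw [Matrix.trace_fin_two, e00, e11]
    have : M.1.trace = lam + lam := by rw [Matrix.trace_fin_two, e00, e11]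
    rw [this] at hlam
    linear_combination -4 * hlam
  · exfalso
    obtain rfl := hε1.resolve_left hεne
    by_cases hw0 : M'.1 *ᵥ v = 0
    · refine hv ?_
      rw [← Matrix.one_mulVec v, ← one_smul L (1 : Matrix (Fin 2) (Fin 2) L), ← M'.2, ← Matrix.adjugate_mul,
        ← Matrix.mulVec_mulVec, hw0, Matrix.mulVec_zero]
    have hlam' : (-1 * lam) * (-1 * lam) - M.1.trace * (-1 * lam) + 1 = 0 := by
      have h1 := congrArg (fun A => A *ᵥ (M'.1 *ᵥ v)) (cayley M)
      simp only [← Matrix.mulVec_mulVec, Matrix.sub_mulVec, Matrix.smul_mulVec, Matrix.one_mulVec] at h1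
      rw [hev, Matrix.mulVec_smul, hev, smul_smul, smul_smul] at h1
      have h2 : (-1 * lam * (-1 * lam) - M.1.trace * (-1 * lam) + 1) • (M'.1 *ᵥ v) = 0 := by
        rw [add_smul, sub_smul, one_smul, h1]; abel
      exact (smul_eq_zero.1 h2).resolve_right hw0
    have h2t : (2 * lam) * M.1.trace = 0 := by linear_combination hlam' - hlam
    have htr : M.1.trace = 0 := by
      rcases mul_eq_zero.1 h2t with h2 | h2
      · have h20 : (2 : L) = 0 := (mul_eq_zero.1 h2).resolve_right hlam0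
        exact absurd (by linear_combination -h20) hεne
      · exact h2
    have hsq : PSL2.pr M * PSL2.pr M = 1 := by
      rw [← map_mul]
      refine pr_eq_one_of_scalar (x := -1) ?_
      rw [PSL2.val_mul, cayley, htr, zero_smul, zero_sub, neg_smul, one_smul]
    have := orderOf_le_of_pow_eq_one (x := PSL2.pr M) (n := 2) (by norm_num) (by rw [pow_two, hsq])
    omega

section Counting

/-- Fixed points of one element number at most two. -/
theorem fixed_le_two {M : SL2} (hM : PSL2.pr M ≠ 1) (S : Finset (Option L))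
    (hS : ∀ o ∈ S, ∃ x : L, M.1 *ᵥ ptv o = x • ptv o) : S.card ≤ 2 := by
  classical
  by_contra h
  obtain ⟨a, ha, b, hb, c, hc, hab, hac, hbc⟩ := Finset.two_lt_card.1 (by omega : 2 < S.card)
  obtain ⟨x, hx⟩ := hS a ha
  obtain ⟨y, hy⟩ := hS b hb
  obtain ⟨z, hz⟩ := hS c hc
  exact hM (pr_eq_one_of_scalar (scalar_of_three hab hac hbc hx hy hz))

theorem pow_eigen {M : SL2} {v : Fin 2 → L} {x : L} (h : M.1 *ᵥ v = x • v) :
    ∀ k : ℕ, (M ^ k).1 *ᵥ v = x ^ k • v
  | 0 => by simp
  | k + 1 => by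
    rw [pow_succ, PSL2.val_mul, ← Matrix.mulVec_mulVec, h, Matrix.mulVec_smul, pow_eigen h k, smul_smul,
      ← pow_succ']

theorem eigen_pr {M M' : SL2} (h : PSL2.pr M = PSL2.pr M') {v : Fin 2 → L} (hM : ∃ x : L, M'.1 *ᵥ v = x • v) :
    ∃ x : L, M.1 *ᵥ v = x • v := by
  obtain ⟨ε, -, hεM⟩ := (PSL2.pr_eq_iff _ _).1 h
  obtain ⟨x, hx⟩ := hM
  exact ⟨ε * x, by rw [hεM, Matrix.smul_mulVec, hx, smul_smul]⟩

/-- Elements of one order cover the points at most twice. -/
theorem cover_bound {Y : Type*} [Group Y] [Fintype Y] [DecidableEq Y] (K : Subgroup SL2)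
    (e : ↥(K.map PSL2.pr) ≃* Y) {h : ℕ} (T : Finset ℕ) (hT : ∀ k ∈ T, k < h ∧ k.Coprime h) (h2 : 2 ≤ h)
    (tor : ∀ o : Option L, ∃ M ∈ K, ∃ x : L, M.1 *ᵥ ptv o = x • ptv o ∧ orderOf (PSL2.pr M) = h)
    {N : ℕ} (hN : (Finset.univ.filter fun y : Y => y ^ h = 1 ∧ orderOf y = h).card ≤ N) :
    (Fintype.card L + 1) * T.card ≤ 2 * N := by
  classical
  choose M hMK x hx hord using tor
  let img : Option L × ℕ → Y := fun p => e ⟨PSL2.pr (M p.1 ^ p.2), Subgroup.mem_map_of_mem _ (pow_mem (hMK p.1) _)⟩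
  have hom : ∀ o, orderOf (e ⟨PSL2.pr (M o), Subgroup.mem_map_of_mem _ (hMK o)⟩) = h := fun o => by
    rw [MulEquiv.orderOf_eq, ← Subgroup.orderOf_coe]
    exact hord o
  have himg : ∀ p : Option L × ℕ, img p = e ⟨PSL2.pr (M p.1), Subgroup.mem_map_of_mem _ (hMK p.1)⟩ ^ p.2 := fun p => by
    rw [← map_pow]
    exact congrArg e (Subtype.ext (by simp))
  have hmap : Set.MapsTo img ((Finset.univ ×ˢ T : Finset (Option L × ℕ)) : Set (Option L × ℕ))
      ((Finset.univ.filter fun y : Y => y ^ h = 1 ∧ orderOf y = h : Finset Y) : Set Y) := by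
    intro p hp
    rw [Finset.mem_coe, Finset.mem_product] at hp
    rw [Finset.mem_coe, Finset.mem_filter]
    have ho : orderOf (img p) = h := by
      rw [himg, Nat.Coprime.orderOf_pow (by rw [hom]; exact (hT _ hp.2).2.symm), hom]
    exact ⟨Finset.mem_univ _, by rw [← ho]; exact pow_orderOf_eq_one _, ho⟩
  have hfib : ∀ y ∈ (Finset.univ.filter fun y : Y => y ^ h = 1 ∧ orderOf y = h),
      ((Finset.univ ×ˢ T).filter fun p => img p = y).card ≤ 2 := by
    intro y hy
    have hinj : Set.InjOn Prod.fst (((Finset.univ ×ˢ T).filter fun p => img p = y : Finset (Option L × ℕ)) : Set (Option L × ℕ)) := by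
      intro p hp p' hp' he
      simp only [Finset.coe_filter, Finset.mem_product, Set.mem_setOf_eq] at hp hp'
      refine Prod.ext he ?_
      have h1 := hp.2.trans hp'.2.symm
      rw [himg, himg, ← he] at h1
      exact pow_injOn_Iio_orderOf (by simpa [hom] using (hT _ hp.1.2).1) (by simpa [hom] using (hT _ hp'.1.2).1) h1
    rw [← Finset.card_image_of_injOn hinj]
    rcases ((Finset.univ ×ˢ T).filter fun p => img p = y).eq_empty_or_nonempty with he | ⟨p0, hp0⟩
    · rw [he, Finset.image_empty, Finset.card_empty]; omega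
    · have hne : PSL2.pr (M p0.1 ^ p0.2) ≠ 1 := fun h1 => by
        have h0 : img p0 = 1 := by
          rw [← map_one e]
          exact congrArg e (Subtype.ext h1)
        have hy2 := (Finset.mem_filter.1 hy).2.2
        rw [← (Finset.mem_filter.1 hp0).2, h0, orderOf_one] at hy2
        omega
      refine fixed_le_two (M := M p0.1 ^ p0.2) hne _ fun o ho => ?_
      obtain ⟨p, hp, rfl⟩ := Finset.mem_image.1 ho
      refine eigen_pr (M' := M p.1 ^ p.2) ?_ ⟨_, pow_eigen (hx p.1) p.2⟩
      exact congrArg Subtype.val (e.injective ((Finset.mem_filter.1 hp0).2.trans (Finset.mem_filter.1 hp).2.symm))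
  have h1 := Finset.card_le_mul_card_image_of_maps_to hmap 2 hfib
  rw [Finset.card_product, Finset.card_univ, Fintype.card_option] at h1
  exact h1.trans (Nat.mul_le_mul_left 2 hN)

/-- Root elements at distinct points are distinct. -/
theorem root_bound {Y : Type*} [Group Y] [Fintype Y] [DecidableEq Y] (K : Subgroup SL2)
    (e : ↥(K.map PSL2.pr) ≃* Y) {p : ℕ} [Fact p.Prime] [CharP L p] (h2 : (2 : L) ≠ 0)
    (hroot : ∀ o : Option L, ∃ M ∈ K, M.1 ≠ 1 ∧ M.1.trace = 2 ∧ M.1 *ᵥ ptv o = ptv o)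
    {N : ℕ} (hN : (Finset.univ.filter fun y : Y => y ^ p = 1 ∧ y ≠ 1).card ≤ N) :
    (Fintype.card L + 1) * (p - 1) ≤ N := by
  classical
  choose M hMK hM1 htr hfix using hroot
  have hN1 : ∀ o, (M o).1 = 1 + ((M o).1 - 1) ∧ ((M o).1 - 1) * ((M o).1 - 1) = 0 := fun o => by
    refine ⟨by abel, ?_⟩
    rw [sub_mul, mul_sub, mul_one, one_mul, cayley, htr, two_smul]
    abel
  have hpow : ∀ o (k : ℕ), (M o ^ k).1 = 1 + (k : L) • ((M o).1 - 1) := fun o k => by
    induction k with
    | zero => simp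
    | succ k ih =>
      obtain ⟨N, hNd⟩ : ∃ N, N = (M o).1 - 1 := ⟨_, rfl⟩
      have hMN : (M o).1 = 1 + N := by rw [hNd]; abel
      have hNN : N * N = 0 := by rw [hNd]; exact (hN1 o).2
      rw [pow_succ, PSL2.val_mul, ih, ← hNd, hMN, add_mul, one_mul, Matrix.smul_mul, mul_add, mul_one, hNN, add_zero,
        Nat.cast_succ, add_smul, one_smul]
      abel
  have hscal : ∀ o (k : ℕ), (k : L) ≠ 0 → ∀ x : L, (M o ^ k).1 ≠ x • 1 := by
    intro o k hk x hx
    rw [hpow] at hx
    have h1 : (k : L) • ((M o).1 - 1) = (x - 1) • (1 : Matrix (Fin 2) (Fin 2) L) := by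
      rw [sub_smul, one_smul, ← hx]; abel
    have h0 := congrArg Matrix.trace h1
    rw [Matrix.trace_smul, Matrix.trace_sub, htr, Matrix.trace_one, Matrix.trace_smul, Matrix.trace_one,
      Fintype.card_fin, Nat.cast_ofNat, sub_self, smul_zero, smul_eq_mul] at h0
    have hx1 : x - 1 = 0 := (mul_eq_zero.1 h0.symm).resolve_right h2
    rw [hx1, zero_smul] at h1
    exact hM1 o (sub_eq_zero.1 ((smul_eq_zero.1 h1).resolve_left hk))
  have hkne : ∀ k ∈ Finset.Icc 1 (p - 1), ((k : ℕ) : L) ≠ 0 := fun k hk h0 => by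
    have hk' := Finset.mem_Icc.1 hk
    have := Nat.le_of_dvd hk'.1 ((CharP.cast_eq_zero_iff L p k).1 h0)
    omega
  let img : Option L × ℕ → Y := fun z => e ⟨PSL2.pr (M z.1 ^ z.2), Subgroup.mem_map_of_mem _ (pow_mem (hMK z.1) _)⟩
  have himg : ∀ z : Option L × ℕ, z.2 ∈ Finset.Icc 1 (p - 1) → img z ^ p = 1 ∧ img z ≠ 1 := by
    intro z hz
    constructor
    · rw [← map_pow, MulEquiv.map_eq_one_iff]
      refine Subtype.ext ?_
      rw [SubmonoidClass.coe_pow, OneMemClass.coe_one, ← map_pow]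
      refine pr_eq_one_of_scalar (x := 1) ?_
      rw [← pow_mul, hpow, Nat.cast_mul, CharP.cast_eq_zero L p, mul_zero, zero_smul, add_zero, one_smul]
    · intro h1
      rw [MulEquiv.map_eq_one_iff] at h1
      have h1' : PSL2.pr (M z.1 ^ z.2) = PSL2.pr 1 := by rw [map_one]; exact congrArg Subtype.val h1
      obtain ⟨ε, -, hε⟩ := (PSL2.pr_eq_iff _ _).1 h1'
      exact hscal _ _ (hkne _ hz) ε (by simpa using hε)
  refine le_trans ?_ hN
  rw [← Fintype.card_option, ← Finset.card_univ,
    show p - 1 = (Finset.Icc 1 (p - 1)).card by rw [Nat.card_Icc]; omega, ← Finset.card_product]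
  refine Finset.card_le_card_of_injOn img (fun z hz => ?_) fun z hz z' hz' he => ?_
  · rw [Finset.mem_coe, Finset.mem_product] at hz
    exact Finset.mem_filter.2 ⟨Finset.mem_univ _, himg z hz.2⟩
  · rw [Finset.mem_coe, Finset.mem_product] at hz hz'
    have h1 : PSL2.pr (M z.1 ^ z.2) = PSL2.pr (M z'.1 ^ z'.2) := congrArg Subtype.val (e.injective he)
    obtain ⟨ε, hε, hεM⟩ := (PSL2.pr_eq_iff _ _).1 h1
    have htr' : ∀ o (k : ℕ), (M o ^ k).1.trace = 2 := fun o k => by
      rw [hpow, Matrix.trace_add, Matrix.trace_smul, Matrix.trace_sub, htr, Matrix.trace_one, Fintype.card_fin,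
        Nat.cast_ofNat, sub_self, smul_zero, add_zero]
    have hε1 : ε = 1 := by
      have h0 := congrArg Matrix.trace hεM
      rw [Matrix.trace_smul, htr', htr', smul_eq_mul] at h0
      exact mul_right_cancel₀ h2 (h0.symm.trans (one_mul 2).symm)
    rw [hε1, one_smul, hpow, hpow, add_right_inj] at hεM
    have hk := hkne _ hz.2
    have hk' := hkne _ hz'.2
    have ho : z'.1 = z.1 := by
      by_contra hne
      have f1 : ((M z.1).1 - 1) *ᵥ ptv z.1 = 0 := by rw [Matrix.sub_mulVec, hfix, Matrix.one_mulVec, sub_self]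
      have f2 : ((M z.1).1 - 1) *ᵥ ptv z'.1 = 0 := by
        have e2 : ((M z'.1).1 - 1) *ᵥ ptv z'.1 = 0 := by rw [Matrix.sub_mulVec, hfix, Matrix.one_mulVec, sub_self]
        have := congrArg (fun A => A *ᵥ ptv z'.1) hεM
        simp only [Matrix.smul_mulVec, e2, smul_zero] at this
        exact (smul_eq_zero.1 this).resolve_left hk
      refine hM1 z.1 (sub_eq_zero.1 (mat_zero hne f1 f2))
    refine Prod.ext ho.symm ?_
    rw [ho] at hεM
    have h3 : (z.2 : L) = z'.2 := smul_left_injective L (sub_ne_zero.2 (hM1 z.1)) hεM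
    have b1 := Finset.mem_Icc.1 hz.2
    have b2 := Finset.mem_Icc.1 hz'.2
    exact CharP.natCast_injOn_Iio L p (show z.2 < p by omega) (show z'.2 < p by omega) h3

end Counting

end Cfsg.Agent.Small.UMinIndex.Three
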