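import Cfsg.Agent.Lib.Small.UMinIndex.ThreeLine

/-!
Orbit sizes, transitive subgroups and centralising torus elements for the minimal index in dimension three.
-/

set_option autoImplicit false
set_option linter.unusedSectionVars false
set_option linter.style.haveILetI false

namespace Cfsg.Agent.Small.UMinIndex.Three

open Matrix Cfsg.Agent.Small Cfsg.Agent.Small.Unitary Cfsg.Agent.Small.UCover

variable {F : Type*} [Field F] [Fintype F] [StarRing F] {q : ℕ} {i j : Fin 3} {e f : Fin 3 → F}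
  {hstar : ∀ x : F, star x = x ^ q}

/-- The standing hypotheses on a subgroup. -/
structure Hyp (q : ℕ) (H : Subgroup (Cfsg.SU 3 F q)) : Prop where
  center : Subgroup.center (Cfsg.SU 3 F q) ≤ H
  ne_top : H ≠ ⊤
  small : H.index ≤ q ^ 3

theorem Hyp.cj {H : Subgroup (Cfsg.SU 3 F q)} (h : Hyp q H) (g : Cfsg.SU 3 F q) : Hyp q (cj g H) := by
  refine ⟨fun z hz => ?_, cj_ne_top h.ne_top, by rw [cj_index]; exact h.small⟩
  rw [mem_cj]
  refine h.center ?_
  rw [show g⁻¹ * z * g = z by rw [mul_assoc, ← Subgroup.mem_center_iff.1 hz g, inv_mul_cancel_left]]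
  exact hz

theorem pts_three : pts q 3 = q ^ 3 + 1 := by simp [pts]; ring

theorem noRoot_par (P : Pair i j e f) {p : Cfsg.SU 3 F q} (hp : p ∈ par1 q P) {H : Subgroup (Cfsg.SU 3 F q)}
    (h : NoRoot hstar e H) : NoRoot hstar e (UMinIndex.cj p H) := by
  intro u hu hm
  rw [mem_cj, zel] at hm
  obtain ⟨μ, hμ⟩ : ∃ μ, μ = sc e f p⁻¹ := ⟨_, rfl⟩
  have hμ0 : μ ≠ 0 := hμ ▸ sc_ne_zero P (inv_mem hp)
  have h1 := eich_conj hstar p⁻¹ ((EOk_zero_iff P.ee).2 hu)
  rw [inv_inv, show act p⁻¹ (0 : Fin 3 → F) = 0 from Matrix.mulVec_zero _, act_point P (inv_mem hp), ← hμ,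
    eich_smul hstar ((EOk_zero_iff (e := μ • e) (by simp [herm_smul_left, herm_smul_right, P.ee])).2 hu) hμ0,
    smul_zero] at h1
  rw [h1] at hm
  exact (mul_eq_zero.1 (h _ (by rw [star_mul', star_mul', star_star, hu]; ring) hm)).resolve_left
    (mul_ne_zero (star_ne_zero.2 hμ0) hμ0)

section Finite

variable (hF : Fintype.card F = q ^ 2) (P : Pair i j e f)
include hF hstar

/-- Radical elements fix no other point. -/
theorem rad_free {x : Cfsg.SU 3 F q} (hx : x ∈ rad hstar P) {g : Cfsg.SU 3 F q}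
    (h1 : g⁻¹ * x * g ∈ par1 q P) (hg : g ∉ par1 q P) : x = 1 := by
  obtain ⟨w, hw, hww⟩ := exists_w0 P
  obtain ⟨z, a, hz, h, rfl⟩ := hx
  obtain ⟨y, hy⟩ : ∃ y, y = act g e := ⟨_, rfl⟩
  have hyy : herm y y = 0 := by rw [hy, herm_act hstar]; exact P.ee
  have hey : herm e y ≠ 0 := by
    intro h0
    have hdec : y = herm f y • e + projW e f y := by
      conv_lhs => rw [eq_projW_add e f y, h0, zero_smul, add_zero]
    have hz0 : projW e f y = 0 := by
      have hW := W_eq hF P hw hww (P.projW_mem y)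
      have hcW := P.projW_mem y
      have h2 : herm (projW e f y) (projW e f y) = 0 := by
        rw [hdec] at hyy
        simpa only [herm_add_left, herm_add_right, herm_smul_left, herm_smul_right, P.ee, (P.herm_W hcW).1,
          (P.W_herm hcW).1, mul_zero, add_zero, zero_add] using hyy
      rw [hW, herm_smul_left, herm_smul_right, hww, mul_one, mul_eq_zero] at h2
      rw [hW]
      rcases h2 with h2 | h2
      · rw [star_eq_zero.1 h2, zero_smul]
      · rw [h2, zero_smul]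
    refine hg ⟨herm f y, ?_⟩
    rw [hz0, add_zero] at hdec
    rw [← hy]
    exact hdec
  obtain ⟨d, hd⟩ := h1
  have h3 : act (eich hstar e z a) y = d • y := by
    rw [hy, ← act_smul, ← hd, ← act_mul g, ← act_mul]
    congr 1
    group
  have h4 : herm e (act (eich hstar e z a) y) = herm e y := by
    have h9 := herm_act hstar (eich hstar e z a) e y
    rwa [act_eich_self hstar h] at h9
  rw [h3, herm_smul_right] at h4
  have hd1 : d = 1 := (mul_eq_right₀ hey).1 h4
  rw [hd1, one_smul, act_eich hstar h] at h3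
  have h5 : herm e y • z + (a * herm e y - herm z y) • e = 0 := by
    have h7 := h3
    rw [add_assoc] at h7
    exact add_eq_left.1 h7
  have h6 : z = 0 := by
    have h8 := congrArg (herm w) h5
    rw [herm_add_right, herm_smul_right, herm_smul_right, (P.W_herm hw).1, mul_zero, add_zero, herm_zero_right] at h8
    rw [W_eq hF P hw hww hz, (mul_eq_zero.1 h8).resolve_left hey, zero_smul]
  subst h6
  rw [smul_zero, zero_add, herm_zero_left, sub_zero] at h5
  have ha : a = 0 := ((mul_eq_zero.1 ((smul_eq_zero.1 h5).resolve_right (Pair.ne_zero P))).resolve_right hey)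
  rw [ha, eich_zero_zero hstar P.ee]

/-- The orbit of the point. -/
theorem orbit_facts (H : Subgroup (Cfsg.SU 3 F q)) :
    (par1 q P).relIndex H ≤ q ^ 3 + 1 ∧
    (∃ k, (par1 q P).relIndex H = 1 + k * Nat.card (H ⊓ rad hstar P : Subgroup (Cfsg.SU 3 F q))) ∧
    Nat.card H = (par1 q P).relIndex H *
      (Nat.card (H ⊓ rad hstar P : Subgroup (Cfsg.SU 3 F q)) * Nat.card (torD P H)) ∧
    H.index * Nat.card H = (q ^ 3 + 1) * (q ^ 3 * (q ^ 2 - 1)) := by
  refine ⟨?_, orbit_mod H (par1 q P) (rad hstar P) (rad_le_par P) (fun x hx g h1 h2 => rad_free hF P hx h1 h2),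
    ?_, ?_⟩
  · rw [← pts_three, ← index_par hstar hF P (le_refl 3)]
    exact Subgroup.relIndex_le_of_le_right le_top (by
      rw [Subgroup.relIndex_top_right]; exact Subgroup.index_ne_zero_of_finite) |>.trans_eq
      (Subgroup.relIndex_top_right _)
  · rw [← card_inf_par hstar hF P H, card_inf_mul]
  · rw [H.index_mul_card, card_SU3 hstar hF P]

/-- Small index makes the stabiliser large. -/
theorem stab_big {H : Subgroup (Cfsg.SU 3 F q)} (hH : Hyp q H) :
    q ^ 2 - 1 ≤ Nat.card (H ⊓ rad hstar P : Subgroup (Cfsg.SU 3 F q)) * Nat.card (torD P H) ∧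
    (q ^ 3 + 1) * (q ^ 2 - 1) ≤ Nat.card H := by
  obtain ⟨hs, -, hc, hN⟩ := orbit_facts (hstar := hstar) hF P H
  have hq := Hermitian.q_two_le hF
  have h1 : (q ^ 3 + 1) * (q ^ 2 - 1) ≤ Nat.card H := by
    refine Nat.le_of_mul_le_mul_left (c := q ^ 3) ?_ (pow_pos (by omega) 3)
    rw [mul_left_comm, ← hN]
    exact Nat.mul_le_mul_right _ hH.small
  refine ⟨Nat.le_of_mul_le_mul_left (c := q ^ 3 + 1) ((h1.trans_eq hc).trans ?_) (by omega), h1⟩
  exact Nat.mul_le_mul_right _ hs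

/-- A subgroup transitive on the points meets every coset of the stabiliser. -/
theorem trans_decomp {H : Subgroup (Cfsg.SU 3 F q)} (hs : (par1 q P).relIndex H = q ^ 3 + 1)
    (g : Cfsg.SU 3 F q) : ∃ p ∈ par1 q P, ∃ h ∈ H, g = h * p := by
  let ψ : H ⧸ (par1 q P).subgroupOf H → Cfsg.SU 3 F q ⧸ par1 q P :=
    Quotient.map' (fun h => h.1) fun a b hab => by
      rw [QuotientGroup.leftRel_apply] at hab ⊢
      exact hab
  have hinj : Function.Injective ψ := by
    intro a b hab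
    induction a using QuotientGroup.induction_on
    induction b using QuotientGroup.induction_on
    exact QuotientGroup.eq.2 (QuotientGroup.eq.1 hab :)
  have hb : Function.Bijective ψ := by
    rw [Nat.bijective_iff_injective_and_card]
    refine ⟨hinj, ?_⟩
    rw [show Nat.card (H ⧸ (par1 q P).subgroupOf H) = (par1 q P).relIndex H from rfl, hs, ← pts_three,
      ← index_par hstar hF P (le_refl 3)]
    rfl
  obtain ⟨c, hc⟩ := hb.2 (QuotientGroup.mk g)
  induction c using QuotientGroup.induction_on with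
  | _ h => exact ⟨h.1⁻¹ * g, QuotientGroup.eq.1 hc, h.1, h.2, (mul_inv_cancel_left _ _).symm⟩

/-- With a transitive subgroup every conjugate is a conjugate under the point stabiliser. -/
theorem trans_cj {H : Subgroup (Cfsg.SU 3 F q)} (hs : (par1 q P).relIndex H = q ^ 3 + 1)
    (g : Cfsg.SU 3 F q) : ∃ p ∈ par1 q P, cj g H = cj p H := by
  obtain ⟨p, hp, h, hh, hgi⟩ := trans_decomp (hstar := hstar) hF P hs g⁻¹
  have hg : g = p⁻¹ * h⁻¹ := by rw [← inv_inv g, hgi, _root_.mul_inv_rev]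
  refine ⟨p⁻¹, inv_mem hp, ?_⟩
  rw [hg, ← cj_cj]
  congr 1
  ext x
  rw [mem_cj, inv_inv]
  exact ⟨fun hx => by simpa [mul_assoc] using mul_mem (mul_mem (inv_mem hh) hx) hh,
    fun hx => mul_mem (mul_mem hh hx) (inv_mem hh)⟩

/-- Involutions of the point stabiliser with scalar minus one are conjugate under the radical. -/
theorem conj_to_phi (hq : Odd q) {L : Subfield F} {θ : F} (C : Chart hstar P L θ)
    {c : Matrix.SpecialLinearGroup (Fin 2) L} (hc : c.1 = (-1 : L) • (1 : Matrix (Fin 2) (Fin 2) L))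
    {y : Cfsg.SU 3 F q} (hy : y ∈ par1 q P) (hys : sc e f y = -1) (hy2 : y * y = 1) :
    ∃ v ∈ rad hstar P, v⁻¹ * phi C c * v = y ∧ v ∈ Subgroup.zpowers ((phi C c)⁻¹ * y) := by
  obtain ⟨J, hJ⟩ : ∃ J, J = phi C c := ⟨_, rfl⟩
  rw [← hJ]
  have hJe : act J e = (-1 : F) • e := by
    rw [hJ, phi_neg C hc, P.fe, P.ee]
    module
  have hJP : J ∈ par1 q P := ⟨-1, hJe⟩
  have hJ2 : J * J = 1 := by
    have hcc : c * c = 1 := Subtype.ext (by
      rw [PSL2.val_mul, hc, Matrix.smul_mul, Matrix.one_mul, smul_smul]; simp)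
    rw [hJ, ← map_mul, hcc, map_one]
  have hu : J⁻¹ * y ∈ rad hstar P := by
    refine mem_rad_of_sc hstar hF P (mul_mem (inv_mem hJP) hy) ?_
    have h1 := sc_mul P hJP (mul_mem (inv_mem hJP) hy)
    rw [mul_inv_cancel_left, hys, sc, hJe, herm_smul_right, P.fe, mul_one, neg_one_mul, neg_inj] at h1
    exact h1.symm
  have hcard : Nat.card (rad hstar P) = q ^ 3 := by rw [card_rad_eq hstar hF (by norm_num) (P := P)]
  obtain ⟨m, hm⟩ := hq.pow (n := 3)
  have hpow : (J⁻¹ * y) ^ (2 * m + 1) = 1 := by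
    rw [← hm, ← hcard]
    exact congrArg Subtype.val (pow_card_eq_one' (x := (⟨_, hu⟩ : rad hstar P)))
  have hinv : J * (J⁻¹ * y) * J = (J⁻¹ * y)⁻¹ := by
    rw [mul_inv_cancel_left, _root_.mul_inv_rev, inv_inv, inv_eq_of_mul_eq_one_right hy2]
  obtain ⟨v, hv, hve⟩ := exists_conj_involution hJ2 hpow hinv
  exact ⟨v, Subgroup.zpowers_le.2 hu hv, hve.trans (mul_inv_cancel_left _ _), hv⟩

/-- A real scalar of the stabiliser is attained by an element commuting with the involution of the line. -/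
theorem torus_elem (hq : Odd q) {L : Subfield F} {θ : F} (C : Chart hstar P L θ)
    {c : Matrix.SpecialLinearGroup (Fin 2) L} (hc : c.1 = (-1 : L) • (1 : Matrix (Fin 2) (Fin 2) L))
    {H : Subgroup (Cfsg.SU 3 F q)} (hcH : phi C c ∈ H) {μ : Fˣ} (hμ : μ ∈ torD P H) :
    ∃ x ∈ H, x ∈ par1 q P ∧ x * phi C c = phi C c * x ∧ sc e f x = μ := by
  obtain ⟨g, hgH, hgP, hgs⟩ := (mem_torD P).1 hμ
  obtain ⟨J, hJ⟩ : ∃ J, J = phi C c := ⟨_, rfl⟩
  have hJe : act J e = (-1 : F) • e := by
    rw [hJ, phi_neg C hc, P.fe, P.ee]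
    module
  have hJP : J ∈ par1 q P := ⟨-1, hJe⟩
  have hJs : sc e f J = -1 := by rw [sc, hJe, herm_smul_right, P.fe, mul_one]
  have hJ2 : J * J = 1 := by
    have hcc : c * c = 1 := Subtype.ext (by
      rw [PSL2.val_mul, hc, Matrix.smul_mul, Matrix.one_mul, smul_smul]; simp)
    rw [hJ, ← map_mul, hcc, map_one]
  have hys : sc e f (g * J * g⁻¹) = -1 := by
    have h1 := sc_mul P (mul_mem (mul_mem hgP hJP) (inv_mem hgP)) hgP
    rw [inv_mul_cancel_right, sc_mul P hgP hJP, hJs, mul_comm] at h1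
    exact (mul_right_cancel₀ (sc_ne_zero P hgP) h1).symm
  have hy2 : g * J * g⁻¹ * (g * J * g⁻¹) = 1 := by
    rw [show g * J * g⁻¹ * (g * J * g⁻¹) = g * (J * J) * g⁻¹ by group, hJ2, mul_one, mul_inv_cancel]
  obtain ⟨v, hvr, hv, hvz⟩ := conj_to_phi (hstar := hstar) hF P hq C hc (mul_mem (mul_mem hgP hJP) (inv_mem hgP)) hys hy2
  rw [← hJ] at hv hvz
  have hvH : v ∈ H := (Subgroup.zpowers_le.2 (mul_mem (inv_mem (hJ ▸ hcH))
    (mul_mem (mul_mem hgH (hJ ▸ hcH)) (inv_mem hgH)))) hvz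
  refine ⟨v * g, mul_mem hvH hgH, mul_mem (rad_le_par P hvr) hgP, ?_, ?_⟩
  · rw [← hJ]
    calc v * g * J = v * (g * J * g⁻¹) * g := by group
      _ = J * (v * g) := by rw [← hv]; group
  · rw [sc_mul P (rad_le_par P hvr) hgP, (sc_of_rad P hvr).2, one_mul, hgs]

end Finite

end Cfsg.Agent.Small.UMinIndex.Three
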